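import Cfsg.Agent.S0942
import Cfsg.Agent.Lib.ExtClosed.Column
import Cfsg.Agent.Lib.Blk83.PairCount
import Cfsg.Agent.Lib.BlockReg.Integral
import Cfsg.Agent.Lib.Char.Orth
import Cfsg.Agent.Lib.Char.Linear
import Mathlib.GroupTheory.Subgroup.Center

/-!
# An element whose conjugates all multiply an involution into its section

If every product `g * a * g⁻¹ * t` is conjugate to `t * e` with `e` in the core of the centralizer
of the involution `t`, then the normal closure of `a` is proper.
-/

set_option autoImplicit false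
set_option linter.style.haveILetI false

open Cfsg

namespace CfsgLib.PairGen

theorem mem_kernel_of_products.{u} {G : Type u} [Group G] [Finite G] (a t : G) (ht : orderOf t = 2)
    (hgen : Subgroup.normalClosure ({a} : Set G) = ⊤)
    (hprod : ∀ g : G, ∃ l e : G, e ∈ Cfsg.centralizerPPrimeCore 2 t ∧
      g * a * g⁻¹ * t = l * (t * e) * l⁻¹) : False := by
  classical
  haveI : Fact (Nat.Prime 2) := ⟨Nat.prime_two⟩
  cases nonempty_fintype G
  obtain ⟨M, hM⟩ := CfsgLib.BlockReg.exists_isPModular Nat.prime_two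
  haveI := hM.2.1
  have ht2 : ∃ k : ℕ, orderOf t = 2 ^ k := ⟨1, by simpa using ht⟩
  have ht1 : t ≠ 1 := by rintro rfl; simp at ht
  -- every character of the block with `χ t ≠ 0` has `a` in its kernel
  have key : ∀ χ : Cfsg.IrrCharacter G, χ ∈ Cfsg.principalBlock M G → (χ : G → ℂ) t ≠ 0 →
      (χ : G → ℂ) a = (χ : G → ℂ) 1 := by
    intro χ hχ hne
    have hconst : ∀ g : G, (χ : G → ℂ) (g * a * g⁻¹ * t) = (χ : G → ℂ) t := by
      intro g
      obtain ⟨l, e, he, hge⟩ := hprod g
      rw [hge, CfsgLib.Char.IsIrrCharacter.isClassFunction χ.2]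
      exact Cfsg.Agent.S0942.result 2 M hM t ht2 e he χ hχ
    have h := CfsgLib.Blk83.sum_conj_mul χ a t
    rw [Finset.sum_congr rfl (fun g _ => hconst g), Finset.sum_const, Finset.card_univ,
      nsmul_eq_mul] at h
    have hG : (Fintype.card G : ℂ) ≠ 0 := Nat.cast_ne_zero.2 Fintype.card_ne_zero
    have h2 : (χ : G → ℂ) t * (χ : G → ℂ) 1 = (χ : G → ℂ) t * (χ : G → ℂ) a := by
      apply mul_left_cancel₀ hG
      rw [← mul_assoc, h]; ring
    exact (mul_left_cancel₀ hne h2).symm
  -- a nonprincipal character of the block not vanishing at `t`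
  have horth := CfsgLib.ExtClosed.col_orth_regular (p := 2) (M := M) hM ht2 ht1 (y := (1 : G))
    (by rw [orderOf_one]; norm_num)
  have hmem : CfsgLib.Char.principalIrr ∈ CfsgLib.Invol.BlockCol.pBlock M G :=
    CfsgLib.Invol.BlockCol.mem_pBlock.2 CfsgLib.Blocks.principalIrr_mem_principalBlock
  obtain ⟨χ, hχ, hne, htne⟩ : ∃ χ ∈ CfsgLib.Invol.BlockCol.pBlock M G, χ ≠ CfsgLib.Char.principalIrr ∧
      (χ : G → ℂ) t ≠ 0 := by
    by_contra hno
    push Not at hno
    rw [Finset.sum_eq_single_of_mem _ hmem (fun χ hχ hne => by rw [hno χ hχ hne, zero_mul])] at horth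
    simp [CfsgLib.Char.principalIrr_apply] at horth
  have hχa := key χ (CfsgLib.Invol.BlockCol.mem_pBlock.1 hχ) htne
  obtain ⟨n, ρ, hρ, he⟩ := χ.2
  have hone : ∀ g : G, ρ g = LinearMap.id := by
    have hle : Subgroup.normalClosure ({a} : Set G) ≤ MonoidHom.ker ρ := by
      refine Subgroup.normalClosure_le_normal ?_
      rintro x rfl
      refine MonoidHom.mem_ker.2 ((CfsgLib.Char.character_eq_degree_iff ρ x).1 ?_)
      rw [he, hχa, ← he, Representation.char_one]
    rw [hgen] at hle
    exact fun g => MonoidHom.mem_ker.1 (hle (Subgroup.mem_top g))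
  have hval : ∀ g : G, (χ : G → ℂ) g = (χ : G → ℂ) 1 := by
    intro g
    rw [← he, (CfsgLib.Char.character_eq_degree_iff ρ g).2 (hone g), Representation.char_one]
  have h0 := CfsgLib.Char.classInner_irr_of_ne χ.2 (CfsgLib.Char.principalIrr (G := G)).2
    (fun e => hne (Subtype.ext e))
  have h1 : (χ : G → ℂ) 1 = 0 := by
    have hp : ∀ g : G, (CfsgLib.Char.principalIrr (G := G) : G → ℂ) g = 1 :=
      CfsgLib.Char.principalIrr_apply
    simp only [Cfsg.classInner, hp, map_one, mul_one] at h0
    rw [Finset.sum_congr rfl (fun g _ => hval g), Finset.sum_const, Finset.card_univ,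
      nsmul_eq_mul, Nat.card_eq_fintype_card, ← mul_assoc,
      inv_mul_cancel₀ (Nat.cast_ne_zero.2 Fintype.card_ne_zero), one_mul] at h0
    exact h0
  exact htne (by rw [hval, h1])

end CfsgLib.PairGen
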