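import Cfsg.Agent.Lib.PairGen.Setup
import Mathlib.GroupTheory.Nilpotent

/-!
# Automorphisms of the commutator form of a flat

`R` has class two modulo the central subgroup `Z`, and `x ↦ ⁅x, x ^ (a ^ i)⁆` is anisotropic. A
`q`-element acting quadratically on the fixed points of `t` in `Z` acts trivially on `R / Z`.
-/

set_option autoImplicit false
set_option linter.style.haveILetI false
set_option linter.unusedSectionVars false

universe u

namespace CfsgLib.PairGen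

open Subgroup
open scoped IsMulCommutative commutatorElement

variable {G : Type u} [Group G]

/-- Class two data. -/
structure Cls (R Z : Subgroup G) : Prop where
  le : Z ≤ R
  central : Z ≤ centralizer (R : Set G)
  comm : ⁅R, R⁆ ≤ Z

namespace Cls

variable {R Z : Subgroup G}

theorem mem_comm (hC : Cls R Z) {x y : G} (hx : x ∈ R) (hy : y ∈ R) : ⁅x, y⁆ ∈ Z :=
  hC.comm (commutator_mem_commutator hx hy)

theorem cmt (hC : Cls R Z) {z x : G} (hz : z ∈ Z) (hx : x ∈ R) : x * z = z * x :=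
  mem_centralizer_iff.1 (hC.central hz) x hx

theorem bracket_mul_left (hC : Cls R Z) {x y z : G} (hx : x ∈ R) (hy : y ∈ R) (hz : z ∈ R) :
    ⁅x * y, z⁆ = ⁅x, z⁆ * ⁅y, z⁆ := by
  have h := hC.cmt (hC.mem_comm hy hz) hx
  have h2 := hC.cmt (hC.mem_comm hx hz) (hC.le (hC.mem_comm hy hz))
  calc ⁅x * y, z⁆ = x * ⁅y, z⁆ * x⁻¹ * ⁅x, z⁆ := by simp [commutatorElement_def]; group
    _ = ⁅y, z⁆ * ⁅x, z⁆ := by rw [h]; group
    _ = _ := h2

theorem bracket_mul_right (hC : Cls R Z) {x y z : G} (hx : x ∈ R) (hy : y ∈ R) (hz : z ∈ R) :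
    ⁅x, y * z⁆ = ⁅x, y⁆ * ⁅x, z⁆ := by
  have h := hC.cmt (hC.mem_comm hx hz) hy
  calc ⁅x, y * z⁆ = ⁅x, y⁆ * (y * ⁅x, z⁆ * y⁻¹) := by simp [commutatorElement_def]; group
    _ = _ := by rw [h]; group

theorem bracket_left_eq_one (hC : Cls R Z) {c y : G} (hc : c ∈ Z) (hy : y ∈ R) : ⁅c, y⁆ = 1 :=
  commutatorElement_eq_one_iff_mul_comm.2 (hC.cmt hc hy).symm

theorem bracket_right_eq_one (hC : Cls R Z) {c y : G} (hc : c ∈ Z) (hy : y ∈ R) : ⁅y, c⁆ = 1 :=
  commutatorElement_eq_one_iff_mul_comm.2 (hC.cmt hc hy)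

theorem bracket_inv_inv (hC : Cls R Z) {x y : G} (hx : x ∈ R) (hy : y ∈ R) :
    ⁅x⁻¹, y⁻¹⁆ = ⁅x, y⁆ := by
  have h1 : ⁅x, y⁻¹⁆ = ⁅x, y⁆⁻¹ := by
    refine eq_inv_of_mul_eq_one_left ?_
    rw [← hC.bracket_mul_right hx (inv_mem hy) hy, inv_mul_cancel, commutatorElement_one_right]
  have h2 : ⁅x⁻¹, y⁻¹⁆ = ⁅x, y⁻¹⁆⁻¹ := by
    refine eq_inv_of_mul_eq_one_left ?_
    rw [← hC.bracket_mul_left (inv_mem hx) hx (inv_mem hy), inv_mul_cancel,
      commutatorElement_one_left]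
  rw [h2, h1, inv_inv]

theorem swap (hC : Cls R Z) {x y : G} (hx : x ∈ R) (hy : y ∈ R) :
    (y * x)⁻¹ * (x * y) ∈ Z := by
  have h : (y * x)⁻¹ * (x * y) = ⁅x⁻¹, y⁻¹⁆ := by simp [commutatorElement_def]; group
  rw [h]; exact hC.mem_comm (inv_mem hx) (inv_mem hy)

theorem isMulCommutative (hC : Cls R Z) : IsMulCommutative Z :=
  IsMulCommutative.of_setLike_mul_comm fun _ hx _ hy => hC.cmt hy (hC.le hx)

theorem normal (hC : Cls R Z) : (Z.subgroupOf R).Normal := ⟨fun n hn g => by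
  rw [mem_subgroupOf] at hn ⊢
  simp only [Subgroup.coe_mul, Subgroup.coe_inv]
  rw [hC.cmt hn g.2, mul_assoc, mul_inv_cancel, mul_one]
  exact hn⟩

end Cls

/-- Conjugation by a normalising element. -/
theorem conj_mem_of_mem_normalizer {K : Subgroup G} {g x : G} (hg : g ∈ normalizer (K : Set G))
    (hx : x ∈ K) : g * x * g⁻¹ ∈ K :=
  (mem_normalizer_iff.1 hg x).1 hx

theorem inv_conj_mem_of_mem_normalizer {K : Subgroup G} {g x : G}
    (hg : g ∈ normalizer (K : Set G)) (hx : x ∈ K) : g⁻¹ * x * g ∈ K := by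
  simpa using conj_mem_of_mem_normalizer (inv_mem hg) hx

/-- The elements of `R` fixed modulo `Z` by the conjugation by `h`. -/
def fixedMod {R Z : Subgroup G} (hC : Cls R Z) {h : G} (hhR : h ∈ normalizer (R : Set G))
    (E : Subgroup G) (hZE : Z ≤ E) (_hER : E ≤ R) : Subgroup G where
  carrier := {x | x ∈ R ∧ x⁻¹ * (h * x * h⁻¹) ∈ E}
  one_mem' := ⟨one_mem R, by simp⟩
  mul_mem' := by
    rintro x y ⟨hx, hxE⟩ ⟨hy, hyE⟩
    refine ⟨mul_mem hx hy, ?_⟩
    set d := x⁻¹ * (h * x * h⁻¹) with hd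
    have hdR : d ∈ R := mul_mem (inv_mem hx) (conj_mem_of_mem_normalizer hhR hx)
    have e : (x * y)⁻¹ * (h * (x * y) * h⁻¹) = (y⁻¹ * d * y * d⁻¹) * d * (y⁻¹ * (h * y * h⁻¹)) := by
      rw [hd]; group
    rw [e]
    refine mul_mem (mul_mem (hZE ?_) hxE) hyE
    have := hC.mem_comm (inv_mem hy) hdR
    rwa [commutatorElement_def, inv_inv] at this
  inv_mem' := by
    rintro x ⟨hx, hxE⟩
    refine ⟨inv_mem hx, ?_⟩
    set d := x⁻¹ * (h * x * h⁻¹) with hd
    have hdR : d ∈ R := mul_mem (inv_mem hx) (conj_mem_of_mem_normalizer hhR hx)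
    have e : (x⁻¹)⁻¹ * (h * x⁻¹ * h⁻¹) = (x * d⁻¹ * x⁻¹ * d) * d⁻¹ := by rw [hd]; group
    rw [e]
    refine mul_mem (hZE ?_) (inv_mem hxE)
    have := hC.mem_comm hx (inv_mem hdR)
    rwa [commutatorElement_def, inv_inv] at this

theorem mem_fixedMod {R Z : Subgroup G} {hC : Cls R Z} {h : G}
    {hhR : h ∈ normalizer (R : Set G)} {E : Subgroup G} {hZE : Z ≤ E} {hER : E ≤ R} {x : G} :
    x ∈ fixedMod hC hhR E hZE hER ↔ x ∈ R ∧ x⁻¹ * (h * x * h⁻¹) ∈ E := Iff.rfl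

/-- Squares detect membership in a subgroup of odd order. -/
theorem mem_of_sq_mem {K : Subgroup G} {x : G} {q : ℕ} (hq2 : q ≠ 2) (hq : q.Prime)
    (hx : ∃ k, orderOf x = q ^ k) (h : x * x ∈ K) : x ∈ K := by
  obtain ⟨k, hk⟩ := hx
  obtain ⟨m, hm⟩ := (hq.odd_of_ne_two hq2).pow (n := k)
  have : x = (x * x) ^ (m + 1) := by
    rw [← pow_two, ← pow_mul, show 2 * (m + 1) = (2 * m + 1) + 1 by ring, pow_succ, ← hm, ← hk,
      pow_orderOf_eq_one, one_mul]
  rw [this]; exact pow_mem h _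

theorem exists_order_of_isPGroup [Finite G] {q : ℕ} (hq : q.Prime) {K : Subgroup G}
    (hK : IsPGroup q K) {x : G} (hx : x ∈ K) : ∃ k, orderOf x = q ^ k := by
  haveI := Fact.mk hq
  obtain ⟨k, hk⟩ := IsPGroup.iff_orderOf.1 hK ⟨x, hx⟩
  exact ⟨k, by rwa [Subgroup.orderOf_mk] at hk⟩

variable [Finite G]

/-- Iterated commutators with a `q`-element normalising a `q`-group vanish. -/
theorem exists_iterate_eq_one {q : ℕ} (hq : q.Prime) {R : Subgroup G} (hR : IsPGroup q R) {h : G}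
    (hh : ∃ k, orderOf h = q ^ k) (hhR : h ∈ normalizer (R : Set G)) {x : G} (hx : x ∈ R) :
    ∃ n, (fun y => y⁻¹ * (h * y * h⁻¹))^[n] x = 1 := by
  haveI := Fact.mk hq
  obtain ⟨k, hk⟩ := hh
  set P := R ⊔ zpowers h with hP
  have hHp : IsPGroup q (zpowers h) := IsPGroup.of_card (n := k) (by rw [Nat.card_zpowers, hk])
  have hPp : IsPGroup q P := hR.to_sup_of_normal_left' hHp (zpowers_le.2 hhR)
  haveI : Group.IsNilpotent P := hPp.isNilpotent
  obtain ⟨n, hn⟩ := Subgroup.nilpotent_iff_lowerCentralSeries.1 ‹Group.IsNilpotent P›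
  set h' : P := ⟨h, mem_sup_right (mem_zpowers h)⟩ with hh'
  have key : ∀ m, ∃ y : P, (y : G) = (fun y => y⁻¹ * (h * y * h⁻¹))^[m] x ∧
      y ∈ (⊤ : Subgroup P).lowerCentralSeries m := by
    intro m
    induction m with
    | zero => exact ⟨⟨x, mem_sup_left hx⟩, rfl, by simp⟩
    | succ m ih =>
      obtain ⟨y, hy, hym⟩ := ih
      refine ⟨⁅y⁻¹, h'⁆, ?_, ?_⟩
      · rw [Function.iterate_succ_apply', ← hy, commutatorElement_def]
        simp [hh', mul_assoc]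
      · rw [Subgroup.lowerCentralSeries_succ]
        exact commutator_mem_commutator (inv_mem hym) (mem_top _)
  obtain ⟨y, hy, hyn⟩ := key n
  rw [hn, mem_bot] at hyn
  exact ⟨n, by rw [← hy, hyn]; rfl⟩

/-- A `q`-element acting quadratically on the fixed points of `t` in `Z` is trivial on `R / Z`. -/
theorem fix_all {q : ℕ} (hq : q.Prime) (hq2 : q ≠ 2) {R Z : Subgroup G} (hC : Cls R Z)
    (hR : IsPGroup q R) {a : G} (haR : a ∈ normalizer (R : Set G))
    (hanis : ∀ x ∈ R, x ∉ Z → ∃ i : ℕ, ⁅x, a ^ i * x * (a ^ i)⁻¹⁆ ≠ 1)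
    {h : G} (hh : ∃ k, orderOf h = q ^ k) (hhR : h ∈ normalizer (R : Set G))
    (hhZ : h ∈ normalizer (Z : Set G)) (hha : Commute h a)
    {t : G} (ht : t * t = 1) (htR : t ∈ normalizer (R : Set G))
    (htZ : t ∈ normalizer (Z : Set G)) (hta : Commute t a) (hth : Commute t h)
    (hfix : ∀ y ∈ Z, t * y * t⁻¹ = y →
      h * (h * y * h⁻¹ * y⁻¹) * h⁻¹ = h * y * h⁻¹ * y⁻¹) :
    ∀ x ∈ R, x⁻¹ * (h * x * h⁻¹) ∈ Z := by
  by_contra hcon
  push Not at hcon
  obtain ⟨x₀, hx₀, hx₀'⟩ := hcon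
  set E := fixedMod hC hhR Z le_rfl hC.le with hE
  have hER : E ≤ R := fun y hy => (mem_fixedMod.1 hy).1
  have hZE : Z ≤ E := fun z hz => mem_fixedMod.2 ⟨hC.le hz,
    mul_mem (inv_mem hz) (conj_mem_of_mem_normalizer hhZ hz)⟩
  set E' := fixedMod hC hhR E hZE hER with hE'
  set δ : G → G := fun y => y⁻¹ * (h * y * h⁻¹) with hδ
  have hδR : ∀ y ∈ R, δ y ∈ R := fun y hy =>
    mul_mem (inv_mem hy) (conj_mem_of_mem_normalizer hhR hy)
  -- a last step of the iteration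
  obtain ⟨x, hxR, hxE, hdx⟩ : ∃ x ∈ R, x ∉ E ∧ δ x ∈ E := by
    obtain ⟨n, hn⟩ := exists_iterate_eq_one hq hR hh hhR hx₀
    by_contra hne
    push Not at hne
    have : ∀ m, δ^[m] x₀ ∈ R ∧ δ^[m] x₀ ∉ E := by
      intro m
      induction m with
      | zero => exact ⟨hx₀, fun h' => hx₀' (mem_fixedMod.1 h').2⟩
      | succ m ih =>
        rw [Function.iterate_succ_apply']
        exact ⟨hδR _ ih.1, hne _ ih.1 ih.2⟩
    have h1 := (this n).2
    rw [hδ, hn] at h1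
    exact h1 (one_mem E)
  have htt : t⁻¹ = t := inv_eq_of_mul_eq_one_right ht
  have htt' : ∀ y, t * (t * y * t⁻¹) * t⁻¹ = y := fun y => by
    rw [htt, show t * (t * y * t) * t = (t * t) * y * (t * t) by group, ht, one_mul, mul_one]
  have htE : ∀ y ∈ E, t * y * t⁻¹ ∈ E := by
    intro y hy
    obtain ⟨hy, hy'⟩ := mem_fixedMod.1 hy
    refine mem_fixedMod.2 ⟨conj_mem_of_mem_normalizer htR hy, ?_⟩
    have e : (t * y * t⁻¹)⁻¹ * (h * (t * y * t⁻¹) * h⁻¹) =
        t * (y⁻¹ * (h * y * h⁻¹)) * t⁻¹ := by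
      rw [show h * (t * y * t⁻¹) * h⁻¹ = (h * t) * y * (t⁻¹ * h⁻¹) by group, ← hth.eq,
        ← mul_inv_rev, ← hth.eq, mul_inv_rev]
      group
    rw [e]; exact conj_mem_of_mem_normalizer htZ hy'
  have htx : t * x * t⁻¹ ∈ R := conj_mem_of_mem_normalizer htR hxR
  have hdtx : δ (t * x * t⁻¹) ∈ E := by
    have e : δ (t * x * t⁻¹) = t * δ x * t⁻¹ := by
      simp only [hδ]
      rw [show h * (t * x * t⁻¹) * h⁻¹ = (h * t) * x * (t⁻¹ * h⁻¹) by group, ← hth.eq,
        ← mul_inv_rev, ← hth.eq, mul_inv_rev]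
      group
    rw [e]; exact htE _ hdx
  -- an eigenvector of `t`
  obtain ⟨w, hwR, hwE, hdw, hwt⟩ : ∃ w ∈ R, w ∉ E ∧ δ w ∈ E ∧
      (w⁻¹ * (t * w * t⁻¹) ∈ Z ∨ w * (t * w * t⁻¹) ∈ Z) := by
    have hxE' : x ∈ E' := mem_fixedMod.2 ⟨hxR, hdx⟩
    have htxE' : t * x * t⁻¹ ∈ E' := mem_fixedMod.2 ⟨htx, hdtx⟩
    by_cases h1 : x * (t * x * t⁻¹) ∈ E
    · refine ⟨x * (t * x * t⁻¹)⁻¹, mul_mem hxR (inv_mem htx), fun h2 => hxE ?_,
        (mem_fixedMod.1 (mul_mem hxE' (inv_mem htxE'))).2, Or.inr ?_⟩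
      · refine mem_of_sq_mem hq2 hq (exists_order_of_isPGroup hq hR hxR) ?_
        have h3 := mul_mem h2 h1
        -- `x s⁻¹ x s = x x · [·]`
        set s := t * x * t⁻¹ with hs
        have e : x * x = (x * s⁻¹ * (x * s)) * ((x * s)⁻¹ * (s * x)) := by group
        rw [e]
        exact mul_mem h3 (hZE (hC.swap htx hxR))
      · rw [show t * (x * (t * x * t⁻¹)⁻¹) * t⁻¹ =
            (t * x * t⁻¹) * (t * (t * x * t⁻¹) * t⁻¹)⁻¹ by group, htt',
          show x * (t * x * t⁻¹)⁻¹ * (t * x * t⁻¹ * x⁻¹) = 1 by group]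
        exact one_mem Z
    · refine ⟨x * (t * x * t⁻¹), mul_mem hxR htx, h1,
        (mem_fixedMod.1 (mul_mem hxE' htxE')).2, Or.inl ?_⟩
      rw [show t * (x * (t * x * t⁻¹)) * t⁻¹ =
          (t * x * t⁻¹) * (t * (t * x * t⁻¹) * t⁻¹) by group, htt']
      exact hC.swap htx hxR
  set u := δ w with hu
  have huR : u ∈ R := hδR w hwR
  have hu' : δ u ∈ Z := (mem_fixedMod.1 hdw).2
  have huZ : u ∉ Z := fun h' => hwE (mem_fixedMod.2 ⟨hwR, h'⟩)
  obtain ⟨i, hi⟩ := hanis u huR huZ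
  apply hi
  set b := a ^ i with hb
  have hbR : ∀ y ∈ R, b * y * b⁻¹ ∈ R := fun y hy =>
    conj_mem_of_mem_normalizer (pow_mem haR i) hy
  have hconj : ∀ g : G, Commute g a → ∀ y z : G,
      g * ⁅y, b * z * b⁻¹⁆ * g⁻¹ = ⁅g * y * g⁻¹, b * (g * z * g⁻¹) * b⁻¹⁆ := by
    intro g hg y z
    have hgb : g * b = b * g := (hg.pow_right i).eq
    have e : b * (g * z * g⁻¹) * b⁻¹ = g * (b * z * b⁻¹) * g⁻¹ := by
      rw [show b * (g * z * g⁻¹) * b⁻¹ = (b * g) * z * (b * g)⁻¹ by group, ← hgb]; group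
    rw [e]; simp [commutatorElement_def, mul_assoc]
  haveI := hC.isMulCommutative
  -- the form
  let B : R → R → Z := fun y z => ⟨⁅(y : G), b * z * b⁻¹⁆, hC.mem_comm y.2 (hbR z z.2)⟩
  have Bl : ∀ y y' z : R, B (y * y') z = B y z * B y' z := fun y y' z =>
    Subtype.ext (hC.bracket_mul_left y.2 y'.2 (hbR z z.2))
  have Br : ∀ y z z' : R, B y (z * z') = B y z * B y z' := fun y z z' => by
    apply Subtype.ext
    show ⁅(y : G), b * ((z : G) * z') * b⁻¹⁆ = ⁅(y : G), b * z * b⁻¹⁆ * ⁅(y : G), b * z' * b⁻¹⁆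
    rw [show b * ((z : G) * z') * b⁻¹ = (b * z * b⁻¹) * (b * z' * b⁻¹) by group]
    exact hC.bracket_mul_right y.2 (hbR z z.2) (hbR z' z'.2)
  have B1 : ∀ (c y : R), (c : G) ∈ Z → B c y = 1 := fun c y hc =>
    Subtype.ext (hC.bracket_left_eq_one hc (hbR y y.2))
  have B2 : ∀ (c y : R), (c : G) ∈ Z → B y c = 1 := fun c y hc => by
    apply Subtype.ext
    show ⁅(y : G), b * c * b⁻¹⁆ = 1
    refine commutatorElement_eq_one_iff_mul_comm.2 ?_
    have hyb : b⁻¹ * (y : G) * b ∈ R := inv_conj_mem_of_mem_normalizer (pow_mem haR i) y.2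
    have h1 := hC.cmt hc hyb
    calc (y : G) * (b * c * b⁻¹) = b * ((b⁻¹ * y * b) * c) * b⁻¹ := by group
      _ = b * (c * (b⁻¹ * y * b)) * b⁻¹ := by rw [h1]
      _ = _ := by group
  let W : R := ⟨w, hwR⟩
  let U : R := ⟨u, huR⟩
  let C : R := ⟨δ u, hC.le hu'⟩
  have hW : h * w * h⁻¹ = w * u := by simp [hu, hδ, mul_assoc]
  have hU : h * u * h⁻¹ = u * δ u := by simp [hδ, mul_assoc]
  have hBh : ∀ y z : R, ∀ y' z' : R, h * y * h⁻¹ = y' → h * z * h⁻¹ = z' →
      h * (B y z : G) * h⁻¹ = (B y' z' : G) := fun y z y' z' e1 e2 => by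
    show h * ⁅(y : G), b * z * b⁻¹⁆ * h⁻¹ = ⁅(y' : G), b * z' * b⁻¹⁆
    rw [hconj h hha, e1, e2]
  set k : Z := B W W with hk
  -- `t` fixes `k`
  have htk : t * (k : G) * t⁻¹ = k := by
    show t * ⁅w, b * w * b⁻¹⁆ * t⁻¹ = _
    rw [hconj t hta]
    have htw : t * w * t⁻¹ ∈ R := conj_mem_of_mem_normalizer htR hwR
    rcases hwt with h1 | h1
    · set c := w⁻¹ * (t * w * t⁻¹) with hc
      have e : t * w * t⁻¹ = w * c := by rw [hc]; group
      have : B (W * ⟨c, hC.le h1⟩) (W * ⟨c, hC.le h1⟩) = k := by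
        rw [Bl, Br, Br, B1 ⟨c, hC.le h1⟩ W h1, B2 ⟨c, hC.le h1⟩ W h1,
          B1 ⟨c, hC.le h1⟩ _ h1, mul_one, mul_one, mul_one]
      rw [e]; exact congrArg Subtype.val this
    · set c := w * (t * w * t⁻¹) with hc
      have e : t * w * t⁻¹ = w⁻¹ * c := by rw [hc]; group
      have hinv : B W⁻¹ W⁻¹ = k := by
        apply Subtype.ext
        show ⁅w⁻¹, b * w⁻¹ * b⁻¹⁆ = ⁅w, b * w * b⁻¹⁆
        rw [show b * w⁻¹ * b⁻¹ = (b * w * b⁻¹)⁻¹ by group]
        exact hC.bracket_inv_inv hwR (hbR w hwR)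
      have : B (W⁻¹ * ⟨c, hC.le h1⟩) (W⁻¹ * ⟨c, hC.le h1⟩) = k := by
        rw [Bl, Br, Br, B1 ⟨c, hC.le h1⟩ W⁻¹ h1, B2 ⟨c, hC.le h1⟩ W⁻¹ h1,
          B1 ⟨c, hC.le h1⟩ _ h1, mul_one, mul_one, mul_one, hinv]
      rw [e]; exact congrArg Subtype.val this
  have h1 : h * (k : G) * h⁻¹ = (B (W * U) (W * U) : G) := hBh W W (W * U) (W * U) hW hW
  set S : Z := B W U * B U W with hS
  set e : Z := S * B U U with he
  have he1 : h * (k : G) * h⁻¹ * (k : G)⁻¹ = (e : G) := by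
    rw [h1]
    have : B (W * U) (W * U) * k⁻¹ = e := by
      rw [Bl, Br, Br, he, hS, hk, mul_inv_eq_iff_eq_mul]
      ac_rfl
    exact_mod_cast congrArg Subtype.val this
  have h2 := hfix _ k.2 htk
  rw [he1] at h2
  have h3 : h * (e : G) * h⁻¹ = ((e * (B U U * B U U) : Z) : G) := by
    have e1 := hBh W U (W * U) (U * C) hW hU
    have e2 := hBh U W (U * C) (W * U) hU hW
    have e3 := hBh U U (U * C) (U * C) hU hU
    have hh1 : B (W * U) (U * C) = B W U * B U U := by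
      rw [Bl, Br, Br, B2 C W hu', B2 C U hu', mul_one, mul_one]
    have hh2 : B (U * C) (W * U) = B U W * B U U := by
      rw [Bl, Br, Br, B1 C W hu', B1 C U hu', mul_one, mul_one]
    have hh3 : B (U * C) (U * C) = B U U := by
      rw [Bl, Br, Br, B2 C U hu', B1 C U hu', B1 C C hu', mul_one, mul_one, mul_one]
    rw [hh1] at e1; rw [hh2] at e2; rw [hh3] at e3
    calc h * (e : G) * h⁻¹ = (h * (B W U : G) * h⁻¹) * (h * (B U W : G) * h⁻¹) *
          (h * (B U U : G) * h⁻¹) := by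
            show h * ((B W U : G) * (B U W : G) * (B U U : G)) * h⁻¹ = _
            group
      _ = (((B W U * B U U) * (B U W * B U U) * B U U : Z) : G) := by rw [e1, e2, e3]; rfl
      _ = _ := by
            congr 1
            rw [he, hS]
            ac_rfl
  rw [h3] at h2
  have h4 : (B U U : G) * (B U U : G) = 1 := by
    have := mul_eq_left.1 (Subtype.ext h2 : e * (B U U * B U U) = e)
    exact_mod_cast congrArg Subtype.val this
  show (B U U : G) = 1
  refine mem_bot.1 (mem_of_sq_mem hq2 hq (exists_order_of_isPGroup hq hR (hC.le (B U U).2)) ?_)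
  rw [h4]; exact one_mem _

/-- A `q`-element inverted by `t` and trivial on the fixed classes of `t` moves every class by a
fixed class. -/
theorem fixed_shift {q : ℕ} (hq : q.Prime) (hq2 : q ≠ 2) {R Z : Subgroup G} (hC : Cls R Z)
    {z : G} (hz : ∃ k, orderOf z = q ^ k) (hzR : z ∈ normalizer (R : Set G))
    (hzZ : z ∈ normalizer (Z : Set G)) {t : G} (ht : t * t = 1)
    (htR : t ∈ normalizer (R : Set G)) (htZ : t ∈ normalizer (Z : Set G))
    (htz : t * z * t⁻¹ = z⁻¹)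
    (hfix : ∀ x ∈ R, x⁻¹ * (t * x * t⁻¹) ∈ Z → x⁻¹ * (z * x * z⁻¹) ∈ Z) :
    ∀ x ∈ R, (x⁻¹ * (z * x * z⁻¹))⁻¹ * (t * (x⁻¹ * (z * x * z⁻¹)) * t⁻¹) ∈ Z := by
  intro x hx
  haveI := hC.normal
  set V := R ⧸ Z.subgroupOf R
  have hcomm : ∀ v w : V, v * w = w * v := by
    intro v w
    induction v using QuotientGroup.induction_on with | _ v =>
    induction w using QuotientGroup.induction_on with | _ w =>
    rw [← QuotientGroup.mk_mul, ← QuotientGroup.mk_mul, QuotientGroup.eq, mem_subgroupOf]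
    simpa using hC.swap w.2 v.2
  have htt : t⁻¹ = t := inv_eq_of_mul_eq_one_right ht
  let cj : ∀ g : G, g ∈ normalizer (R : Set G) → g ∈ normalizer (Z : Set G) → (V →* V) :=
    fun g hg hgZ => QuotientGroup.map _ _
      ({ toFun := fun y => ⟨g * y * g⁻¹, conj_mem_of_mem_normalizer hg y.2⟩
         map_one' := Subtype.ext (by simp)
         map_mul' := fun y y' => Subtype.ext (by simp [mul_assoc]) } : R →* R)
      (fun y hy => mem_subgroupOf.2 (conj_mem_of_mem_normalizer hgZ (mem_subgroupOf.1 hy)))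
  have cj_mk : ∀ (g : G) (hg : g ∈ normalizer (R : Set G)) (hgZ : g ∈ normalizer (Z : Set G))
      (y : R), cj g hg hgZ (y : V) =
        ((⟨g * y * g⁻¹, conj_mem_of_mem_normalizer hg y.2⟩ : R) : V) := fun g hg hgZ y => rfl
  set φ := cj z hzR hzZ with hφ
  set τ := cj t htR htZ with hτ
  set π : R → V := fun y => (y : V) with hπ
  have hτ2 : ∀ v, τ (τ v) = v := by
    intro v
    induction v using QuotientGroup.induction_on with | _ v =>
    rw [hτ, cj_mk t htR htZ, cj_mk t htR htZ]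
    refine congrArg (fun y : R => (y : V)) (Subtype.ext ?_)
    show t * (t * v * t⁻¹) * t⁻¹ = v
    rw [htt, show t * (t * (v : G) * t) * t = (t * t) * v * (t * t) by group, ht, one_mul, mul_one]
  have hztz : z * t * z = t := by
    calc z * t * z = z * (t * z * t⁻¹) * t := by group
      _ = t := by rw [htz, mul_inv_cancel, one_mul]
  have hφτ : ∀ v, φ (τ (φ v)) = τ v := by
    intro v
    induction v using QuotientGroup.induction_on with | _ v =>
    rw [hφ, hτ, cj_mk z hzR hzZ, cj_mk t htR htZ, cj_mk z hzR hzZ, cj_mk t htR htZ]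
    refine congrArg (fun y : R => (y : V)) (Subtype.ext ?_)
    show z * (t * (z * v * z⁻¹) * t⁻¹) * z⁻¹ = t * v * t⁻¹
    calc z * (t * (z * v * z⁻¹) * t⁻¹) * z⁻¹ = (z * t * z) * v * (z * t * z)⁻¹ := by group
      _ = _ := by rw [hztz]
  have hker : ∀ v, τ v = v → φ v = v := by
    intro v
    induction v using QuotientGroup.induction_on with | _ v =>
    rw [hφ, hτ, cj_mk t htR htZ, cj_mk z hzR hzZ]
    intro h1
    have h1' : (v : G)⁻¹ * (t * v * t⁻¹) ∈ Z :=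
      mem_subgroupOf.1 (QuotientGroup.eq.1 h1.symm)
    exact (QuotientGroup.eq.2 (mem_subgroupOf.2 (hfix v v.2 h1'))).symm
  -- the argument in the abelian quotient
  letI : CommGroup V := { (inferInstance : Group V) with mul_comm := hcomm }
  set v : V := π ⟨x, hx⟩
  set u : V := v⁻¹ * φ v with hu
  have hsum : ∀ w : V, φ (w * τ w) = w * τ w := fun w => hker _ (by rw [map_mul, hτ2, mul_comm])
  have k1 : φ (τ u) = u := by
    have h1 : φ (τ v) = (φ v)⁻¹ * (v * τ v) := by rw [← hsum v, map_mul]; simp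
    rw [hu, map_mul, map_inv, map_mul, map_inv, hφτ, h1, mul_inv_rev, inv_inv, mul_inv_rev,
      mul_comm _ (τ v)]
    group
  have k2 : φ u = τ u := by
    have h1 := hsum u
    rw [map_mul, k1] at h1
    exact mul_right_cancel (h1.trans (mul_comm _ _))
  have k3 : φ (φ (τ u)) = τ u := by rw [k1, k2]
  have k4 : φ (τ u) = τ u := by
    obtain ⟨k, hk⟩ := hz
    obtain ⟨m, hm⟩ := (hq.odd_of_ne_two hq2).pow (n := k)
    have hiter : ∀ j, φ^[2 * j] (τ u) = τ u := by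
      intro j
      induction j with
      | zero => rfl
      | succ j ih =>
        rw [show 2 * (j + 1) = (2 * j + 1) + 1 by ring, Function.iterate_succ_apply',
          Function.iterate_succ_apply', ih, k3]
    have hpow : ∀ (j : ℕ) (w : R), φ^[j] (π w) = π ⟨z ^ j * w * (z ^ j)⁻¹,
        conj_mem_of_mem_normalizer (pow_mem hzR j) w.2⟩ := by
      intro j
      induction j with
      | zero => intro w; simp [hπ]
      | succ j ih =>
        intro w
        rw [Function.iterate_succ_apply', ih]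
        show φ ((_ : R) : V) = ((_ : R) : V)
        rw [hφ, cj_mk z hzR hzZ]
        refine congrArg (fun y : R => (y : V)) (Subtype.ext ?_)
        simp [pow_succ', mul_assoc]
    obtain ⟨w, hw⟩ := QuotientGroup.mk_surjective (τ u)
    have hz1 : z ^ (2 * m + 1) = 1 := by rw [← hm, ← hk, pow_orderOf_eq_one]
    have h1 : φ^[2 * m + 1] (τ u) = τ u := by
      rw [← hw, show ((w : V)) = π w from rfl, hpow]
      simp [hz1, hπ]
    rw [Function.iterate_succ_apply', hiter] at h1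
    exact h1
  have k5 : τ u = u := k4.symm.trans k1
  have k5' : u = τ u := k5.symm
  have hv : v = ((⟨x, hx⟩ : R) : V) := rfl
  rw [hu, hv, hφ, hτ, cj_mk z hzR hzZ, ← QuotientGroup.mk_inv, ← QuotientGroup.mk_mul, cj_mk t htR htZ] at k5'
  exact mem_subgroupOf.1 (QuotientGroup.eq.1 k5')

end CfsgLib.PairGen
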