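import Cfsg.Agent.Lib.PairGen.Setup
import Mathlib.GroupTheory.Sylow

/-!
# Involutions acting on the lines of a class `D`

A line has odd order, so an involution normalising it fixes one of its members, and it
centralises a member it normalises as soon as it centralises another one of the same line.
-/

set_option autoImplicit false
set_option linter.style.haveILetI false

universe u

namespace CfsgLib.PairGen

open Subgroup
open scoped Pointwise

variable {G : Type u} [Group G]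

/-- The members of `D` centralised by `t`. -/
def fixedSet (D : Set (Subgroup G)) (t : G) : Set (Subgroup G) :=
  {B | B ∈ D ∧ t ∈ centralizer (B : Set G)}

theorem conj_smul_conj_smul (g h : G) (H : Subgroup G) :
    MulAut.conj g • (MulAut.conj h • H) = MulAut.conj (g * h) • H := by
  rw [← mul_smul, ← map_mul]

theorem mem_conj_smul_iff {g x : G} {H : Subgroup G} :
    x ∈ MulAut.conj g • H ↔ g⁻¹ * x * g ∈ H := by
  rw [mem_pointwise_smul_iff_inv_smul_mem, ← map_inv, MulAut.smul_def, MulAut.conj_apply, inv_inv]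

/-- An element of the coset of an involution over a subgroup of odd order. -/
theorem exists_conj_form [Finite G] {L : Subgroup G} (hodd : Odd (Nat.card L)) {t g : G}
    (ht : t * t = 1) (hnorm : ∀ x ∈ L, t * x * t⁻¹ ∈ L) (hg : g * t ∈ L) :
    ∃ l e : G, l ∈ L ∧ e ∈ L ∧ Commute t e ∧ g = l * (t * e) * l⁻¹ ∧
      l * t * l⁻¹ ∈ zpowers g := by
  obtain ⟨k, hk⟩ := hodd
  have hti : t⁻¹ = t := inv_eq_of_mul_eq_one_right ht
  have hgg : g * g ∈ L := by
    have h : g * g = g * t * (t * (g * t) * t⁻¹) := by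
      calc g * g = g * (t * t) * g := by rw [ht, mul_one]
        _ = _ := by group
    rw [h]
    exact mul_mem hg (hnorm _ hg)
  have hn : (g * g) ^ (2 * k + 1) = 1 := by
    have h := congrArg Subtype.val (pow_card_eq_one' (x := (⟨g * g, hgg⟩ : L)))
    rw [hk] at h
    simpa using h
  set s := g ^ (2 * k + 1) with hs
  have hs2 : s * s = 1 := by rw [hs, ← (Commute.refl g).mul_pow, hn]
  have hsg : s = (g * g) ^ k * g := by rw [hs, ← pow_two, ← pow_mul, ← pow_succ]
  have hst : s * t ∈ L := by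
    rw [hsg, mul_assoc]; exact mul_mem (pow_mem hgg k) hg
  have hun : (s * t) ^ (2 * k + 1) = 1 := by
    have h := congrArg Subtype.val (pow_card_eq_one' (x := (⟨s * t, hst⟩ : L)))
    rw [hk] at h
    simpa using h
  set l := (s * t) ^ (k + 1) with hl
  have hconj : t * (s * t) * t⁻¹ = (s * t)⁻¹ := by
    rw [mul_inv_rev, hti, inv_eq_of_mul_eq_one_right hs2]
    calc t * (s * t) * t = t * s * (t * t) := by group
      _ = t * s := by rw [ht, mul_one]
  have hlt : t * l * t⁻¹ = l⁻¹ := by rw [hl, ← conj_pow, hconj, inv_pow]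
  have hll : l * l = s * t := by
    rw [hl, ← pow_add, show k + 1 + (k + 1) = (2 * k + 1) + 1 by omega, pow_succ, hun, one_mul]
  have hls : l * t * l⁻¹ = s := by
    calc l * t * l⁻¹ = l * t * (t * l * t⁻¹) := by rw [hlt]
      _ = l * (t * t) * l * t⁻¹ := by group
      _ = l * l * t := by rw [ht, mul_one, hti]
      _ = s * (t * t) := by rw [hll, mul_assoc]
      _ = s := by rw [ht, mul_one]
  have he' : s * g ∈ L := by
    rw [hsg, mul_assoc]; exact mul_mem (pow_mem hgg k) hgg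
  have hcomm : Commute s g := (Commute.refl g).pow_left _
  have hte : t = l⁻¹ * s * l := by rw [← hls]; group
  refine ⟨l, l⁻¹ * (s * g) * l, pow_mem hst _,
    mul_mem (mul_mem (inv_mem (pow_mem hst _)) he') (pow_mem hst _), ?_, ?_, ?_⟩
  · rw [hte]
    have h : Commute s (s * g) := (Commute.refl s).mul_right hcomm
    calc l⁻¹ * s * l * (l⁻¹ * (s * g) * l) = l⁻¹ * (s * (s * g)) * l := by group
      _ = l⁻¹ * ((s * g) * s) * l := by rw [h.eq]
      _ = _ := by group
  · calc g = s * (s * g) := by rw [← mul_assoc, hs2, one_mul]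
      _ = (l * t * l⁻¹) * (s * g) := by rw [hls]
      _ = _ := by group
  · rw [hls, hs]; exact npow_mem_zpowers g _

variable [Finite G] {p q : ℕ} {D : Set (Subgroup G)}

theorem Pair.line_data (hP : Pair p q D) {A B : Subgroup G} (hA : A ∈ D) (hB : B ∈ D)
    (hAB : A ≠ B) : ∃ Q : Subgroup G, IsPGroup q Q ∧ A ≤ normalizer (Q : Set G) ∧
      Q ⊔ A = A ⊔ B ∧ Disjoint Q A ∧ Disjoint Q B ∧
      ∃ m : ℕ, Nat.card (A ⊔ B : Subgroup G) = q ^ m * p := by
  haveI := Fact.mk hP.prime_p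
  haveI := Fact.mk hP.prime_q
  obtain ⟨Q, hQ, hAQ, hsup, -⟩ := hP.line A hA B hB hAB
  have hdis : ∀ C ∈ D, Disjoint Q C := fun C hC =>
    IsPGroup.disjoint_of_ne q p hP.p_ne_q.symm Q C hQ
      (IsPGroup.of_card (n := 1) (by rw [pow_one]; exact hP.card_mem C hC))
  obtain ⟨m, hm⟩ := hQ.exists_card_eq
  refine ⟨Q, hQ, hAQ, hsup, hdis A hA, hdis B hB, m, ?_⟩
  rw [← hsup, Solvable.card_sup_of_disjoint hAQ (hdis A hA), hm, hP.card_mem A hA]

theorem Pair.line_odd (hP : Pair p q D) {A B : Subgroup G} (hA : A ∈ D) (hB : B ∈ D)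
    (hAB : A ≠ B) : Odd (Nat.card (A ⊔ B : Subgroup G)) := by
  obtain ⟨Q, -, -, -, -, -, m, hm⟩ := hP.line_data hA hB hAB
  rw [hm]
  exact ((hP.prime_q.odd_of_ne_two hP.q_ne_two).pow).mul (hP.prime_p.odd_of_ne_two hP.p_ne_two)

/-- Two members are conjugate in their line. -/
theorem Pair.line_conjugate (hP : Pair p q D) {A B : Subgroup G} (hA : A ∈ D) (hB : B ∈ D)
    (hAB : A ≠ B) : ∃ l ∈ A ⊔ B, MulAut.conj l • A = B := by
  haveI := Fact.mk hP.prime_p
  obtain ⟨Q, -, -, -, -, -, m, hm⟩ := hP.line_data hA hB hAB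
  have key : ∀ C ∈ D, C ≤ A ⊔ B →
      ∃ S : Sylow p (A ⊔ B : Subgroup G), (S : Subgroup (A ⊔ B : Subgroup G)) = C.subgroupOf (A ⊔ B) := by
    intro C hC hle
    have hcard : Nat.card (C.subgroupOf (A ⊔ B)) = p := by
      rw [Nat.card_congr (subgroupOfEquivOfLe hle).toEquiv, hP.card_mem C hC]
    have hidx : ¬ p ∣ (C.subgroupOf (A ⊔ B)).index := by
      have h := card_mul_index (C.subgroupOf (A ⊔ B))
      rw [hcard, hm, mul_comm (q ^ m)] at h
      rw [Nat.eq_of_mul_eq_mul_left hP.prime_p.pos h]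
      exact fun hd => hP.p_ne_q ((Nat.prime_dvd_prime_iff_eq hP.prime_p hP.prime_q).1
        (hP.prime_p.dvd_of_dvd_pow hd))
    exact ⟨(IsPGroup.of_card (n := 1) (by rw [pow_one]; exact hcard)).toSylow hidx, rfl⟩
  obtain ⟨SA, hSA⟩ := key A hA le_sup_left
  obtain ⟨SB, hSB⟩ := key B hB le_sup_right
  obtain ⟨l, hl⟩ := MulAction.exists_smul_eq (A ⊔ B : Subgroup G) SA SB
  have hl' := congrArg (fun S : Sylow p (A ⊔ B : Subgroup G) => (S : Subgroup (A ⊔ B : Subgroup G))) hl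
  simp only [Sylow.coe_subgroup_smul, hSA, hSB] at hl'
  refine ⟨l, l.2, ?_⟩
  ext x
  rw [mem_conj_smul_iff]
  constructor
  · intro hx
    have hxL : x ∈ A ⊔ B := by
      have h := mul_mem (mul_mem l.2 (le_sup_left (b := B) hx)) (inv_mem l.2)
      simpa [mul_assoc] using h
    have h : (⟨x, hxL⟩ : (A ⊔ B : Subgroup G)) ∈ B.subgroupOf (A ⊔ B) := by
      rw [← hl', mem_conj_smul_iff, mem_subgroupOf]
      exact hx
    exact h
  · intro hx
    have h : (⟨x, le_sup_right (a := A) hx⟩ : (A ⊔ B : Subgroup G)) ∈ B.subgroupOf (A ⊔ B) := hx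
    rw [← hl', mem_conj_smul_iff, mem_subgroupOf] at h
    exact h

variable {t : G}

omit [Finite G] in
theorem Pair.smul_line_invariant {B : Subgroup G} (ht : orderOf t = 2) :
    MulAut.conj t • (B ⊔ MulAut.conj t • B) = B ⊔ MulAut.conj t • B := by
  rw [smul_sup, conj_smul_conj_smul,
    show t * t = 1 by rw [← pow_two, ← ht, pow_orderOf_eq_one], map_one, one_smul, sup_comm]

theorem Pair.exists_normalized (hP : Pair p q D) (ht : orderOf t = 2) :
    ∀ B ∈ D, MulAut.conj t • B ≠ B →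
      ∃ T ∈ D, T ≤ B ⊔ MulAut.conj t • B ∧ MulAut.conj t • T = T := by
  intro B hB hne
  have ht2 : t * t = 1 := by rw [← pow_two, ← ht, pow_orderOf_eq_one]
  have hinv := Pair.smul_line_invariant (B := B) ht
  obtain ⟨l₀, hl₀, hl₀B⟩ := hP.line_conjugate hB (hP.conj_mem B hB t) (Ne.symm hne)
  set L := B ⊔ MulAut.conj t • B
  have hnorm : ∀ x ∈ L, t * x * t⁻¹ ∈ L := fun x hx => by
    rw [← hinv, mem_conj_smul_iff]; simpa [mul_assoc] using hx
  obtain ⟨l, e, hl, -, -, -, hz⟩ := exists_conj_form (hP.line_odd hB (hP.conj_mem B hB t)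
    (Ne.symm hne)) ht2 hnorm (g := l₀⁻¹ * t) (by rw [mul_assoc, ht2, mul_one]; exact inv_mem hl₀)
  have hg : l₀⁻¹ * t ∈ (MulAction.stabilizer (MulAut G) B).comap MulAut.conj := by
    rw [mem_comap, MulAction.mem_stabilizer_iff, ← conj_smul_conj_smul]
    conv_rhs => rw [← one_smul (MulAut G) B, ← map_one MulAut.conj, ← inv_mul_cancel l₀,
      ← conj_smul_conj_smul, hl₀B]
  have hs : MulAut.conj (l * t * l⁻¹) • B = B :=
    MulAction.mem_stabilizer_iff.1 (mem_comap.1 (zpowers_le.2 hg hz))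
  refine ⟨MulAut.conj l⁻¹ • B, hP.conj_mem B hB _, ?_, ?_⟩
  · intro x hx
    rw [mem_conj_smul_iff, inv_inv] at hx
    have h := mul_mem (mul_mem (inv_mem hl) (mem_sup_left hx : l * x * l⁻¹ ∈ L)) hl
    simpa [mul_assoc] using h
  · rw [conj_smul_conj_smul]
    conv_rhs => rw [← hs, conj_smul_conj_smul]
    congr 2
    group

theorem Pair.product_form (hP : Pair p q D) (ht : orderOf t = 2) :
    ∀ B ∈ D, ∀ x ∈ B, MulAut.conj t • B ≠ B →
      ∃ l e : G, e ∈ B ⊔ MulAut.conj t • B ∧ Commute t e ∧ l ∈ B ⊔ MulAut.conj t • B ∧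
        x * t = l * (t * e) * l⁻¹ := by
  intro B hB x hx hne
  have ht2 : t * t = 1 := by rw [← pow_two, ← ht, pow_orderOf_eq_one]
  have hinv := Pair.smul_line_invariant (B := B) ht
  set L := B ⊔ MulAut.conj t • B
  have hnorm : ∀ y ∈ L, t * y * t⁻¹ ∈ L := fun y hy => by
    rw [← hinv, mem_conj_smul_iff]; simpa [mul_assoc] using hy
  obtain ⟨l, e, hl, he, hc, hg, -⟩ := exists_conj_form (hP.line_odd hB (hP.conj_mem B hB t)
    (Ne.symm hne)) ht2 hnorm (g := x * t) (by rw [mul_assoc, ht2, mul_one]; exact mem_sup_left hx)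
  exact ⟨l, e, he, hc, hl, hg⟩

theorem Pair.centralizes_of_normalized (hP : Pair p q D) (ht : orderOf t = 2) :
    ∀ T ∈ fixedSet D t, ∀ B ∈ D, MulAut.conj t • B = B → B ∈ fixedSet D t := by
  rintro T ⟨hT, hTt⟩ B hB hBt
  by_cases hTB : T = B
  · exact hTB ▸ ⟨hT, hTt⟩
  refine ⟨hB, mem_centralizer_iff.2 fun b hb => ?_⟩
  have ht2 : t * t = 1 := by rw [← pow_two, ← ht, pow_orderOf_eq_one]
  obtain ⟨Q, hQ, hTQ, hsup, hdT, hdB, -⟩ := hP.line_data hT hB hTB
  -- a `q`-element of the line lies in `Q`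
  have hcore : ∀ x ∈ T ⊔ B, ∀ j : ℕ, x ^ q ^ j = 1 → x ∈ Q := by
    intro x hx j hj
    rw [← hsup] at hx
    obtain ⟨r, hr, a, ha, rfl⟩ := (Solvable.mem_sup_of_le_normalizer hTQ).mp hx
    have hpow : ∀ n : ℕ, (r * a) ^ n * (a ^ n)⁻¹ ∈ Q := by
      intro n
      induction n with
      | zero => simp
      | succ n ih =>
        have h : (r * a) ^ (n + 1) * (a ^ (n + 1))⁻¹ =
            (r * a) ^ n * (a ^ n)⁻¹ * (a ^ n * r * (a ^ n)⁻¹) := by
          rw [pow_succ, pow_succ]; group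
        rw [h]
        exact mul_mem ih ((mem_normalizer_iff.1 (hTQ (pow_mem ha n)) r).1 hr)
    have h1 := hpow (q ^ j)
    rw [hj, one_mul, inv_mem_iff] at h1
    have h2 : a ^ q ^ j = 1 := disjoint_def.1 hdT h1 (pow_mem ha _)
    have h3 : a ^ p = 1 := by
      have h := congrArg Subtype.val (pow_card_eq_one' (x := (⟨a, ha⟩ : T)))
      rw [hP.card_mem T hT] at h
      simpa using h
    have h4 : a = 1 := orderOf_eq_one_iff.1 (Nat.eq_one_of_dvd_coprimes
      (Nat.Coprime.pow_right j ((Nat.coprime_primes hP.prime_p hP.prime_q).2 hP.p_ne_q))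
      (orderOf_dvd_of_pow_eq_one h3) (orderOf_dvd_of_pow_eq_one h2))
    rw [h4, mul_one]; exact hr
  have hTs : MulAut.conj t • T = T := by
    ext x
    rw [mem_conj_smul_iff]
    constructor
    · intro hx
      have h := mem_centralizer_iff.1 hTt _ hx
      have e : x = t⁻¹ * x * t := by
        calc x = t * (t⁻¹ * x * t) * t⁻¹ := by group
          _ = t⁻¹ * x * t * t * t⁻¹ := by rw [← h]
          _ = t⁻¹ * x * t := by group
      rwa [e]
    · intro hx
      have h := mem_centralizer_iff.1 hTt x hx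
      rwa [mul_assoc, h, ← mul_assoc, inv_mul_cancel, one_mul]
  have hnorm : ∀ y ∈ T ⊔ B, t * y * t⁻¹ ∈ T ⊔ B := fun y hy => by
    have e : MulAut.conj t • (T ⊔ B) = T ⊔ B := by rw [smul_sup, hTs, hBt]
    rw [← e, mem_conj_smul_iff]; simpa [mul_assoc] using hy
  have hbL : b ∈ T ⊔ B := mem_sup_right hb
  have htb : t * b * t⁻¹ ∈ B := by
    rw [← hBt, mem_conj_smul_iff]; simpa [mul_assoc] using hb
  have hbQ : b ∈ Q ⊔ T := by rw [hsup]; exact hbL
  obtain ⟨r, hr, a, ha, hra⟩ := (Solvable.mem_sup_of_le_normalizer hTQ).mp hbQ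
  obtain ⟨j, hj⟩ := hQ ⟨r, hr⟩
  have hj' : r ^ q ^ j = 1 := by simpa using congrArg Subtype.val hj
  have htr : t * r * t⁻¹ ∈ Q := hcore _ (hnorm r (hsup ▸ mem_sup_left hr)) j
    (by rw [conj_pow, hj', mul_one, mul_inv_cancel])
  have hta : t * a * t⁻¹ = a := by rw [← mem_centralizer_iff.1 hTt a ha]; group
  have hc : t * b * t⁻¹ * b⁻¹ = t * r * t⁻¹ * r⁻¹ := by
    rw [← hra]
    calc t * (r * a) * t⁻¹ * (r * a)⁻¹ = t * r * t⁻¹ * (t * a * t⁻¹) * a⁻¹ * r⁻¹ := by group
      _ = t * r * t⁻¹ * a * a⁻¹ * r⁻¹ := by rw [hta]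
      _ = _ := by group
  have h1 : t * b * t⁻¹ * b⁻¹ = 1 :=
    disjoint_def.1 hdB (hc ▸ mul_mem htr (inv_mem hr)) (mul_mem htb (inv_mem hb))
  rw [mul_inv_eq_one, mul_inv_eq_iff_eq_mul] at h1
  exact h1.symm

end CfsgLib.PairGen
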