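import Cfsg.Agent.Lib.PairGen.RA
import Cfsg.Agent.Lib.PairGen.Form
import Cfsg.Agent.Lib.PairGen.Invol

/-!
# Maximal flats through a line
-/

set_option autoImplicit false
set_option linter.unusedSectionVars false
set_option linter.style.haveILetI false

universe u

namespace CfsgLib.PairGen

open Subgroup
open scoped Pointwise commutatorElement

variable {G : Type u} [Group G]

/-- The subgroup generated by the members inside `H`. -/
def hull (D : Set (Subgroup G)) (H : Subgroup G) : Subgroup G := sSup (inside D H)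

theorem hull_le (D : Set (Subgroup G)) (H : Subgroup G) : hull D H ≤ H := sSup_le fun _ h => h.2

theorem le_hull {D : Set (Subgroup G)} {H B : Subgroup G} (hB : B ∈ inside D H) : B ≤ hull D H :=
  le_sSup hB

theorem inside_hull {D : Set (Subgroup G)} {H B : Subgroup G} (hB : B ∈ inside D H) :
    B ∈ inside D (hull D H) := ⟨hB.1, le_hull hB⟩

theorem le_centralizer_singleton {B : Subgroup G} {k : G} :
    B ≤ centralizer ({k} : Set G) ↔ k ∈ centralizer (B : Set G) := by
  constructor
  · intro h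
    exact mem_centralizer_iff.2 fun b hb => mem_centralizer_singleton_iff.1 (h hb)
  · intro h b hb
    exact mem_centralizer_singleton_iff.2 (mem_centralizer_iff.1 h b hb)

theorem smul_le_centralizer {B : Subgroup G} {k g : G} (h : B ≤ centralizer ({k} : Set G)) :
    MulAut.conj g • B ≤ centralizer ({g * k * g⁻¹} : Set G) := by
  intro x hx
  have h1 : Commute (g⁻¹ * x * g) k :=
    mem_centralizer_singleton_iff.1 (h (mem_conj_smul_iff.1 hx))
  refine mem_centralizer_singleton_iff.2 ?_
  calc x * (g * k * g⁻¹) = g * ((g⁻¹ * x * g) * k) * g⁻¹ := by group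
    _ = g * (k * (g⁻¹ * x * g)) * g⁻¹ := by rw [h1.eq]
    _ = _ := by group

variable [Finite G]

theorem mem_normalizer_hull {D : Set (Subgroup G)} {H : Subgroup G} {g : G}
    (hg : ∀ B ∈ inside D H, MulAut.conj g • B ∈ inside D H) :
    g ∈ normalizer (hull D H : Set G) := by
  have hle : MulAut.conj g • hull D H ≤ hull D H := by
    rw [CfsgLib.Solvable.conj_smul_eq_map, hull, sSup_eq_iSup', Subgroup.map_iSup]
    refine iSup_le fun B => ?_
    rw [← CfsgLib.Solvable.conj_smul_eq_map]
    exact le_iSup (fun i : inside D H => (i : Subgroup G)) ⟨_, hg B B.2⟩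
  exact CfsgLib.Solvable.conj_smul_eq_self_iff.1
    (Subgroup.eq_of_le_of_card_ge hle (le_of_eq (CfsgLib.Solvable.card_conj_smul g _).symm))

variable {p q : ℕ} {D : Set (Subgroup G)}

/-- The data of the induction step. -/
structure Ctx (p q : ℕ) (D : Set (Subgroup G)) : Prop where
  pair : Pair p q D
  gen : sSup D = ⊤
  proper : ∀ H : Subgroup G, H ≠ ⊤ → ∀ A ∈ inside D H, ∃ R : Subgroup G, Flat q D (hull D H) A R
  center_inv : ∀ z ∈ center G, orderOf z ≠ 2
  even : Even (Nat.card G)

namespace Ctx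

theorem exists_gen (hc : Ctx p q D) {A : Subgroup G} (hA : A ∈ D) : ∃ a ∈ A, a ≠ 1 := by
  rcases A.bot_or_exists_ne_one with h | h
  swap
  · exact h
  have := hc.pair.card_mem A hA
  rw [h, card_bot] at this
  exact (hc.pair.prime_p.ne_one this.symm).elim

theorem line_ne_top (hc : Ctx p q D) {A B : Subgroup G} (hA : A ∈ D) (hB : B ∈ D) (hne : A ≠ B) :
    A ⊔ B ≠ ⊤ := by
  intro h
  have := hc.pair.line_odd hA hB hne
  rw [h, card_top] at this
  exact Nat.not_even_iff_odd.2 this hc.even

theorem centralizer_ne_top {z : G} (hz : z ∉ center G) : centralizer ({z} : Set G) ≠ ⊤ :=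
  fun h => hz (mem_center_iff.2 fun g =>
    mem_centralizer_singleton_iff.1 (h ▸ mem_top g : g ∈ centralizer ({z} : Set G)))

theorem center_odd (hc : Ctx p q D) : Odd (Nat.card (center G)) := by
  by_contra h
  rw [Nat.not_odd_iff_even, even_iff_two_dvd] at h
  haveI := Fact.mk Nat.prime_two
  obtain ⟨z, hz⟩ := exists_prime_orderOf_dvd_card' 2 h
  exact hc.center_inv z z.2 (by rw [orderOf_coe, hz])

end Ctx

/-- An element in the core of the centraliser of an involution. -/
theorem mem_core_of_normal {t : G} {N : Subgroup G} (hle : N ≤ centralizer ({t} : Set G))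
    (hn : centralizer ({t} : Set G) ≤ normalizer (N : Set G)) (hodd : Odd (Nat.card N)) :
    N ≤ Cfsg.centralizerPPrimeCore 2 t := by
  intro x hx
  haveI := (normal_subgroupOf_iff_le_normalizer hle).2 hn
  refine ⟨⟨x, hle hx⟩, CfsgLib.Solvable.le_pPrimeCore inferInstance ?_ (mem_subgroupOf.2 hx), rfl⟩
  rw [Nat.card_congr (subgroupOfEquivOfLe hle).toEquiv]
  exact Nat.coprime_two_right.2 hodd

namespace Flat

variable {X A R : Subgroup G}

theorem mem_normalizer_R (hP : Pair p q D) (hX : Flat q D X A R) {g : G}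
    (hg : g ∈ normalizer (X : Set G)) : g ∈ normalizer (R : Set G) := by
  haveI := Fact.mk hP.prime_q
  have hle : MulAut.conj g • R ≤ R := by
    intro x hx
    have hX' : x ∈ X := by
      rw [← CfsgLib.Solvable.conj_smul_eq_self_iff.2 hg]
      exact mem_conj_smul_iff.2 (hX.R_le (mem_conj_smul_iff.1 hx))
    obtain ⟨k, hk⟩ := exists_order_of_isPGroup hP.prime_q hX.pgrp (mem_conj_smul_iff.1 hx)
    refine hX.le_R hP x hX' ⟨k, ?_⟩
    rw [← hk]
    exact (MulAut.conj g⁻¹).orderOf_eq x ▸ by simp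
  exact CfsgLib.Solvable.conj_smul_eq_self_iff.1
    (Subgroup.eq_of_le_of_card_ge hle (le_of_eq (CfsgLib.Solvable.card_conj_smul g _).symm))

theorem zc_eq (hP : Pair p q D) (hX : Flat q D X A R) :
    R ⊓ centralizer (A : Set G) = R ⊓ centralizer (X : Set G) :=
  le_antisymm (le_inf inf_le_left (hX.zc_le hP))
    (le_inf inf_le_left (inf_le_right.trans (centralizer_le (fun _ h => hX.A_le h))))

theorem mem_normalizer_zc (hP : Pair p q D) (hX : Flat q D X A R) {g : G}
    (hg : g ∈ normalizer (X : Set G)) :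
    g ∈ normalizer ((R ⊓ centralizer (A : Set G) : Subgroup G) : Set G) := by
  have hR := hX.mem_normalizer_R hP hg
  rw [hX.zc_eq hP]
  have hle : MulAut.conj g • (R ⊓ centralizer (X : Set G)) ≤ R ⊓ centralizer (X : Set G) := by
    intro x hx
    obtain ⟨h1, h2⟩ := mem_conj_smul_iff.1 hx
    refine ⟨?_, mem_centralizer_iff.2 fun y hy => ?_⟩
    · rw [← CfsgLib.Solvable.conj_smul_eq_self_iff.2 hR]
      exact mem_conj_smul_iff.2 h1
    · have h3 := mem_centralizer_iff.1 h2 (g⁻¹ * y * g) (inv_conj_mem_of_mem_normalizer hg hy)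
      calc y * x = g * ((g⁻¹ * y * g) * (g⁻¹ * x * g)) * g⁻¹ := by group
        _ = g * ((g⁻¹ * x * g) * (g⁻¹ * y * g)) * g⁻¹ := by rw [h3]
        _ = _ := by group
  exact CfsgLib.Solvable.conj_smul_eq_self_iff.1
    (Subgroup.eq_of_le_of_card_ge hle (le_of_eq (CfsgLib.Solvable.card_conj_smul g _).symm))

theorem cls (hP : Pair p q D) (hX : Flat q D X A R) : Cls R (R ⊓ centralizer (A : Set G)) :=
  ⟨inf_le_left, (hX.zc_le hP).trans (centralizer_le fun _ h => hX.R_le h), hX.commutator_le hP⟩

theorem odd_card (hP : Pair p q D) (hX : Flat q D X A R) : Odd (Nat.card X) := by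
  haveI := Fact.mk hP.prime_q
  obtain ⟨n, hn⟩ := IsPGroup.iff_card.1 hX.pgrp
  have h := CfsgLib.Solvable.card_sup_dvd (G := G) hX.A_norm
  rw [hX.sup, hn, hP.card_mem A hX.mem] at h
  exact (((hP.prime_q.odd_of_ne_two hP.q_ne_two).pow).mul
    (hP.prime_p.odd_of_ne_two hP.p_ne_two)).of_dvd_nat h

/-- An element trivial on `R` modulo `Zc` centralises every member. -/
theorem centralizes_members (hP : Pair p q D) (hX : Flat q D X A R) {z : G}
    (hzA : z ∈ centralizer (A : Set G))
    (hz : ∀ x ∈ R, x⁻¹ * (z * x * z⁻¹) ∈ R ⊓ centralizer (A : Set G)) :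
    ∀ B ∈ inside D X, z ∈ centralizer (B : Set G) := by
  intro B hB
  obtain ⟨x, hx, rfl⟩ := hX.exists_conj hP B hB
  refine mem_centralizer_iff.2 fun b hb => ?_
  set a := x⁻¹ * b * x with ha
  have haA : a ∈ A := mem_conj_smul_iff.1 hb
  set c := x⁻¹ * (z * x * z⁻¹) with hc
  have h1 : a * z = z * a := mem_centralizer_iff.1 hzA a haA
  have h2 : a * c = c * a := mem_centralizer_iff.1 (hz x hx).2 a haA
  have hb' : b = x * a * x⁻¹ := by rw [ha]; group
  rw [hb']
  symm
  calc z * (x * a * x⁻¹) = (x * c) * (z * a) * x⁻¹ := by rw [hc]; group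
    _ = (x * c) * (a * z) * x⁻¹ := by rw [h1]
    _ = (x * c * a) * (c⁻¹ * x⁻¹ * z) := by rw [hc]; group
    _ = (x * a * c) * (c⁻¹ * x⁻¹ * z) := by rw [mul_assoc x c a, ← h2]; group
    _ = _ := by group

end Flat

namespace Ctx

/-- The members inside a proper subgroup commute with the central `q`-elements of their hull. -/
theorem le_blk (hc : Ctx p q D) {H : Subgroup G} (hH : H ≠ ⊤) {T : Subgroup G}
    (hT : T ∈ inside D H) {z : G} (hz : z ∈ hull D H) (hzq : ∃ k, orderOf z = q ^ k)
    (hzT : z ∈ centralizer (T : Set G)) :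
    inside D H ⊆ inside D (centralizer ({z} : Set G)) := by
  intro B hB
  obtain ⟨R, hR⟩ := hc.proper H hH T hT
  have hzc : z ∈ R ⊓ centralizer (T : Set G) := ⟨hR.le_R hc.pair z hz hzq, hzT⟩
  exact ⟨hB.1, le_centralizer_singleton.2
    (centralizer_le (fun _ h => le_hull hB h) (hR.zc_le hc.pair hzc))⟩

end Ctx

end CfsgLib.PairGen
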