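import Cfsg.Agent.Lib.PairGen.Invol
import Cfsg.Agent.Lib.Invol.GlaubermanZStar
import Mathlib.GroupTheory.SpecificGroups.KleinFour

/-!
# An involution centralising a member of the class
-/

set_option autoImplicit false
set_option linter.style.haveILetI false

universe u

namespace CfsgLib.PairGen

open Subgroup
open scoped Pointwise

variable {G : Type u} [Group G] [Finite G] {p q : ℕ} {D : Set (Subgroup G)}

omit [Finite G] in
theorem mem_normalizer_of_conj_smul {g : G} {H : Subgroup G} (h : MulAut.conj g • H = H) :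
    g ∈ normalizer (H : Set G) := by
  refine mem_normalizer_iff.2 fun x => ?_
  conv_rhs => rw [← h]
  rw [mem_conj_smul_iff, show g⁻¹ * (g * x * g⁻¹) * g = x by group]

omit [Finite G] in
/-- An element of order two normalising a member centralises or inverts it. -/
theorem Pair.centralizes_or_inverts (hP : Pair p q D) {t : G} (ht : t * t = 1) {T : Subgroup G}
    (hT : T ∈ D) (hn : t ∈ normalizer (T : Set G)) :
    t ∈ centralizer (T : Set G) ∨ ∀ a ∈ T, t * a * t⁻¹ = a⁻¹ := by
  haveI := Fact.mk hP.prime_p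
  have hcard := hP.card_mem T hT
  haveI : IsCyclic T := isCyclic_of_prime_card hcard
  by_cases h : ∀ a ∈ T, a * (t * a * t⁻¹) = 1
  · exact Or.inr fun a ha => (inv_eq_of_mul_eq_one_right (h a ha)).symm
  push Not at h
  obtain ⟨a, ha, hne⟩ := h
  have hta : t * a * t⁻¹ ∈ T := (mem_normalizer_iff.1 hn a).1 ha
  set u : T := ⟨a * (t * a * t⁻¹), mul_mem ha hta⟩ with hu
  have hu1 : u ≠ 1 := fun e => hne (congrArg Subtype.val e)
  have hab : ∀ x ∈ T, ∀ y ∈ T, x * y = y * x := fun x hx y hy => by
    letI : CommGroup T := IsCyclic.commGroup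
    exact congrArg Subtype.val (mul_comm (⟨x, hx⟩ : T) ⟨y, hy⟩)
  have hut : Commute t (u : G) := by
    show t * (a * (t * a * t⁻¹)) = a * (t * a * t⁻¹) * t
    have hti : t⁻¹ = t := inv_eq_of_mul_eq_one_right ht
    calc t * (a * (t * a * t⁻¹)) = t * (t * a * t⁻¹ * a) := by rw [hab a ha _ hta]
      _ = t * t * a * t * a := by rw [hti]; group
      _ = a * t * a * (t * t) := by rw [ht, one_mul, mul_one]
      _ = a * (t * a * t⁻¹) * t := by rw [hti]; group
  left
  refine mem_centralizer_iff.2 fun b hb => ?_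
  obtain ⟨k, hk⟩ := mem_zpowers_iff.1 (mem_zpowers_of_prime_card (G := T) hcard hu1
    (g' := ⟨b, hb⟩))
  have hk' : (u : G) ^ k = b := by simpa using congrArg Subtype.val hk
  rw [← hk']
  exact (hut.zpow_right k).symm.eq

theorem Pair.exists_normalized' (hP : Pair p q D) {t : G} (ht : orderOf t = 2) {A : Subgroup G}
    (hA : A ∈ D) : ∃ T ∈ D, MulAut.conj t • T = T := by
  by_cases h : MulAut.conj t • A = A
  · exact ⟨A, hA, h⟩
  · obtain ⟨T, hT, -, hTt⟩ := hP.exists_normalized ht A hA h
    exact ⟨T, hT, hTt⟩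

/-- A four-group normalising a line normalises one of its members. -/
theorem Pair.exists_normalized_by (hP : Pair p q D) {V : Subgroup G} (hV : Nat.card V = 4)
    {A B : Subgroup G} (hA : A ∈ D) (hB : B ∈ D) (hAB : A ≠ B)
    (hVL : V ≤ normalizer ((A ⊔ B : Subgroup G) : Set G)) :
    ∃ T ∈ D, V ≤ normalizer (T : Set G) := by
  haveI := Fact.mk hP.prime_p
  haveI := Fact.mk Nat.prime_two
  have hcop : (Nat.card V).Coprime (Nat.card (A ⊔ B : Subgroup G)) := by
    rw [hV, show (4 : ℕ) = 2 ^ 2 by norm_num]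
    exact Nat.Coprime.pow_left _ (Nat.coprime_two_left.2 (hP.line_odd hA hB hAB))
  set L := A ⊔ B
  obtain ⟨P, hPV⟩ := Solvable.exists_invariant_sylow hVL hcop
    (Or.inl (by
      haveI := (IsPGroup.of_card (G := V) (p := 2) (n := 2) (by rw [hV]; norm_num)).isNilpotent
      infer_instance)) p
  obtain ⟨Q, -, -, -, -, -, m, hm⟩ := hP.line_data hA hB hAB
  have hcardA : Nat.card (A.subgroupOf L) = p := by
    rw [Nat.card_congr (subgroupOfEquivOfLe le_sup_left).toEquiv, hP.card_mem A hA]
  have hidx : ¬ p ∣ (A.subgroupOf L).index := by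
    have h := card_mul_index (A.subgroupOf L)
    rw [hcardA, hm, mul_comm (q ^ m)] at h
    rw [Nat.eq_of_mul_eq_mul_left hP.prime_p.pos h]
    exact fun hd => hP.p_ne_q ((Nat.prime_dvd_prime_iff_eq hP.prime_p hP.prime_q).1
      (hP.prime_p.dvd_of_dvd_pow hd))
  obtain ⟨l, hl⟩ := MulAction.exists_smul_eq L
    ((IsPGroup.of_card (n := 1) (by rw [pow_one]; exact hcardA)).toSylow hidx) P
  have hl' : MulAut.conj l • A.subgroupOf L = (P : Subgroup L) := by
    rw [← hl, Sylow.coe_subgroup_smul]; rfl
  refine ⟨MulAut.conj (l : G) • A, hP.conj_mem A hA _, ?_⟩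
  have e : (P : Subgroup L).map L.subtype = MulAut.conj (l : G) • A := by
    rw [← hl']
    ext x
    rw [mem_conj_smul_iff, mem_map]
    constructor
    · rintro ⟨y, hy, rfl⟩
      rw [mem_conj_smul_iff, mem_subgroupOf] at hy
      simpa using hy
    · intro hx
      have hxL : x ∈ L := by
        have h := mul_mem (mul_mem l.2 (le_sup_left (b := B) hx : (l : G)⁻¹ * x * l ∈ L))
          (inv_mem l.2)
        simpa [mul_assoc] using h
      refine ⟨⟨x, hxL⟩, ?_, rfl⟩
      rw [mem_conj_smul_iff, mem_subgroupOf]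
      simpa using hx
  rw [← e]; exact hPV

theorem Pair.exists_centralizing_involution (hP : Pair p q D) (hgen : sSup D = ⊤)
    (heven : Even (Nat.card G)) {A : Subgroup G} (hA : A ∈ D) :
    ∃ t : G, orderOf t = 2 ∧ (fixedSet D t).Nonempty := by
  haveI := Fact.mk Nat.prime_two
  by_cases hV : ∃ E : Subgroup G, IsKleinFour E
  · obtain ⟨E, hE⟩ := hV
    haveI : Nontrivial E := Finite.one_lt_card_iff_nontrivial.1 (by rw [IsKleinFour.card_four]; norm_num)
    obtain ⟨t, ht1⟩ := exists_ne (1 : E)
    obtain ⟨s, hs1, hst⟩ : ∃ s : E, s ≠ 1 ∧ s ≠ t := by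
      by_contra hno
      push Not at hno
      have h : ((Set.univ : Set E)) ⊆ {1, t} := fun x _ => by
        by_cases hx : x = 1
        · exact Or.inl hx
        · exact Or.inr (hno x hx)
      have h' := Set.ncard_le_ncard h
      rw [Set.ncard_univ, IsKleinFour.card_four, Set.ncard_pair (Ne.symm ht1)] at h'
      omega
    have hsq : ∀ x : E, (x : G) * x = 1 := fun x => congrArg Subtype.val (IsKleinFour.mul_self x)
    have hord : ∀ x : E, x ≠ 1 → orderOf (x : G) = 2 := fun x hx =>
      orderOf_eq_prime (by rw [pow_two]; exact hsq x) (fun h => hx (Subtype.ext h))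
    have hcomm : (s : G) * t = t * s := congrArg Subtype.val (mul_comm_of_exponent_two IsKleinFour.exponent_two s t)
    obtain ⟨T, hT, hTt⟩ := hP.exists_normalized' (hord t ht1) hA
    obtain ⟨W, hW, hWn⟩ : ∃ W ∈ D, (t : G) ∈ normalizer (W : Set G) ∧
        (s : G) ∈ normalizer (W : Set G) := by
      by_cases hTs : MulAut.conj (s : G) • T = T
      · exact ⟨T, hT, mem_normalizer_of_conj_smul hTt, mem_normalizer_of_conj_smul hTs⟩
      have hS := hP.conj_mem T hT (s : G)
      have hLt : MulAut.conj (t : G) • (T ⊔ MulAut.conj (s : G) • T) =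
          T ⊔ MulAut.conj (s : G) • T := by
        rw [smul_sup, hTt, conj_smul_conj_smul, ← hcomm, ← conj_smul_conj_smul, hTt]
      have hLs := Pair.smul_line_invariant (B := T) (hord s hs1)
      have hVL : E ≤ normalizer ((T ⊔ MulAut.conj (s : G) • T : Subgroup G) : Set G) := by
        intro x hx
        have hx' : (⟨x, hx⟩ : E) = 1 ∨ (⟨x, hx⟩ : E) = t ∨ (⟨x, hx⟩ : E) = s ∨
            (⟨x, hx⟩ : E) = s * t := by
          by_contra hno
          push Not at hno
          obtain ⟨h1, h2, h3, h4⟩ := hno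
          classical
          letI := Fintype.ofFinite E
          have h5 := Finset.card_le_univ
            (α := E) ({1, t, s, s * t, (⟨x, hx⟩ : E)} : Finset E) 
          rw [← Nat.card_eq_fintype_card, IsKleinFour.card_four] at h5
          have hst1 : s * t ≠ 1 := fun e => hst (by
            rw [← inv_eq_of_mul_eq_one_left e]; exact Subtype.ext (inv_eq_of_mul_eq_one_right (hsq t)))
          have hst2 : s * t ≠ t := fun e => hs1 (mul_eq_right.1 e)
          have hst3 : s * t ≠ s := fun e => ht1 (mul_eq_left.1 e)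
          rw [Finset.card_insert_of_notMem (by simp [Ne.symm ht1, Ne.symm hs1, Ne.symm hst1, Ne.symm h1]),
            Finset.card_insert_of_notMem (by simp [Ne.symm hst, Ne.symm hst2, Ne.symm h2]),
            Finset.card_insert_of_notMem (by simp [Ne.symm hst3, Ne.symm h3]),
            Finset.card_insert_of_notMem (by simp [Ne.symm h4]), Finset.card_singleton] at h5
          omega
        rcases hx' with h | h | h | h <;> obtain rfl := congrArg Subtype.val h
        · exact one_mem _
        · exact mem_normalizer_of_conj_smul hLt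
        · exact mem_normalizer_of_conj_smul hLs
        · exact mul_mem (mem_normalizer_of_conj_smul hLs) (mem_normalizer_of_conj_smul hLt)
      obtain ⟨W, hW, hWV⟩ := hP.exists_normalized_by (V := E) IsKleinFour.card_four hT hS
        (Ne.symm hTs) hVL
      exact ⟨W, hW, hWV t.2, hWV s.2⟩
    rcases hP.centralizes_or_inverts (hsq t) hW hWn.1 with h | h
    · exact ⟨t, hord t ht1, W, hW, h⟩
    rcases hP.centralizes_or_inverts (hsq s) hW hWn.2 with h' | h'
    · exact ⟨s, hord s hs1, W, hW, h'⟩
    refine ⟨((s * t : E) : G), hord _ (fun e => hst ?_), W, hW, ?_⟩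
    · rw [← inv_eq_of_mul_eq_one_left e]
      exact Subtype.ext (inv_eq_of_mul_eq_one_right (hsq t))
    · refine mem_centralizer_iff.2 fun a ha => ?_
      have e : (s : G) * t * a * ((s : G) * t)⁻¹ = a := by
        calc (s : G) * t * a * ((s : G) * t)⁻¹ = (s : G) * (t * a * (t : G)⁻¹) * (s : G)⁻¹ := by group
          _ = a := by rw [h a ha, h' _ (inv_mem ha), inv_inv]
      rw [Subgroup.coe_mul]
      calc a * ((s : G) * t) = (s : G) * t * a * ((s : G) * t)⁻¹ * ((s : G) * t) := by rw [e]
        _ = _ := by group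
  · push Not at hV
    obtain ⟨z, hz, N, hN, hNodd, hzN⟩ := Invol.exists_central_mod_core heven hV
    have hz2 : z * z = 1 := by rw [← pow_two, ← hz, pow_orderOf_eq_one]
    obtain ⟨T, hT, hTz⟩ := hP.exists_normalized' hz hA
    rcases hP.centralizes_or_inverts hz2 hT (mem_normalizer_of_conj_smul hTz) with h | h
    · exact ⟨z, hz, T, hT, h⟩
    exfalso
    obtain ⟨k, hk⟩ := hP.prime_p.odd_of_ne_two hP.p_ne_two
    have hTN : T ≤ N := fun a ha => by
      have h2 := hzN a⁻¹
      rw [h _ (inv_mem ha), inv_inv] at h2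
      have hap : a ^ p = 1 := by
        have e := congrArg Subtype.val (pow_card_eq_one' (x := (⟨a, ha⟩ : T)))
        rw [hP.card_mem T hT] at e
        simpa using e
      have e : a = (a * a) ^ (k + 1) := by
        rw [← pow_two, ← pow_mul, show 2 * (k + 1) = p + 1 by omega, pow_succ, hap, one_mul]
      rw [e]; exact pow_mem h2 _
    have hle : sSup D ≤ N := sSup_le fun B hB => by
      by_cases hTB : T = B
      · exact hTB ▸ hTN
      obtain ⟨l, -, rfl⟩ := hP.line_conjugate hT hB hTB
      intro x hx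
      rw [mem_conj_smul_iff] at hx
      have h := hN.conj_mem _ (hTN hx) l
      simpa [mul_assoc] using h
    rw [hgen, top_le_iff] at hle
    rw [hle, card_top] at hNodd
    exact Nat.not_even_iff_odd.2 hNodd heven

end CfsgLib.PairGen
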