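import Cfsg.Agent.Lib.PairGen.Setup

/-!
# Induction for classes of subgroups of prime order generating nonabelian lines

The splitting follows from the solvable case and from the case of a group without central
involutions in which every proper subgroup splits.
-/

set_option autoImplicit false

universe u

namespace CfsgLib.PairGen

open Subgroup
open scoped Pointwise

section

variable {G : Type u} [Group G]

private theorem map_conj_smul {K : Type u} [Group K] (f : G →* K) (g : G) (A : Subgroup G) :
    (MulAut.conj g • A).map f = MulAut.conj (f g) • A.map f := by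
  change (A.map (MulAut.conj g).toMonoidHom).map f =
    (A.map f).map (MulAut.conj (f g)).toMonoidHom
  rw [Subgroup.map_map, Subgroup.map_map]
  congr 1
  ext x
  simp

private theorem pair_restrict {p q : ℕ} {D : Set (Subgroup G)} (h : Pair p q D)
    (X : Subgroup G) : Pair p q {B : Subgroup ↥X | B.map X.subtype ∈ D} where
  prime_p := h.prime_p
  prime_q := h.prime_q
  p_ne_two := h.p_ne_two
  q_ne_two := h.q_ne_two
  p_ne_q := h.p_ne_q
  card_mem A hA := by
    have := h.card_mem _ hA
    rwa [Subgroup.card_map_of_injective X.subtype_injective] at this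
  conj_mem A hA g := by
    change (MulAut.conj g • A).map X.subtype ∈ D
    rw [map_conj_smul]
    exact h.conj_mem _ hA _
  line A hA B hB hAB := by
    obtain ⟨Q, hQ, hAQ, hQA, k, hk, hk1, hkc⟩ :=
      h.line _ hA _ hB (fun e => hAB (Subgroup.map_injective X.subtype_injective e))
    have hQX : Q ≤ X := by
      intro x hx
      have hx' : x ∈ (A ⊔ B).map X.subtype := by
        rw [Subgroup.map_sup, ← hQA]
        exact mem_sup_left hx
      exact Subgroup.map_subtype_le _ hx'
    refine ⟨Q.subgroupOf X, hQ.comap_of_injective X.subtype X.subtype_injective, ?_, ?_,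
      ⟨k, hQX hk⟩, hk, ?_, ?_⟩
    · intro a ha
      rw [Subgroup.mem_normalizer_iff]
      intro x
      exact (Subgroup.mem_normalizer_iff.mp (hAQ ⟨a, ha, rfl⟩)) (x : G)
    · apply Subgroup.map_injective X.subtype_injective
      rw [Subgroup.map_sup, Subgroup.map_sup, Subgroup.map_subgroupOf_eq_of_le hQX, hQA]
    · intro e
      exact hk1 (congrArg Subtype.val e)
    · rw [Subgroup.mem_centralizer_iff] at hkc ⊢
      intro x hx
      apply Subtype.ext
      refine hkc (x : G) ?_
      rw [← Subgroup.map_sup]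
      exact ⟨x, hx, rfl⟩
  line_eq A hA B hB C hC hle hne := by
    apply Subgroup.map_injective X.subtype_injective
    rw [Subgroup.map_sup, Subgroup.map_sup]
    refine h.line_eq _ hA _ hB _ hC ?_ (fun e => hne (Subgroup.map_injective X.subtype_injective e))
    rw [← Subgroup.map_sup]
    exact Subgroup.map_mono hle

private theorem pair_quotient {p q : ℕ} {D : Set (Subgroup G)} (h : Pair p q D)
    {K : Type u} [Group K] (f : G →* K) (hf : Function.Surjective f)
    (hker : ∀ x : G, f x = 1 → x ^ 2 = 1 ∧ x ∈ center G) :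
    Pair p q ((fun A : Subgroup G => A.map f) '' D) where
  prime_p := h.prime_p
  prime_q := h.prime_q
  p_ne_two := h.p_ne_two
  q_ne_two := h.q_ne_two
  p_ne_q := h.p_ne_q
  card_mem A' hA' := by
    obtain ⟨A, hA, rfl⟩ := hA'
    have hdvd : Nat.card ↥(A.map f) ∣ Nat.card ↥A := Subgroup.card_map_dvd A f
    rw [h.card_mem A hA] at hdvd
    rcases h.prime_p.eq_one_or_self_of_dvd _ hdvd with e | e
    · exfalso
      have := Fact.mk h.prime_p
      have : Finite ↥A :=
        Nat.finite_of_card_ne_zero (by rw [h.card_mem A hA]; exact h.prime_p.ne_zero)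
      obtain ⟨a, ha⟩ := exists_prime_orderOf_dvd_card' (G := ↥A) p (by rw [h.card_mem A hA])
      have h1 : f (a : G) = 1 := by
        have hmem : f (a : G) ∈ A.map f := ⟨a, a.2, rfl⟩
        rw [Subgroup.card_eq_one.mp e] at hmem
        exact Subgroup.mem_bot.mp hmem
      have h2 : orderOf (a : G) ∣ 2 := orderOf_dvd_of_pow_eq_one (hker _ h1).1
      rw [Subgroup.orderOf_coe, ha] at h2
      exact h.p_ne_two ((Nat.prime_dvd_prime_iff_eq h.prime_p Nat.prime_two).mp h2)
    · exact e
  conj_mem A' hA' g := by
    obtain ⟨A, hA, rfl⟩ := hA'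
    obtain ⟨g, rfl⟩ := hf g
    exact ⟨_, h.conj_mem A hA g, map_conj_smul f g A⟩
  line A' hA' B' hB' hAB := by
    obtain ⟨A, hA, rfl⟩ := hA'
    obtain ⟨B, hB, rfl⟩ := hB'
    obtain ⟨Q, hQ, hAQ, hQA, k, hk, hk1, hkc⟩ := h.line A hA B hB (fun e => hAB (by rw [e]))
    refine ⟨Q.map f, hQ.map f, (Subgroup.map_mono hAQ).trans (Subgroup.le_normalizer_map f), ?_,
      f k, ⟨k, hk, rfl⟩, ?_, ?_⟩
    · rw [← Subgroup.map_sup, ← Subgroup.map_sup, hQA]
    · intro e
      obtain ⟨n, hn⟩ := hQ ⟨k, hk⟩
      have h2 : orderOf k ∣ 2 := orderOf_dvd_of_pow_eq_one (hker _ e).1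
      have h3 : orderOf k ∣ q ^ n :=
        orderOf_dvd_of_pow_eq_one (congrArg Subtype.val hn)
      have hco : Nat.Coprime (q ^ n) 2 :=
        Nat.Coprime.pow_left n ((Nat.coprime_primes h.prime_q Nat.prime_two).mpr h.q_ne_two)
      exact hk1 (orderOf_eq_one_iff.mp
        (Nat.dvd_one.mp (hco ▸ Nat.dvd_gcd h3 h2)))
    · rw [Subgroup.mem_centralizer_iff] at hkc ⊢
      intro y hy
      rw [← Subgroup.map_sup] at hy
      obtain ⟨x, hx, rfl⟩ := hy
      rw [← map_mul, ← map_mul, hkc x hx]
  line_eq A' hA' B' hB' C' hC' hle hne := by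
    obtain ⟨A, hA, rfl⟩ := hA'
    obtain ⟨B, hB, rfl⟩ := hB'
    obtain ⟨C, hC, rfl⟩ := hC'
    have hCAB : C ≤ A ⊔ B := by
      intro c hc
      have hc' : f c ∈ (A ⊔ B).map f := by
        rw [Subgroup.map_sup]
        exact hle ⟨c, hc, rfl⟩
      obtain ⟨x, hx, hxc⟩ := hc'
      obtain ⟨hw2, hwc⟩ := hker (x⁻¹ * c) (by rw [map_mul, map_inv, hxc, inv_mul_cancel])
      have hcx : c ^ 2 = x ^ 2 := by
        calc c ^ 2 = (x * (x⁻¹ * c)) ^ 2 := by rw [mul_inv_cancel_left]
          _ = x ^ 2 * (x⁻¹ * c) ^ 2 :=
            Commute.mul_pow (Subgroup.mem_center_iff.mp hwc x) 2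
          _ = x ^ 2 := by rw [hw2, mul_one]
      have hcp : c ^ p = 1 := by
        have := pow_card_eq_one' (x := (⟨c, hc⟩ : ↥C))
        rw [h.card_mem C hC] at this
        exact congrArg Subtype.val this
      obtain ⟨m, hm⟩ := h.prime_p.odd_of_ne_two h.p_ne_two
      have hc2 : c = (c ^ 2) ^ (m + 1) := by
        rw [← pow_mul, show 2 * (m + 1) = p + 1 by omega, pow_succ, hcp, one_mul]
      rw [hc2, hcx]
      exact pow_mem (pow_mem hx 2) _
    rw [← Subgroup.map_sup, ← Subgroup.map_sup,
      h.line_eq A hA B hB C hC hCAB (fun e => hne (by rw [e]))]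

private theorem solvable_of_split [Finite G] {q : ℕ} (hq : q.Prime) {A : Subgroup G}
    {p : ℕ} (hp : p.Prime) (hA : Nat.card A = p) (hs : Split q A) : Group.IsSolvable G := by
  obtain ⟨R, hRn, hR, hRA⟩ := hs
  have := Fact.mk hq
  have := Fact.mk hp
  have : R.Normal := hRn
  have : Group.IsNilpotent ↥R := hR.isNilpotent
  have : IsCyclic ↥A := isCyclic_of_prime_card hA
  have : Group.IsSolvable ↥A := Group.isSolvable_of_comm (fun a b => by
    let := IsCyclic.commGroup (α := ↥A)
    exact mul_comm a b)
  have hsurj : Function.Surjective ((QuotientGroup.mk' R).comp A.subtype) := by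
    rw [← MonoidHom.range_eq_top, MonoidHom.range_comp, Subgroup.range_subtype]
    have h1 : (R ⊔ A).map (QuotientGroup.mk' R) = ⊤ := by
      rw [hRA, Subgroup.map_top_of_surjective _ (QuotientGroup.mk'_surjective R)]
    rwa [Subgroup.map_sup, QuotientGroup.map_mk'_self, bot_sup_eq] at h1
  have : Group.IsSolvable (G ⧸ R) := Group.isSolvable_of_surjective hsurj
  exact Group.isSolvable_of_ker_le_range R.subtype (QuotientGroup.mk' R) (by simp)

end

/-- The splitting follows from the solvable case and the case of a group without central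
involutions all of whose proper subgroups split. -/
theorem split_induction {p q : ℕ}
    (hsolv : ∀ (G : Type u) [Group G] [Finite G] (D : Set (Subgroup G)), Pair p q D →
      sSup D = ⊤ → Group.IsSolvable G → ∀ A ∈ D, Split q A)
    (step : ∀ (G : Type u) [Group G] [Finite G] (D : Set (Subgroup G)), Pair p q D →
      sSup D = ⊤ →
      (∀ H : Subgroup G, H ≠ ⊤ → ∀ A ∈ inside D H,
        ∃ R : Subgroup G, Flat q D (sSup (inside D H)) A R) →
      (∀ z ∈ center G, orderOf z ≠ 2) → ∀ A ∈ D, Split q A) :
    ∀ (G : Type u) [Group G] [Finite G] (D : Set (Subgroup G)), Pair p q D → sSup D = ⊤ →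
      ∀ A ∈ D, Split q A := by
  intro G _ _ D hD hgen A hA
  induction hn : Nat.card G using Nat.strong_induction_on generalizing G with
  | _ n ih =>
    subst hn
    by_cases hz : ∃ z ∈ center G, orderOf z = 2
    · obtain ⟨z, hzc, hz2⟩ := hz
      have hZle : zpowers z ≤ center G := zpowers_le.mpr hzc
      have : (zpowers z).Normal := ⟨fun x hx g => by
        rwa [Subgroup.mem_center_iff.mp (hZle hx) g, mul_inv_cancel_right]⟩
      have hcardZ : Nat.card ↥(zpowers z) = 2 := by rw [Nat.card_zpowers, hz2]
      have hlt : Nat.card (G ⧸ zpowers z) < Nat.card G := by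
        rw [Subgroup.card_eq_card_quotient_mul_card_subgroup (zpowers z), hcardZ]
        have : 0 < Nat.card (G ⧸ zpowers z) := Nat.card_pos
        omega
      have hker : ∀ x : G, QuotientGroup.mk' (zpowers z) x = 1 → x ^ 2 = 1 ∧ x ∈ center G := by
        intro x hx
        have hxz : x ∈ zpowers z := (QuotientGroup.eq_one_iff x).mp hx
        refine ⟨?_, hZle hxz⟩
        have := pow_card_eq_one' (x := (⟨x, hxz⟩ : ↥(zpowers z)))
        rw [hcardZ] at this
        exact congrArg Subtype.val this
      have hgen' : sSup ((fun B : Subgroup G => B.map (QuotientGroup.mk' (zpowers z))) '' D) = ⊤ := by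
        rw [sSup_image, ← (Subgroup.gc_map_comap (QuotientGroup.mk' (zpowers z))).l_sSup, hgen]
        exact Subgroup.map_top_of_surjective _ (QuotientGroup.mk'_surjective _)
      have hD' := pair_quotient hD (QuotientGroup.mk' (zpowers z))
        (QuotientGroup.mk'_surjective _) hker
      have hsplit := ih _ hlt _ _ hD' hgen' _ ⟨A, hA, rfl⟩ rfl
      have : Group.IsSolvable (G ⧸ zpowers z) :=
        solvable_of_split hD.prime_q hD.prime_p (hD'.card_mem _ ⟨A, hA, rfl⟩) hsplit
      have : Group.IsSolvable ↥(zpowers z) := Group.isSolvable_of_comm (fun a b => by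
        apply Subtype.ext
        exact (Subgroup.mem_center_iff.mp (hZle a.2) b).symm)
      exact hsolv G D hD hgen
        (Group.isSolvable_of_ker_le_range (zpowers z).subtype (QuotientGroup.mk' (zpowers z)) (by simp))
        A hA
    · refine step G D hD hgen ?_ (fun z hzc hz2 => hz ⟨z, hzc, hz2⟩) A hA
      intro H hH B hB
      set X := sSup (inside D H) with hX
      have hXH : X ≤ H := sSup_le fun C hC => hC.2
      have hXlt : Nat.card ↥X < Nat.card G := by
        refine lt_of_le_of_ne (Subgroup.card_le_card_group X) fun e => hH ?_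
        exact top_le_iff.mp ((Subgroup.eq_top_of_card_eq X e) ▸ hXH)
      have hBX : B ≤ X := le_sSup hB
      have hmem : ∀ C ∈ inside D H,
          C.subgroupOf X ∈ {B : Subgroup ↥X | B.map X.subtype ∈ D} := by
        intro C hC
        change (C.subgroupOf X).map X.subtype ∈ D
        rw [Subgroup.map_subgroupOf_eq_of_le (le_sSup hC)]
        exact hC.1
      have hgen' : sSup {B : Subgroup ↥X | B.map X.subtype ∈ D} = ⊤ := by
        rw [eq_top_iff, ← Subgroup.map_subtype_le_map_subtype, ← MonoidHom.range_eq_map,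
          Subgroup.range_subtype]
        refine sSup_le fun C hC => ?_
        rw [← Subgroup.map_subgroupOf_eq_of_le (show C ≤ X from le_sSup hC)]
        exact Subgroup.map_mono (le_sSup (hmem C hC))
      obtain ⟨R, hRn, hR, hRA⟩ :=
        ih _ hXlt ↥X _ (pair_restrict hD X) hgen' _ (hmem B hB) rfl
      refine ⟨R.map X.subtype, ⟨hB.1, hR.map _, ?_, ?_, ?_⟩⟩
      · have h1 := Subgroup.le_normalizer_map (H := R) X.subtype
        rwa [Subgroup.normalizer_eq_top, ← MonoidHom.range_eq_map, Subgroup.range_subtype] at h1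
      · rw [← Subgroup.map_subgroupOf_eq_of_le hBX, ← Subgroup.map_sup, hRA,
          ← MonoidHom.range_eq_map, Subgroup.range_subtype]
      · refine le_antisymm (sSup_le fun C hC => hC.2) (sSup_le fun C hC => ?_)
        exact le_sSup ⟨hC.1, le_sSup hC⟩

end CfsgLib.PairGen
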