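import Cfsg.Agent.Lib.PairGen.Max

/-!
# The case of a central fixed centre: a normal `q`-subgroup

If every element of the fixed flat centralising a fixed member is central, the fixed flat and the
elements inverted by the involution in the centres of the flats of the conjugates of a violator
generate a normal `q`-subgroup, stabilising the set of fixed members.
-/

set_option autoImplicit false
set_option linter.unusedSectionVars false
set_option linter.style.haveILetI false

universe u

namespace CfsgLib.PairGen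

open Subgroup
open scoped Pointwise commutatorElement

variable {G : Type u} [Group G] [Finite G] {p q : ℕ} {D : Set (Subgroup G)}

/-- An element inverted by `t` in the centre of the flat of a conjugate of `k`. -/
def Skew (q : ℕ) (D : Set (Subgroup G)) (t : G) (T : Subgroup G) (k z : G) : Prop :=
  ∃ (g : G) (R' : Subgroup G), Commute g t ∧
    Flat q D (hull D (centralizer ({g * k * g⁻¹} : Set G))) T R' ∧
    z ∈ R' ⊓ centralizer (T : Set G) ∧ t * z * t⁻¹ = z⁻¹

namespace MaxInv

variable {t : G}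

/-- An involution centralising the fixed members normalises every hull containing them. -/
theorem stab (h : MaxInv p q D t) {s : G} (hs : orderOf s = 2)
    (hWs : fixedSet D t ⊆ fixedSet D s) {H : Subgroup G} (hW : fixedSet D t ⊆ inside D H) :
    s ∈ normalizer (hull D H : Set G) := by
  have hP := h.ctx.pair
  have hWeq : fixedSet D s = fixedSet D t :=
    (Set.eq_of_subset_of_ncard_le hWs (h.max s hs) (Set.toFinite _)).symm
  refine PairGen.mem_normalizer_hull fun B hB => ?_
  by_cases hmv : MulAut.conj s • B = B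
  · rwa [hmv]
  obtain ⟨T0, hT0⟩ := h.nonempty
  obtain ⟨T', hT', hle, hn⟩ := hP.exists_normalized hs B hB.1 hmv
  have hTW : T' ∈ fixedSet D t :=
    hWeq ▸ hP.centralizes_of_normalized hs T0 (hWs hT0) T' hT' hn
  have hne : T' ≠ B := fun e => hmv (e ▸ hn)
  have e := hP.line_eq B hB.1 _ (hP.conj_mem B hB.1 s) T' hT' hle hne
  exact ⟨hP.conj_mem B hB.1 s, (le_sup_right.trans e.ge).trans (sup_le hB.2 (hW hTW).2)⟩

/-- A class fixed by an involution with the same fixed members comes from the fixed flat. -/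
theorem fixed_class (h : MaxInv p q D t) {T R : Subgroup G} (hT : T ∈ fixedSet D t)
    (hR : Flat q D (hull D (centralizer ({t} : Set G))) T R) {X R' : Subgroup G}
    (hR' : Flat q D X T R') (hRR' : R ≤ R') {s : G} (hs : orderOf s = 2)
    (hsW : fixedSet D s = fixedSet D t) {u : G} (hu : u ∈ R')
    (hsu : s * u * s⁻¹ ∈ R') (hfix : u⁻¹ * (s * u * s⁻¹) ∈ R' ⊓ centralizer (T : Set G)) :
    ∃ w ∈ R, w⁻¹ * u ∈ R' ⊓ centralizer (T : Set G) := by
  have hP := h.ctx.pair
  have hTs : T ∈ fixedSet D s := hsW.symm ▸ hT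
  have hsT : MulAut.conj s • T = T :=
    CfsgLib.Solvable.conj_smul_eq_self_iff.2 (centralizer_le_normalizer _ hTs.2)
  have e := (hR'.conj_eq_iff hP u hu _ hsu).2 hfix
  have hn : MulAut.conj s • (MulAut.conj u • T) = MulAut.conj u • T := by
    rw [e]
    conv_lhs => rw [← e, conj_smul_conj_smul]
    conv_rhs => rw [← hsT, conj_smul_conj_smul]
    congr 2
    group
  have hf := hP.centralizes_of_normalized hs T hTs _ (hP.conj_mem T hT.1 u) hn
  rw [hsW, fixedSet_eq] at hf
  obtain ⟨w, hw, hwe⟩ := hR.exists_conj hP _ (inside_hull hf)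
  exact ⟨w, hw, (hR'.conj_eq_iff hP w (hRR' hw) u hu).1 hwe.symm⟩

/-- The fixed flat lies in every flat through the fixed members. -/
theorem flat_le (h : MaxInv p q D t) {T R : Subgroup G}
    (hR : Flat q D (hull D (centralizer ({t} : Set G))) T R) {H R' : Subgroup G}
    (hR' : Flat q D (hull D H) T R') (hW : fixedSet D t ⊆ inside D H) : R ≤ R' := fun w hw =>
  hR'.le_R h.ctx.pair w
    ((sSup_le fun B hB => le_hull (hW (by rw [fixedSet_eq]; exact hB)) :
      hull D (centralizer ({t} : Set G)) ≤ hull D H) (hR.R_le hw))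
    (exists_order_of_isPGroup h.ctx.pair.prime_q hR.pgrp hw)

/-- With a central fixed centre the fixed members commute with a violator. -/
theorem fixed_subset (h : MaxInv p q D t) {T C : Subgroup G} {k : G}
    (hv : Violator q D t T C k) {R : Subgroup G}
    (hR : Flat q D (hull D (centralizer ({t} : Set G))) T R)
    (hcen : ∀ z ∈ R ⊓ centralizer (T : Set G), z ∈ center G) :
    fixedSet D t ⊆ inside D (centralizer ({k} : Set G)) := by
  have hP := h.ctx.pair
  obtain ⟨a, ha, ha1⟩ := h.ctx.exists_gen hv.memT.1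
  have hkX := h.mem_normalizer_hull hv.kt
  have hfix := fix_all hP.prime_q hP.q_ne_two (hR.cls hP) hR.pgrp (hR.A_norm ha)
    (hR.anis hP a ha ha1) hv.kq (hR.mem_normalizer_R hP hkX) (hR.mem_normalizer_zc hP hkX)
    ((mem_centralizer_iff.1 hv.kT a ha).symm) (t := 1) (one_mul 1) (one_mem _) (one_mem _)
    (Commute.one_left a) (Commute.one_left k)
    (fun y hy _ => by rw [mem_center_iff.1 (hcen y hy) k]; group)
  intro B hB
  rw [fixedSet_eq] at hB
  exact ⟨hB.1, le_centralizer_singleton.2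
    (hR.centralizes_members hP hv.kT hfix B (inside_hull hB))⟩

/-- With a central fixed centre a violator gives a normal subgroup stabilising the fixed
members. -/
theorem exists_normal_stable (h : MaxInv p q D t) {T C : Subgroup G} {k : G}
    (hv : Violator q D t T C k) {R : Subgroup G}
    (hR : Flat q D (hull D (centralizer ({t} : Set G))) T R)
    (hcen : ∀ z ∈ R ⊓ centralizer (T : Set G), z ∈ center G) :
    ∃ Φ : Subgroup G, Φ.Normal ∧ R ≤ Φ ∧
      ∀ φ ∈ Φ, ∀ B ∈ fixedSet D t, MulAut.conj φ • B ∈ fixedSet D t := by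
  have hc := h.ctx
  have hP := hc.pair
  haveI := Fact.mk hP.prime_q
  set Ct := centralizer ({t} : Set G) with hCt
  obtain ⟨a, ha, ha1⟩ := hc.exists_gen hv.memT.1
  have hkW := h.fixed_subset hv hR hcen
  have hW : ∀ g, Commute g t →
      fixedSet D t ⊆ inside D (centralizer ({g * k * g⁻¹} : Set G)) := by
    intro g hg B hB
    have h1 := hkW (h.smul_fixed hP hg.inv_left hB)
    have h2 := smul_le_centralizer (g := g) h1.2
    rw [conj_smul_conj_smul, mul_inv_cancel, map_one, one_smul] at h2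
    exact ⟨hB.1, h2⟩
  have hprop : ∀ g : G, centralizer ({g * k * g⁻¹} : Set G) ≠ ⊤ := fun g =>
    Ctx.centralizer_ne_top fun hh => h.noncentral hv (by
      have := (inferInstance : (center G).Normal).conj_mem _ hh g⁻¹
      simpa [mul_assoc] using this)
  have hkT : T ∈ inside D (centralizer ({k} : Set G)) := hkW hv.memT
  have hkC : C ∈ inside D (centralizer ({k} : Set G)) :=
    ⟨hv.memC, le_sup_right.trans (h.line_le hv)⟩
  have hkmem : ∀ g, g * k * g⁻¹ ∈ hull D (centralizer ({g * k * g⁻¹} : Set G)) := by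
    intro g
    have h1 : MulAut.conj g • (T ⊔ C) ≤ hull D (centralizer ({g * k * g⁻¹} : Set G)) := by
      rw [smul_sup]
      exact sup_le (le_hull ⟨hP.conj_mem T hkT.1 g, smul_le_centralizer hkT.2⟩)
        (le_hull ⟨hP.conj_mem C hkC.1 g, smul_le_centralizer hkC.2⟩)
    refine h1 (mem_conj_smul_iff.2 ?_)
    rw [show g⁻¹ * (g * k * g⁻¹) * g = k by group]
    exact hv.memk
  -- some conjugate has a different flat
  obtain ⟨g0, hg0, hdiff⟩ : ∃ g, Commute g t ∧
      ¬ inside D (centralizer ({g * k * g⁻¹} : Set G)) = inside D (centralizer ({k} : Set G)) := by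
    by_contra hno
    push Not at hno
    obtain ⟨RH, hRH⟩ := hc.proper _ (Ctx.centralizer_ne_top (h.noncentral hv)) T hkT
    refine hv.bad (mem_core_of_normal inf_le_right (fun g hg => ?_)
      (centralizer_odd_sub hP hRH)
      (⟨hRH.le_R hP k (by simpa using hkmem 1) hv.kq, mem_cent hv.kt⟩ : k ∈ RH ⊓ Ct))
    have hgH : g ∈ normalizer (hull D (centralizer ({k} : Set G)) : Set G) :=
      PairGen.mem_normalizer_hull fun B hB => by
        rw [← hno g (mem_centralizer_singleton_iff.1 hg)]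
        exact ⟨hP.conj_mem B hB.1 g, smul_le_centralizer hB.2⟩
    exact inf_normalizer_le_normalizer_inf
      ⟨hRH.mem_normalizer_R hP hgH, le_normalizer hg⟩
  -- the skew elements
  set S : Set G := {z | Skew q D t T k z} with hS
  have hSq : ∀ z ∈ S, ∃ n, orderOf z = q ^ n := by
    rintro z ⟨g, R', -, hR', hz, -⟩
    exact exists_order_of_isPGroup hP.prime_q hR'.pgrp hz.1
  have hSW : ∀ z ∈ S, ∀ B ∈ fixedSet D t, z ∈ centralizer (B : Set G) := by
    rintro z ⟨g, R', hg, hR', hz, -⟩ B hB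
    exact centralizer_le (fun _ hx => le_hull (hW g hg hB) hx) (hR'.zc_le hP hz)
  have hSN : ∀ z ∈ S, ∀ H : Subgroup G, fixedSet D t ⊆ inside D H →
      z ∈ normalizer (hull D H : Set G) := by
    intro z hz H hH
    obtain ⟨g, R', -, -, -, htz⟩ := id hz
    have hzs : orderOf (z⁻¹ * t * z) = 2 := by
      have e := (MulAut.conj z⁻¹).orderOf_eq t
      simpa [h.ord] using e
    have hs := h.stab hzs (fun B hB => ⟨hB.1, mul_mem (mul_mem (inv_mem (hSW z hz B hB)) hB.2)
      (hSW z hz B hB)⟩) hH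
    have ht := h.stab h.ord le_rfl hH
    refine mem_of_sq_mem hP.q_ne_two hP.prime_q (hSq z hz) (inv_mem_iff.1 ?_)
    have e : (z * z)⁻¹ = z⁻¹ * t * z * t := by
      calc (z * z)⁻¹ = z⁻¹ * z⁻¹ := mul_inv_rev z z
        _ = z⁻¹ * (t * z * t⁻¹) := by rw [htz]
        _ = _ := by rw [h.inv]; group
    rw [e]
    exact mul_mem hs ht
  set Ψ := closure S with hΨ
  have hΨN : ∀ H : Subgroup G, fixedSet D t ⊆ inside D H →
      Ψ ≤ normalizer (hull D H : Set G) := fun H hH => (closure_le _).2 fun z hz => hSN z hz H hH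
  have hΨW : ∀ B ∈ fixedSet D t, Ψ ≤ centralizer (B : Set G) :=
    fun B hB => (closure_le _).2 fun z hz => hSW z hz B hB
  have hΨX : hull D Ct ≤ centralizer (Ψ : Set G) := sSup_le fun B hB =>
    le_centralizer_iff.1 (hΨW B (by rw [fixedSet_eq]; exact hB))
  have hΨp : IsPGroup q Ψ := by
    refine ((CfsgLib.Solvable.pCore_isPGroup (p := q) Ψ).map Ψ.subtype).to_le ?_
    refine (closure_le _).2 fun z hz => ?_
    obtain ⟨g, R', hg, hR', hz', -⟩ := id hz
    set I := (R' ⊓ centralizer (T : Set G)) ⊓ Ψ with hI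
    have hIn : Ψ ≤ normalizer (I : Set G) := fun x hx => inf_normalizer_le_normalizer_inf
      ⟨hR'.mem_normalizer_zc hP (hΨN _ (hW g hg) hx), le_normalizer hx⟩
    haveI hnor : (I.subgroupOf Ψ).Normal := (normal_subgroupOf_iff_le_normalizer inf_le_right).2 hIn
    have hIp : IsPGroup q (I.subgroupOf Ψ) :=
      (hR'.pgrp.to_le (inf_le_left.trans inf_le_left : I ≤ R')).comap_of_injective Ψ.subtype
        Ψ.subtype_injective
    exact ⟨⟨z, subset_closure hz⟩, CfsgLib.Solvable.le_pCore hnor hIp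
      (mem_subgroupOf.2 ⟨hz', subset_closure hz⟩), rfl⟩
  have hΨR : Ψ ≤ normalizer (R : Set G) :=
    ((le_centralizer_iff.1 (hR.R_le.trans hΨX)).trans (centralizer_le_normalizer _))
  set Φ := R ⊔ Ψ with hΦ
  set N := normalizer (Φ : Set G) with hN
  have hTN : T ≤ N := fun x hx => by
    have hxR := hR.A_norm hx
    have hxΨ : x ∈ normalizer (Ψ : Set G) :=
      centralizer_le_normalizer _ (le_centralizer_iff.1 (hΨW T hv.memT) hx)
    rw [hN, ← CfsgLib.Solvable.conj_smul_eq_self_iff, hΦ, smul_sup,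
      CfsgLib.Solvable.conj_smul_eq_self_iff.2 hxR,
      CfsgLib.Solvable.conj_smul_eq_self_iff.2 hxΨ]
  have hat : a * t = t * a := mem_centralizer_iff.1 hv.memT.2 a ha
  have hRt : ∀ w ∈ R, t * w * t⁻¹ = w := fun w hw => by
    have := mem_centralizer_singleton_iff.1 (hull_le _ _ (hR.R_le hw))
    rw [← this]; group
  have htt : ∀ y, t * (t * y * t⁻¹) * t⁻¹ = y := fun y => by
    rw [h.inv, show t * (t * y * t) * t = (t * t) * y * (t * t) by group, h.sq, one_mul, mul_one]
  have hfa : ∀ y, a * (t * y * t⁻¹) * a⁻¹ = t * (a * y * a⁻¹) * t⁻¹ := fun y => by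
    calc a * (t * y * t⁻¹) * a⁻¹ = (a * t) * y * (a * t)⁻¹ := by group
      _ = (t * a) * y * (t * a)⁻¹ := by rw [hat]
      _ = _ := by group
  have hinv : ∀ y, t * ((t * y * t⁻¹)⁻¹ * y) * t⁻¹ = ((t * y * t⁻¹)⁻¹ * y)⁻¹ := fun y => by
    calc t * ((t * y * t⁻¹)⁻¹ * y) * t⁻¹ = (t * (t * y * t⁻¹) * t⁻¹)⁻¹ * (t * y * t⁻¹) := by
          simp [mul_assoc]
      _ = y⁻¹ * (t * y * t⁻¹) := by rw [htt]
      _ = _ := by group
  -- every flat of a conjugate lies in `N`
  have hXN : ∀ g, Commute g t →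
      inside D (centralizer ({g * k * g⁻¹} : Set G)) ⊆ inside D N := by
    intro g hg
    set H := centralizer ({g * k * g⁻¹} : Set G) with hH
    have hWH := hW g hg
    obtain ⟨R', hR'⟩ := hc.proper H (hprop g) T (hWH hv.memT)
    suffices hsuff : R' ≤ N by
      intro B hB
      exact ⟨hB.1, (le_hull hB).trans (hR'.sup ▸ sup_le hsuff hTN)⟩
    set Z := R' ⊓ centralizer (T : Set G) with hZ
    have hC : Cls R' Z := hR'.cls hP
    have htX := h.stab h.ord le_rfl hWH
    have htR := hR'.mem_normalizer_R hP htX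
    have htZ := hR'.mem_normalizer_zc hP htX
    have hRR := h.flat_le hR hR' hWH
    have haR' := hR'.A_norm ha
    have hfc : ∀ u ∈ R', u⁻¹ * (t * u * t⁻¹) ∈ Z → ∃ w ∈ R, w⁻¹ * u ∈ Z := fun u hu hh =>
      h.fixed_class hv.memT hR hR' hRR h.ord rfl hu (conj_mem_of_mem_normalizer htR hu) hh
    set U := R' ⊓ N with hU
    suffices hall : ∀ x ∈ R', x * x ∈ U ⊔ Z by
      have e : U ⊔ Z = R' := le_antisymm (sup_le inf_le_left inf_le_left) fun x hx =>
        mem_of_sq_mem hP.q_ne_two hP.prime_q (exists_order_of_isPGroup hP.prime_q hR'.pgrp hx)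
          (hall x hx)
      rw [← hR'.eq_of_sup hP U inf_le_left e]
      exact inf_le_right
    intro x hx
    set s := t * x * t⁻¹ with hs
    have hsR : s ∈ R' := conj_mem_of_mem_normalizer htR hx
    rw [show x * x = (x * s) * (s⁻¹ * x) by group]
    refine mul_mem ?_ ?_
    · -- the fixed part
      have hfix : (x * s)⁻¹ * (t * (x * s) * t⁻¹) ∈ Z := by
        rw [show t * (x * s) * t⁻¹ = (t * x * t⁻¹) * (t * s * t⁻¹) by group, hs, htt]
        exact hC.swap hsR hx
      obtain ⟨w, hw, hwu⟩ := hfc _ (mul_mem hx hsR) hfix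
      rw [show x * s = w * (w⁻¹ * (x * s)) by group]
      exact mul_mem (mem_sup_left ⟨hRR hw, le_normalizer (mem_sup_left hw)⟩) (mem_sup_right hwu)
    -- the inverted part
    set v := s⁻¹ * x with hv'
    have hvR : v ∈ R' := mul_mem (inv_mem hsR) hx
    have htv : t * v * t⁻¹ = v⁻¹ := hinv x
    obtain ⟨y, hy, hyv⟩ := hR'.exists_commutator hP a ha ha1 v hvR
    set c := v⁻¹ * (y⁻¹ * (a * y * a⁻¹)) with hcdef
    set y' := (t * y * t⁻¹)⁻¹ * y with hy'
    have hy'R : y' ∈ R' := mul_mem (inv_mem (conj_mem_of_mem_normalizer htR hy)) hy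
    have hty : t * y' * t⁻¹ = y'⁻¹ := hinv y
    set m := y'⁻¹ * (a * y' * a⁻¹) with hm
    have hmR : m ∈ R' := mul_mem (inv_mem hy'R) (conj_mem_of_mem_normalizer haR' hy'R)
    -- `m` normalises `Φ`
    have hmN : m ∈ N := by
      have htm : t * m * t⁻¹ = y' * m⁻¹ * y'⁻¹ := by
        calc t * m * t⁻¹ = (t * y' * t⁻¹)⁻¹ * (t * (a * y' * a⁻¹) * t⁻¹) := by rw [hm]; group
          _ = y' * (a * y'⁻¹ * a⁻¹) := by rw [← hfa, hty, inv_inv]
          _ = _ := by rw [hm]; group
      have hwm : ∀ w ∈ R, m⁻¹ * w * m ∈ Φ := by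
        intro w hw
        set β := ⁅w⁻¹, m⁻¹⁆ with hβ
        have hβZ : β ∈ Z := hC.mem_comm (inv_mem (hRR hw)) (inv_mem hmR)
        have hz2 : m⁻¹ * y' * m * y'⁻¹ ∈ Z := by
          have := hC.mem_comm (inv_mem hmR) hy'R
          rwa [commutatorElement_def, inv_inv] at this
        have htβ : t * β * t⁻¹ = β⁻¹ := by
          have e1 : t * β * t⁻¹ = ⁅t * w⁻¹ * t⁻¹, (t * m * t⁻¹)⁻¹⁆ := by
            simp [hβ, commutatorElement_def, mul_assoc]
          rw [e1, hRt _ (inv_mem hw), htm,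
            show (y' * m⁻¹ * y'⁻¹)⁻¹ = m * (m⁻¹ * y' * m * y'⁻¹) by group,
            hC.bracket_mul_right (inv_mem (hRR hw)) hmR (hC.le hz2),
            hC.bracket_right_eq_one hz2 (inv_mem (hRR hw)), mul_one]
          refine eq_inv_of_mul_eq_one_left ?_
          rw [hβ, ← hC.bracket_mul_right (inv_mem (hRR hw)) hmR (inv_mem hmR), mul_inv_cancel,
            commutatorElement_one_right]
        rw [show m⁻¹ * w * m = w * β by rw [hβ, commutatorElement_def]; group]
        exact mul_mem (mem_sup_left hw)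
          (mem_sup_right (subset_closure ⟨g, R', hg, hR', hβZ, htβ⟩))
      have hzm : ∀ z ∈ S, m⁻¹ * z * m ∈ Φ := by
        intro z hz
        have hzX := hSN z hz H hWH
        have hzR := hR'.mem_normalizer_R hP hzX
        have hzZ := hR'.mem_normalizer_zc hP hzX
        have hza : a * z = z * a := mem_centralizer_iff.1 (hSW z hz T hv.memT) a ha
        obtain ⟨-, -, -, -, -, htz⟩ := id hz
        have hzw : ∀ w ∈ R, z * w * z⁻¹ = w := fun w hw => by
          have := mem_centralizer_iff.1 (hΨX (hR.R_le hw)) z (subset_closure hz)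
          rw [this]; group
        have hd := fixed_shift hP.prime_q hP.q_ne_two hC (hSq z hz) hzR hzZ h.sq htR htZ htz
          (fun u hu hh => by
            obtain ⟨w, hw, hwu⟩ := hfc u hu hh
            have e : u⁻¹ * (z * u * z⁻¹) =
                (w⁻¹ * u)⁻¹ * w⁻¹ * (z * w * z⁻¹) * (z * (w⁻¹ * u) * z⁻¹) := by group
            rw [e, hzw w hw, inv_mul_cancel_right]
            exact mul_mem (inv_mem hwu) (conj_mem_of_mem_normalizer hzZ hwu)) y' hy'R
        obtain ⟨w, hw, hwd⟩ := hfc _ (mul_mem (inv_mem hy'R)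
          (conj_mem_of_mem_normalizer hzR hy'R)) hd
        set c' := w⁻¹ * (y'⁻¹ * (z * y' * z⁻¹)) with hc'
        have hw' : a * w * a⁻¹ ∈ R := conj_mem_of_mem_normalizer (hR.A_norm ha) hw
        have hac : a * c' * a⁻¹ = c' := by
          rw [mem_centralizer_iff.1 hwd.2 a ha]; group
        have ezm : z * m * z⁻¹ = w⁻¹ * m * (a * w * a⁻¹) := by
          have hwR := hRR hw
          have hmem : w⁻¹ * m * (a * w * a⁻¹) ∈ R' :=
            mul_mem (mul_mem (inv_mem hwR) hmR) (hRR hw')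
          calc z * m * z⁻¹ = (z * y' * z⁻¹)⁻¹ * ((z * a) * y' * (z * a)⁻¹) := by rw [hm]; group
            _ = (z * y' * z⁻¹)⁻¹ * (a * (z * y' * z⁻¹) * a⁻¹) := by rw [← hza]; group
            _ = c'⁻¹ * (w⁻¹ * m * (a * w * a⁻¹)) * (a * c' * a⁻¹) := by rw [hc', hm]; group
            _ = c'⁻¹ * ((w⁻¹ * m * (a * w * a⁻¹)) * c') := by rw [hac]; group
            _ = _ := by rw [hC.cmt hwd hmem, inv_mul_cancel_left]
        rw [show m⁻¹ * z * m = m⁻¹ * (z * m * z⁻¹) * z by group, ezm,
          show m⁻¹ * (w⁻¹ * m * (a * w * a⁻¹)) * z =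
            (m⁻¹ * w⁻¹ * m) * (a * w * a⁻¹) * z by group]
        exact mul_mem (mul_mem (hwm _ (inv_mem hw)) (mem_sup_left hw'))
          (mem_sup_right (subset_closure hz))
      have hall' : ∀ x ∈ Φ, m⁻¹ * x * m ∈ Φ := by
        have hle : Φ ≤ Φ.comap (MulAut.conj m⁻¹).toMonoidHom :=
          sup_le (fun w hw => by simpa using hwm w hw)
            ((closure_le _).2 fun z hz => by simpa using hzm z hz)
        intro x hx
        simpa using hle hx
      have hle : MulAut.conj m⁻¹ • Φ ≤ Φ := fun x hx => by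
        have h1 := hall' _ (mem_conj_smul_iff.1 hx)
        rwa [show m⁻¹ * (m⁻¹⁻¹ * x * m⁻¹) * m = x by group] at h1
      exact inv_mem_iff.1 (CfsgLib.Solvable.conj_smul_eq_self_iff.1
        (eq_of_le_of_card_ge hle (le_of_eq (CfsgLib.Solvable.card_conj_smul _ _).symm)))
    refine mem_of_sq_mem hP.q_ne_two hP.prime_q
      (exists_order_of_isPGroup hP.prime_q hR'.pgrp hvR) ?_
    set c1 := (t * c * t⁻¹)⁻¹ with hc1
    have hc1Z : c1 ∈ Z := inv_mem (conj_mem_of_mem_normalizer htZ hyv)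
    set z1 := ⁅v⁻¹, y'⁻¹⁆ with hz1
    have hz1Z : z1 ∈ Z := hC.mem_comm (inv_mem hvR) (inv_mem hy'R)
    have e1 : m = c1 * (v * v) * (z1 * c) := by
      have hF : (t * y * t⁻¹)⁻¹ * (a * (t * y * t⁻¹) * a⁻¹) =
          v⁻¹ * (t * c * t⁻¹) := by
        rw [hfa, ← htv, hcdef]; group
      calc m = y'⁻¹ * ((t * y * t⁻¹)⁻¹ * (a * (t * y * t⁻¹) * a⁻¹))⁻¹ * y' *
            (y⁻¹ * (a * y * a⁻¹)) := by rw [hm, hy']; group
        _ = (y'⁻¹ * c1) * (v * y') * (v * c) := by rw [hF, hc1, hcdef]; group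
        _ = (c1 * y'⁻¹) * (v * y') * (v * c) := by rw [hC.cmt hc1Z (inv_mem hy'R)]
        _ = c1 * v * (z1 * v) * c := by rw [hz1, commutatorElement_def]; group
        _ = c1 * v * (v * z1) * c := by rw [hC.cmt hz1Z hvR]
        _ = _ := by group
    rw [show v * v = c1⁻¹ * m * (z1 * c)⁻¹ by rw [e1]; group]
    exact mul_mem (mul_mem (mem_sup_right (inv_mem hc1Z)) (mem_sup_left ⟨hmR, hmN⟩))
      (mem_sup_right (inv_mem (mul_mem hz1Z hyv)))
  -- `N` is everything
  have hNtop : N = ⊤ := by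
    by_contra hne
    have hsame : ∀ g, Commute g t →
        inside D (centralizer ({g * k * g⁻¹} : Set G)) = inside D N := by
      intro g hg
      refine Set.Subset.antisymm (hXN g hg) ?_
      obtain ⟨n, hn⟩ := hv.kq
      exact hc.le_blk hne (hXN g hg (hW g hg hv.memT))
        ((sSup_le fun B hB => le_hull (hXN g hg hB) : hull D _ ≤ hull D N) (hkmem g))
        ⟨n, by rw [← hn]; simpa using (MulAut.conj g).orderOf_eq k⟩
        (le_centralizer_singleton.1 (hW g hg hv.memT).2)
    have h1 := hsame 1 (Commute.one_left t)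
    simp only [one_mul, inv_one, mul_one] at h1
    exact hdiff ((hsame g0 hg0).trans h1.symm)
  refine ⟨Φ, normalizer_eq_top_iff.1 hNtop, le_sup_left, fun φ hφ B hB => ?_⟩
  obtain ⟨w, hw, ψ, hψ, rfl⟩ := (CfsgLib.Solvable.mem_sup_of_le_normalizer hΨR).1 hφ
  rw [← conj_smul_conj_smul, CfsgLib.Solvable.conj_smul_eq_self_iff.2
    (centralizer_le_normalizer _ (hΨW B hB hψ))]
  exact h.smul_fixed hP (mem_centralizer_singleton_iff.1 (hull_le _ _ (hR.R_le hw))) hB

end MaxInv

end CfsgLib.PairGen
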