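import Cfsg.Agent.Lib.PairGen.Setup
import Cfsg.Agent.Lib.ExtClosed.Factor
import Cfsg.Agent.Lib.ExtClosed.Kernel
import Cfsg.Agent.S0205

/-!
# The lines of a pairwise generating class, and the final step of the Frobenius conclusion
-/

set_option autoImplicit false
set_option linter.unusedSectionVars false
set_option linter.style.haveILetI false

universe u v

namespace CfsgLib.PairGen

open Subgroup
open scoped Pointwise commutatorElement

theorem conj_smul_def {G : Type*} [Group G] (A : Subgroup G) (g : G) :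
    MulAut.conj g • A = A.map (MulAut.conj g).toMonoidHom := rfl

theorem conj_smul_mem {G : Type*} [Group G] {A K : Subgroup G} {g : G} (hA : A ≤ K) (hg : g ∈ K) :
    MulAut.conj g • A ≤ K := by
  rw [conj_smul_def]
  rintro _ ⟨a, ha, rfl⟩
  simpa using mul_mem (mul_mem hg (hA ha)) (inv_mem hg)

theorem eq_bot_or_le_of_card_prime {G : Type*} [Group G] [Finite G] {p : ℕ} (hp : p.Prime)
    {A : Subgroup G} (hA : Nat.card A = p) (H : Subgroup G) : A ⊓ H = ⊥ ∨ A ≤ H := by
  rcases (Nat.dvd_prime hp).1 (hA ▸ Subgroup.card_dvd_of_le (inf_le_left : A ⊓ H ≤ A)) with e | e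
  · exact Or.inl (Subgroup.card_eq_one.1 e)
  · exact Or.inr (inf_eq_left.1 (Subgroup.eq_of_le_of_card_ge inf_le_left (le_of_eq (by rw [e, hA]))))

/-- Two generators of order `p` with one normalised by the other commute. -/
theorem le_center_of_normal {L : Type*} [Group L] [Finite L] {p : ℕ} [Fact p.Prime]
    {A B : Subgroup L} (hA : Nat.card A = p) (hB : Nat.card B = p) [hn : A.Normal]
    (hsup : A ⊔ B = ⊤) : A ≤ center L := by
  have hAp : IsPGroup p A := IsPGroup.of_card (n := 1) (by rw [hA, pow_one])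
  have hBp : IsPGroup p B := IsPGroup.of_card (n := 1) (by rw [hB, pow_one])
  have hne : A ≠ ⊥ := by
    intro e
    rw [e, Subgroup.card_bot] at hA
    exact (Fact.out : p.Prime).ne_one hA.symm
  have h2 : IsPGroup p L := by
    have h3 := hAp.to_sup_of_normal_left hBp
    rw [hsup] at h3
    exact h3.of_equiv Subgroup.topEquiv
  obtain ⟨y, ⟨hyA, hyZ⟩, hy1⟩ :=
    CfsgLib.Solvable.exists_ne_one_mem_inf_center_of_normal h2 (N := A) hne
  rcases eq_bot_or_le_of_card_prime Fact.out hA (center L) with e | e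
  · exact absurd (Subgroup.mem_bot.1 (e ▸ (⟨hyA, hyZ⟩ : y ∈ A ⊓ center L))) hy1
  · exact e

/-- A group generated by any two distinct conjugates of a non-normal subgroup of prime order. -/
theorem line_core {L : Type*} [Group L] [Finite L] {p : ℕ} (hp : p.Prime)
    (hs : Group.IsSolvable L) {A : Subgroup L} (hA : Nat.card A = p) (hnn : ¬ A.Normal)
    (hmax : ∀ x : L, MulAut.conj x • A ≠ A → A ⊔ MulAut.conj x • A = ⊤) :
    ∃ r, r.Prime ∧ r ≠ p ∧ r ∣ Nat.card L ∧ IsPGroup r (commutator L) ∧ commutator L ≠ ⊥ ∧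
      commutator L ⊔ A = ⊤ ∧ A ⊓ commutator L = ⊥ ∧
      commutator L ⊓ centralizer (A : Set L) ≤ center L ∧ center L ≤ commutator L := by
  have hA1 : A ≠ ⊥ := by
    intro e
    rw [e, Subgroup.card_bot] at hA
    exact hp.ne_one hA.symm
  have : Nontrivial L := by
    obtain ⟨⟨a, _⟩, ha⟩ := Subgroup.ne_bot_iff_exists_ne_one.1 hA1
    exact ⟨⟨a, 1, fun e => ha (Subtype.ext e)⟩⟩
  haveI := hs
  have hlt : commutator L < ⊤ := Group.IsSolvable.commutator_lt_top_of_nontrivial L
  obtain ⟨x0, hx0⟩ : ∃ x : L, MulAut.conj x • A ≠ A := by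
    by_contra hc
    push Not at hc
    refine hnn ⟨fun a ha x => ?_⟩
    rw [← hc x, conj_smul_def]
    exact ⟨a, ha, rfl⟩
  have htop : commutator L ⊔ A = ⊤ := by
    by_contra hne
    have hN : (commutator L ⊔ A).Normal :=
      Subgroup.Normal.of_commutator_le (G := L) le_sup_left
    refine hne (top_le_iff.1 ((hmax x0 hx0) ▸ sup_le le_sup_right ?_))
    rw [conj_smul_def]
    rintro _ ⟨a, ha, rfl⟩
    exact hN.conj_mem a ((le_sup_right : A ≤ _) ha) x0
  have hAL : A ⊓ commutator L = ⊥ := by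
    rcases eq_bot_or_le_of_card_prime hp hA (commutator L) with e | e
    · exact e
    · rw [sup_of_le_left e] at htop
      exact absurd htop hlt.ne
  have hLne : commutator L ≠ ⊥ := by
    intro e
    apply hnn
    rw [e, bot_sup_eq] at htop
    exact htop ▸ inferInstance
  -- normal subgroups below the derived group that do not reach the whole group are central
  have hcen : ∀ U : Subgroup L, U.Normal → U ≤ commutator L → U ⊔ A ≠ ⊤ → U ≤ center L := by
    intro U hU hUL hUA
    haveI := hU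
    have hUc : U ≤ centralizer (A : Set L) := by
      intro u hu
      have h1 : MulAut.conj u • A = A := by
        by_contra hne
        exact hUA (top_le_iff.1 ((hmax u hne) ▸ sup_le le_sup_right
          (conj_smul_mem le_sup_right ((le_sup_left : U ≤ U ⊔ A) hu))))
      refine Subgroup.mem_centralizer_iff.2 fun a ha => ?_
      have h2 : u * a * u⁻¹ * a⁻¹ ∈ A ⊓ commutator L := by
        refine ⟨A.mul_mem ?_ (A.inv_mem ha), hUL ?_⟩
        · have h3 : u * a * u⁻¹ ∈ MulAut.conj u • A := by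
            rw [conj_smul_def]; exact ⟨a, ha, rfl⟩
          rwa [h1] at h3
        · have h3 : u * a * u⁻¹ * a⁻¹ = u * (a * u⁻¹ * a⁻¹) := by group
          rw [h3]
          exact mul_mem hu (hU.conj_mem _ (inv_mem hu) a)
      rw [hAL, Subgroup.mem_bot] at h2
      exact (mul_inv_eq_iff_eq_mul.1 (mul_inv_eq_one.1 h2)).symm
    have hAc : A ≤ centralizer (U : Set L) := Subgroup.le_centralizer_iff.1 hUc
    have hBc : MulAut.conj x0 • A ≤ centralizer (U : Set L) := by
      rw [conj_smul_def]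
      rintro _ ⟨a, ha, rfl⟩
      exact (inferInstance : (centralizer (U : Set L)).Normal).conj_mem a (hAc ha) x0
    exact centralizer_eq_top_iff_subset.1 (top_le_iff.1 ((hmax x0 hx0) ▸ sup_le hAc hBc))
  -- a chief factor at the top of the derived group
  have hLL : ⁅commutator L, commutator L⁆ < commutator L :=
    Group.IsSolvable.commutator_lt_of_ne_bot hLne
  obtain ⟨N0, hN0'⟩ := (Set.toFinite {N : Subgroup L | N.Normal ∧
    ⁅commutator L, commutator L⁆ ≤ N ∧ N < commutator L}).exists_maximal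
      ⟨_, inferInstance, le_rfl, hLL⟩
  obtain ⟨hN0n, hN0d, hN0l⟩ := hN0'.prop
  haveI := hN0n
  have hmaxN : ∀ U : Subgroup L, U.Normal → N0 ≤ U → U ≤ commutator L →
      U = N0 ∨ U = commutator L := by
    intro U hU h1 h2
    rcases h2.eq_or_lt with e | e
    · exact Or.inr e
    · exact Or.inl (le_antisymm (hN0'.le_of_ge ⟨hU, hN0d.trans h1, e⟩ h1) h1)
  have hN0A : N0 ⊔ A ≠ ⊤ := by
    intro e
    refine hN0l.not_ge fun x hx => ?_
    obtain ⟨n, hn, a, ha, rfl⟩ := Subgroup.mem_sup_of_normal_left.1 (e ▸ Subgroup.mem_top x)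
    have h1 : a ∈ A ⊓ commutator L :=
      ⟨ha, by simpa using mul_mem (inv_mem (hN0l.le hn)) hx⟩
    rw [hAL, Subgroup.mem_bot] at h1
    rw [h1, mul_one]
    exact hn
  have hN0z : N0 ≤ center L := hcen N0 hN0n hN0l.le hN0A
  -- the fixed points of `A` in the derived group
  have hK : commutator L ⊓ centralizer (A : Set L) ≤ N0 := by
    set K := commutator L ⊓ centralizer (A : Set L) with hKdef
    have hU : (N0 ⊔ K).Normal := by
      rw [← normalizer_eq_top_iff, eq_top_iff, ← htop]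
      refine sup_le ?_ ?_
      · refine Subgroup.le_normalizer_iff.2 fun l hl x hx => ?_
        have hxL : x ∈ commutator L := sup_le hN0l.le inf_le_left hx
        have h1 : l * x * l⁻¹ * x⁻¹ ∈ N0 := hN0d (commutator_mem_commutator hl hxL)
        simpa using mul_mem ((le_sup_left : N0 ≤ N0 ⊔ K) h1) hx
      · refine Subgroup.le_normalizer_iff.2 fun a ha x hx => ?_
        obtain ⟨n, hn, k, hk, rfl⟩ := Subgroup.mem_sup_of_normal_left.1 hx
        have hak : a * k = k * a := Subgroup.mem_centralizer_iff.1 hk.2 a ha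
        rw [show a * (n * k) * a⁻¹ = a * n * a⁻¹ * (a * k * a⁻¹) by group, hak, mul_inv_cancel_right]
        exact mul_mem_sup (hN0n.conj_mem n hn a) hk
    rcases hmaxN _ hU le_sup_left (sup_le hN0l.le inf_le_left) with e | e
    · exact sup_eq_left.1 e
    · exfalso
      have hc : commutator L ≤ centralizer (A : Set L) := e ▸ sup_le
        (hN0z.trans (center_le_centralizer _)) inf_le_right
      refine hnn (normalizer_eq_top_iff.1 (top_le_iff.1 (htop ▸ sup_le ?_ Subgroup.le_normalizer)))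
      exact hc.trans (centralizer_le_normalizer _)
  have hKz := hK.trans hN0z
  -- a prime dividing the chief factor
  have hidx : N0.relIndex (commutator L) ≠ 1 := fun e => hN0l.not_ge (relIndex_eq_one.1 e)
  obtain ⟨r, hr, hrd⟩ := Nat.exists_prime_and_dvd hidx
  haveI := Fact.mk hr
  haveI : (N0.subgroupOf (commutator L)).Normal := inferInstance
  let f := QuotientGroup.mk' (N0.subgroupOf (commutator L))
  have hcomm : ∀ x y : commutator L, Commute (f x) (f y) := fun x y => by
    refine commutatorElement_eq_one_iff_commute.1 ?_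
    rw [← map_commutatorElement, QuotientGroup.mk'_apply, QuotientGroup.eq_one_iff]
    exact Subgroup.mem_subgroupOf.2 (hN0d (commutator_mem_commutator x.2 y.2))
  have hexp : ∀ x ∈ commutator L, x ^ r ∈ N0 := by
    let M : Subgroup L :=
      { carrier := {x | x ∈ commutator L ∧ x ^ r ∈ N0}
        one_mem' := ⟨one_mem _, by simp⟩
        mul_mem' := by
          rintro x y ⟨hx, hx'⟩ ⟨hy, hy'⟩
          refine ⟨mul_mem hx hy, ?_⟩
          have h1 : f ((⟨x, hx⟩ * ⟨y, hy⟩ : commutator L) ^ r) = 1 := by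
            rw [map_pow, map_mul, (hcomm _ _).mul_pow, ← map_pow, ← map_pow,
              show f ((⟨x, hx⟩ : commutator L) ^ r) = 1 from (QuotientGroup.eq_one_iff _).2
                (Subgroup.mem_subgroupOf.2 (by simpa using hx')),
              show f ((⟨y, hy⟩ : commutator L) ^ r) = 1 from (QuotientGroup.eq_one_iff _).2
                (Subgroup.mem_subgroupOf.2 (by simpa using hy')), one_mul]
          simpa using Subgroup.mem_subgroupOf.1 ((QuotientGroup.eq_one_iff _).1 h1)
        inv_mem' := by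
          rintro x ⟨hx, hx'⟩
          exact ⟨inv_mem hx, by rw [inv_pow]; exact inv_mem hx'⟩ }
    have hMn : M.Normal := ⟨fun x hx g => ⟨(inferInstance : (commutator L).Normal).conj_mem x hx.1 g,
      by rw [conj_pow]; exact hN0n.conj_mem _ hx.2 g⟩⟩
    rcases hmaxN M hMn (fun x hx => ⟨hN0l.le hx, pow_mem hx r⟩) (fun x hx => hx.1) with e | e
    · obtain ⟨y, hy⟩ := exists_prime_orderOf_dvd_card' (G := commutator L ⧸ N0.subgroupOf _) r hrd
      obtain ⟨x, rfl⟩ := QuotientGroup.mk'_surjective _ y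
      have h1 : (x : L) ∈ M := ⟨x.2, by
        have h3 : f (x ^ r) = 1 := by rw [map_pow, ← hy]; exact pow_orderOf_eq_one _
        simpa using Subgroup.mem_subgroupOf.1 ((QuotientGroup.eq_one_iff _).1 h3)⟩
      rw [e] at h1
      have h2 : f x = 1 := (QuotientGroup.eq_one_iff _).2 h1
      rw [show QuotientGroup.mk' _ x = f x from rfl, h2, orderOf_one] at hy
      exact absurd hy.symm hr.ne_one
    · intro x hx
      exact (e.symm ▸ hx : x ∈ M).2
  have hrp : r ≠ p := by
    rintro rfl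
    have hp' : IsPGroup r (L ⧸ N0) := by
      intro y
      obtain ⟨x, rfl⟩ := QuotientGroup.mk_surjective y
      refine ⟨2, ?_⟩
      obtain ⟨c, hc, a, ha, rfl⟩ := Subgroup.mem_sup_of_normal_left.1 (htop ▸ Subgroup.mem_top x)
      have har : a ^ r = 1 := by
        have h1 : (⟨a, ha⟩ : A) ^ Nat.card A = 1 := pow_card_eq_one'
        rw [hA] at h1
        exact congrArg Subtype.val h1
      have h2 : (c * a) ^ r ∈ commutator L := by
        rw [← QuotientGroup.eq_one_iff]
        rw [QuotientGroup.mk_pow, QuotientGroup.mk_mul, (QuotientGroup.eq_one_iff c).2 hc, one_mul,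
          ← QuotientGroup.mk_pow, har, QuotientGroup.mk_one]
      rw [← QuotientGroup.mk_pow, QuotientGroup.eq_one_iff, sq, pow_mul]
      exact hexp _ h2
    haveI := hp'.isNilpotent
    -- the top of the derived group is not perfect in a nilpotent group
    let N1 := (center (L ⧸ N0)).comap (QuotientGroup.mk' N0) ⊓ commutator L
    have hN1 : N0 ≤ N1 := le_inf (fun x hx => by
      rw [Subgroup.mem_comap, QuotientGroup.mk'_apply, (QuotientGroup.eq_one_iff x).2 hx]
      exact one_mem _) hN0l.le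
    have hne : (commutator L).map (QuotientGroup.mk' N0) ≠ ⊥ := by
      intro e
      rw [Subgroup.map_eq_bot_iff, QuotientGroup.ker_mk'] at e
      exact hN0l.not_ge e
    haveI := (inferInstance : (commutator L).Normal).map (QuotientGroup.mk' N0)
      (QuotientGroup.mk'_surjective N0)
    obtain ⟨y, ⟨hyL, hyZ⟩, hy1⟩ := CfsgLib.Solvable.exists_ne_one_mem_inf_center_of_normal hp'
      (N := (commutator L).map (QuotientGroup.mk' N0)) hne
    obtain ⟨x, hx, rfl⟩ := hyL
    rcases hmaxN N1 inferInstance hN1 inf_le_right with e | e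
    · have h1 : x ∈ N1 := ⟨hyZ, hx⟩
      rw [e] at h1
      exact hy1 ((QuotientGroup.eq_one_iff x).2 h1)
    · -- the derived group is central modulo `N0`, so the quotient is commutative
      have h1 : commutator L ≤ N0 := by
        rw [_root_.commutator_def, Subgroup.commutator_le]
        intro g _ g' _
        rw [← QuotientGroup.eq_one_iff, ← QuotientGroup.mk'_apply, map_commutatorElement,
          commutatorElement_eq_one_iff_commute]
        have hz : ∀ c ∈ commutator L, QuotientGroup.mk' N0 c ∈ center (L ⧸ N0) := fun c hc =>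
          (e.symm ▸ hc : c ∈ N1).1
        obtain ⟨c, hc, a, ha, rfl⟩ := Subgroup.mem_sup_of_normal_left.1 (htop ▸ Subgroup.mem_top g)
        obtain ⟨c', hc', a', ha', rfl⟩ :=
          Subgroup.mem_sup_of_normal_left.1 (htop ▸ Subgroup.mem_top g')
        haveI : Fact (Nat.card A).Prime := ⟨hA ▸ hp⟩
        haveI : IsCyclic A := isCyclic_of_prime_card hA
        have haa : Commute a a' :=
          congrArg Subtype.val (IsCyclic.commutative (α := A) |>.is_comm.comm ⟨a, ha⟩ ⟨a', ha'⟩)
        rw [map_mul, map_mul]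
        have z1 : ∀ w, Commute (QuotientGroup.mk' N0 c) w := fun w =>
          ((Subgroup.mem_center_iff.1 (hz c hc)) w).symm
        have z2 : ∀ w, Commute (QuotientGroup.mk' N0 c') w := fun w =>
          ((Subgroup.mem_center_iff.1 (hz c' hc')) w).symm
        exact (z1 _).mul_left (((z2 _).symm).mul_right (haa.map _))
      exact hN0l.not_ge h1
  -- the derived group is an `r`-group
  have hrL : IsPGroup r (commutator L) := by
    obtain ⟨P⟩ : Nonempty (Sylow r (commutator L)) := inferInstance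
    have hPN : ∀ x : commutator L, ∃ s ∈ (P : Subgroup (commutator L)),
        ∃ n : commutator L, (n : L) ∈ N0 ∧ x = s * n := by
      have hq : IsPGroup r (commutator L ⧸ N0.subgroupOf (commutator L)) := fun y => by
        obtain ⟨x, rfl⟩ := QuotientGroup.mk'_surjective _ y
        refine ⟨1, ?_⟩
        rw [pow_one, ← map_pow, QuotientGroup.mk'_apply, QuotientGroup.eq_one_iff]
        exact Subgroup.mem_subgroupOf.2 (by simpa using hexp x x.2)
      intro x
      let P' : Sylow r (commutator L ⧸ N0.subgroupOf (commutator L)) :=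
        P.mapSurjective (QuotientGroup.mk'_surjective (N0.subgroupOf (commutator L)))
      have h1 : (P' : Subgroup (commutator L ⧸ N0.subgroupOf (commutator L))) = ⊤ :=
        (P'.is_maximal' (hq.to_subgroup ⊤) le_top).symm
      have h2 : f x ∈ (P' : Subgroup (commutator L ⧸ N0.subgroupOf (commutator L))) :=
        h1.symm ▸ Subgroup.mem_top _
      obtain ⟨s, hs, e⟩ := h2
      refine ⟨s, hs, s⁻¹ * x, ?_, by group⟩
      have h4 : f (s⁻¹ * x) = 1 := by rw [map_mul, map_inv, ← e]; exact inv_mul_cancel _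
      exact Subgroup.mem_subgroupOf.1 ((QuotientGroup.eq_one_iff _).1 h4)
    have hPn : (P : Subgroup (commutator L)).Normal := by
      refine ⟨fun t ht x => ?_⟩
      obtain ⟨s, hs, n, hn, rfl⟩ := hPN x
      have hnt : n * t = t * n := Subtype.ext (Subgroup.mem_center_iff.1 (hN0z hn) t).symm
      rw [show s * n * t * (s * n)⁻¹ = s * (n * t * n⁻¹) * s⁻¹ by group, hnt, mul_inv_cancel_right]
      exact mul_mem (mul_mem hs ht) (inv_mem hs)
    haveI := P.characteristic_of_normal hPn
    let Q := (P : Subgroup (commutator L)).map (commutator L).subtype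
    have hQn : Q.Normal := ConjAct.normal_of_characteristic_of_normal
    have hQtop : Q ⊔ (N0 ⊔ A) = ⊤ := by
      refine eq_top_iff.2 fun x _ => ?_
      obtain ⟨c, hc, a, ha, rfl⟩ := Subgroup.mem_sup_of_normal_left.1 (htop ▸ Subgroup.mem_top x)
      obtain ⟨s, hs, n, hn, e⟩ := hPN ⟨c, hc⟩
      rw [show c = (s : L) * n from congrArg Subtype.val e, mul_assoc]
      exact mul_mem_sup ⟨s, hs, rfl⟩ (mul_mem_sup hn ha)
    have hle : commutator L ≤ Q := by
      rw [_root_.commutator_def, Subgroup.commutator_le]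
      intro g _ g' _
      rw [← QuotientGroup.eq_one_iff, ← QuotientGroup.mk'_apply, map_commutatorElement,
        commutatorElement_eq_one_iff_commute]
      haveI : IsCyclic A := haveI := Fact.mk hp; isCyclic_of_prime_card hA
      have key : ∀ w : L, ∃ n ∈ N0, ∃ a ∈ A,
          QuotientGroup.mk' Q w = QuotientGroup.mk' Q (n * a) := by
        intro w
        obtain ⟨s, hs, y, hy, rfl⟩ := Subgroup.mem_sup_of_normal_left.1 (hQtop ▸ Subgroup.mem_top w)
        obtain ⟨n, hn, a, ha, rfl⟩ := Subgroup.mem_sup_of_normal_left.1 hy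
        refine ⟨n, hn, a, ha, ?_⟩
        rw [map_mul (QuotientGroup.mk' Q) s, QuotientGroup.mk'_apply,
          (QuotientGroup.eq_one_iff s).2 hs, one_mul]
        all_goals rfl
      obtain ⟨n, hn, a, ha, e⟩ := key g
      obtain ⟨n', hn', a', ha', e'⟩ := key g'
      rw [e, e']
      have haa : Commute a a' :=
        congrArg Subtype.val (IsCyclic.commutative (α := A) |>.is_comm.comm ⟨a, ha⟩ ⟨a', ha'⟩)
      have z1 : ∀ w, Commute n w := fun w => ((Subgroup.mem_center_iff.1 (hN0z hn)) w).symm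
      have z2 : ∀ w, Commute n' w := fun w => ((Subgroup.mem_center_iff.1 (hN0z hn')) w).symm
      exact Commute.map ((z1 _).mul_left (((z2 _).symm).mul_right haa)) _
    exact (P.isPGroup'.map _).to_le hle
  have hrd' : r ∣ Nat.card L :=
    (hrd.trans (Subgroup.relIndex_dvd_card ..)).trans (Subgroup.card_subgroup_dvd_card _)
  refine ⟨r, hr, hrp, hrd', hrL, hLne, htop, hAL, hKz, fun z hz => ?_⟩
  obtain ⟨c, hc, a, ha, rfl⟩ := Subgroup.mem_sup_of_normal_left.1 (htop ▸ Subgroup.mem_top z)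
  by_cases ha1 : a = 1
  · rw [ha1, mul_one]; exact hc
  exfalso
  haveI := Fact.mk hp
  haveI : IsCyclic A := isCyclic_of_prime_card hA
  have hcA : c ∈ centralizer (A : Set L) := Subgroup.mem_centralizer_iff.2 fun b hb => by
    have h1 : b * (c * a) = c * a * b := Subgroup.mem_center_iff.1 hz b
    have hab : b * a = a * b :=
      congrArg Subtype.val (IsCyclic.commutative (α := A) |>.is_comm.comm ⟨b, hb⟩ ⟨a, ha⟩)
    rw [mul_assoc c a b, ← hab, ← mul_assoc b, ← mul_assoc c] at h1
    exact mul_right_cancel h1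
  have haz : a ∈ center L := by simpa using mul_mem (inv_mem (hKz ⟨hc, hcA⟩)) hz
  rcases eq_bot_or_le_of_card_prime hp hA (center L) with e | e
  · exact ha1 (Subgroup.mem_bot.1 (e ▸ (⟨ha, haz⟩ : a ∈ A ⊓ center L)))
  · exact hnn ⟨fun b hb g => by
      rw [Subgroup.mem_center_iff.1 (e hb) g, mul_inv_cancel_right]; exact hb⟩

variable {G : Type u} [Group G] [Finite G] {F : Type v} [Group F] [Finite F]
variable {p : ℕ} {D : Set (Subgroup G)}

theorem commutative_of_generators (hDgen : sSup D = ⊤)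
    (hc : ∀ A ∈ D, ∀ B ∈ D, ∀ a ∈ A, ∀ b ∈ B, a * b = b * a) : IsMulCommutative G := by
  have h1 : (⊤ : Subgroup G) ≤ center G := by
    rw [← hDgen, sSup_le_iff]
    intro A hA a ha
    have h2 : (⊤ : Subgroup G) ≤ centralizer {a} := by
      rw [← hDgen, sSup_le_iff]
      intro B hB b hb
      exact Subgroup.mem_centralizer_singleton_iff.2 (hc A hA B hB a ha b hb).symm
    exact Subgroup.mem_center_iff.2 fun g =>
      Subgroup.mem_centralizer_singleton_iff.1 (h2 (Subgroup.mem_top g))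
  exact ⟨⟨fun a b => (Subgroup.mem_center_iff.1 (h1 (Subgroup.mem_top a)) b).symm⟩⟩

/-- The structure of the lines, and the Frobenius case. -/
theorem lines (hG : ¬ IsMulCommutative G) (hp : p.Prime) (hp2 : p ≠ 2)
    (hDp : ∀ A ∈ D, Nat.card A = p)
    (hDinv : ∀ A ∈ D, ∀ g : G, A.map (MulAut.conj g).toMonoidHom ∈ D) (hDgen : sSup D = ⊤)
    (hF : Odd (Nat.card F)) (hpair : ∀ A ∈ D, ∀ B ∈ D, A ≠ B → Nonempty (↥(A ⊔ B) ≃* F)) :
    ∃ q, q.Prime ∧ q ≠ 2 ∧ q ≠ p ∧ (Pair p q D ∨ ∀ A ∈ D, ∃ R : Subgroup G, R.Normal ∧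
      IsPGroup q R ∧ R ⊔ A = ⊤ ∧ R ⊓ centralizer (A : Set G) = ⊥) := by
  haveI := Fact.mk hp
  have hne : ∃ A ∈ D, ∃ B ∈ D, A ≠ B := by
    by_contra hc
    push Not at hc
    refine hG (commutative_of_generators hDgen fun A hA B hB a ha b hb => ?_)
    obtain rfl := hc A hA B hB
    haveI : IsCyclic A := isCyclic_of_prime_card (hDp A hA)
    exact congrArg Subtype.val (IsCyclic.commutative (α := A) |>.is_comm.comm ⟨a, ha⟩ ⟨b, hb⟩)
  have hFna : ¬ ∀ x y : F, x * y = y * x := by
    intro hc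
    refine hG (commutative_of_generators hDgen fun A hA B hB a ha b hb => ?_)
    by_cases hAB : A = B
    · subst hAB
      haveI : IsCyclic A := isCyclic_of_prime_card (hDp A hA)
      exact congrArg Subtype.val (IsCyclic.commutative (α := A) |>.is_comm.comm ⟨a, ha⟩ ⟨b, hb⟩)
    · obtain ⟨e⟩ := hpair A hA B hB hAB
      have h1 : (⟨a, (le_sup_left : A ≤ A ⊔ B) ha⟩ : ↥(A ⊔ B)) * ⟨b, (le_sup_right : B ≤ A ⊔ B) hb⟩ =
          ⟨b, (le_sup_right : B ≤ A ⊔ B) hb⟩ * ⟨a, (le_sup_left : A ≤ A ⊔ B) ha⟩ :=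
        e.injective (by rw [map_mul, map_mul, hc])
      exact congrArg Subtype.val h1
  have heq : ∀ A ∈ D, ∀ B ∈ D, ∀ C ∈ D, C ≤ A ⊔ B → C ≠ A → A ⊔ C = A ⊔ B := by
    intro A hA B hB C hC hle hne'
    have hAB : A ≠ B := by
      rintro rfl
      rw [sup_idem] at hle
      exact hne' (Subgroup.eq_of_le_of_card_ge hle (by rw [hDp A hA, hDp C hC]))
    refine Subgroup.eq_of_le_of_card_ge (sup_le le_sup_left hle) (le_of_eq ?_)
    obtain ⟨e⟩ := hpair A hA B hB hAB
    obtain ⟨e'⟩ := hpair A hA C hC (Ne.symm hne')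
    rw [Nat.card_congr e.toEquiv, Nat.card_congr e'.toEquiv]
  -- each line
  have key : ∀ A ∈ D, ∀ B ∈ D, A ≠ B → ∃ (r : ℕ) (Q : Subgroup G), r.Prime ∧ r ≠ p ∧
      r ∣ Nat.card F ∧ IsPGroup r Q ∧ Q ≠ ⊥ ∧ A ⊔ B ≤ normalizer (Q : Set G) ∧
      Q ⊔ A = A ⊔ B ∧ A ⊓ Q = ⊥ ∧
      Q ⊓ centralizer (A : Set G) ≤ centralizer ((A ⊔ B : Subgroup G) : Set G) ∧
      ∀ z : G, z ∈ A ⊔ B → z ∈ centralizer ((A ⊔ B : Subgroup G) : Set G) → z ∈ Q := by
    intro A hA B hB hAB
    set L := A ⊔ B with hL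
    obtain ⟨e⟩ := hpair A hA B hB hAB
    have hAL : A ≤ L := le_sup_left
    have hodd : Odd (Nat.card L) := by rwa [Nat.card_congr e.toEquiv]
    let A' := A.subgroupOf L
    have hA' : Nat.card A' = p := by
      rw [Nat.card_congr (subgroupOfEquivOfLe hAL).toEquiv, hDp A hA]
    have hnn : ¬ A'.Normal := by
      intro hn
      have hB' : Nat.card (B.subgroupOf L) = p := by
        rw [Nat.card_congr (subgroupOfEquivOfLe (le_sup_right : B ≤ L)).toEquiv, hDp B hB]
      have hsup : A' ⊔ B.subgroupOf L = ⊤ := by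
        rw [← Subgroup.subgroupOf_sup hAL le_sup_right, Subgroup.subgroupOf_self]
      have hcen := le_center_of_normal hA' hB' hsup
      apply hFna
      have h1 : ∀ x y : L, x * y = y * x := by
        intro x y
        have hx := hsup ▸ Subgroup.mem_top x
        have hy := hsup ▸ Subgroup.mem_top y
        obtain ⟨a, ha, b, hb, rfl⟩ := Subgroup.mem_sup_of_normal_left.1 hx
        obtain ⟨a', ha', b', hb', rfl⟩ := Subgroup.mem_sup_of_normal_left.1 hy
        haveI : IsCyclic (B.subgroupOf L) := isCyclic_of_prime_card hB'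
        have hbb : Commute b b' := congrArg Subtype.val
          (IsCyclic.commutative (α := B.subgroupOf L) |>.is_comm.comm ⟨b, hb⟩ ⟨b', hb'⟩)
        have z1 : ∀ w, Commute a w := fun w => ((Subgroup.mem_center_iff.1 (hcen ha)) w).symm
        have z2 : ∀ w, Commute a' w := fun w => ((Subgroup.mem_center_iff.1 (hcen ha')) w).symm
        exact ((z1 _).mul_left (((z2 _).symm).mul_right hbb)).eq
      intro x y
      have := congrArg e (h1 (e.symm x) (e.symm y))
      simpa using this
    have hmax : ∀ x : L, MulAut.conj x • A' ≠ A' → A' ⊔ MulAut.conj x • A' = ⊤ := by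
      intro x hx
      apply Subgroup.map_injective L.subtype_injective
      have e1 : (MulAut.conj x • A').map L.subtype = MulAut.conj (x : G) • A := by
        rw [conj_smul_def, conj_smul_def, Subgroup.map_map]
        have e2 : L.subtype.comp (MulAut.conj x).toMonoidHom =
            (MulAut.conj (x : G)).toMonoidHom.comp L.subtype := by ext; rfl
        rw [e2, ← Subgroup.map_map, map_subgroupOf_eq_of_le hAL]
      have hne' : MulAut.conj (x : G) • A ≠ A := by
        intro he
        apply hx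
        apply Subgroup.map_injective L.subtype_injective
        rw [e1, he, map_subgroupOf_eq_of_le hAL]
      rw [Subgroup.map_sup, e1, map_subgroupOf_eq_of_le hAL, ← MonoidHom.range_eq_map,
        Subgroup.range_subtype]
      exact heq A hA B hB _ (hDinv A hA x) (conj_smul_mem hAL x.2) hne'
    obtain ⟨r, hr, hrp, hrd, hrL, hne', htop, hint, hfix, hcen⟩ :=
      line_core hp (Cfsg.Agent.S0205.result hodd) hA' hnn hmax
    refine ⟨r, (commutator L).map L.subtype, hr, hrp, Nat.card_congr e.toEquiv ▸ hrd, hrL.map _,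
      ?_, ?_, ?_, ?_, ?_, ?_⟩
    · exact fun h => hne' ((Subgroup.map_eq_bot_iff_of_injective _ L.subtype_injective).1 h)
    · refine Subgroup.le_normalizer_iff.2 fun x hx y hy => ?_
      obtain ⟨y, hy, rfl⟩ := hy
      exact ⟨_, (inferInstance : (commutator L).Normal).conj_mem y hy ⟨x, hx⟩, rfl⟩
    · conv_lhs => rw [← map_subgroupOf_eq_of_le hAL]
      rw [← Subgroup.map_sup, htop, ← MonoidHom.range_eq_map, Subgroup.range_subtype]
    · rw [← map_subgroupOf_eq_of_le hAL, ← Subgroup.map_inf _ _ _ L.subtype_injective, hint,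
        Subgroup.map_bot]
    · rintro _ ⟨⟨y, hy, rfl⟩, hyA⟩
      refine Subgroup.mem_centralizer_iff.2 fun x hx => ?_
      have hyc : y ∈ center L := hfix ⟨hy, Subgroup.mem_centralizer_iff.2 fun a ha =>
        Subtype.ext (Subgroup.mem_centralizer_iff.1 hyA a ha)⟩
      exact congrArg Subtype.val (Subgroup.mem_center_iff.1 hyc ⟨x, hx⟩)
    · intro z hzL hz
      exact ⟨⟨z, hzL⟩, hcen (Subgroup.mem_center_iff.2 fun w =>
        Subtype.ext (Subgroup.mem_centralizer_iff.1 hz w w.2)), rfl⟩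
  obtain ⟨A₀, hA₀, B₀, hB₀, hAB₀⟩ := hne
  obtain ⟨q, Q₀, hq, hqp, hqd, hQ₀, -, hn₀, hs₀, hi₀, -, -⟩ := key A₀ hA₀ B₀ hB₀ hAB₀
  haveI := Fact.mk hq
  have hq2 : q ≠ 2 := by
    rintro rfl
    exact (Nat.not_even_iff_odd.2 hF) ((even_iff_two_dvd).2 hqd)
  -- the order of a line
  have hcard : ∀ {A Q L : Subgroup G}, A ≤ normalizer (Q : Set G) → Q ⊔ A = L →
      Nat.card L ∣ Nat.card Q * Nat.card A := by
    intro A Q L hn hs
    subst hs
    exact CfsgLib.Solvable.card_sup_dvd hn
  have hF' : ∀ s : ℕ, s.Prime → s ∣ Nat.card F → s = q ∨ s = p := by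
    intro s hs hsd
    obtain ⟨e⟩ := hpair A₀ hA₀ B₀ hB₀ hAB₀
    rw [← Nat.card_congr e.toEquiv] at hsd
    rcases (Nat.Prime.dvd_mul hs).1 (hsd.trans
      (hcard ((le_sup_left : A₀ ≤ A₀ ⊔ B₀).trans hn₀) hs₀)) with h | h
    · obtain ⟨k, hk⟩ := IsPGroup.iff_card.1 hQ₀
      exact Or.inl ((Nat.prime_dvd_prime_iff_eq hs hq).1 (hs.dvd_of_dvd_pow (hk ▸ h)))
    · rw [hDp A₀ hA₀] at h
      exact Or.inr ((Nat.prime_dvd_prime_iff_eq hs hp).1 h)
  have key' : ∀ A ∈ D, ∀ B ∈ D, A ≠ B → ∃ Q : Subgroup G, IsPGroup q Q ∧ Q ≠ ⊥ ∧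
      A ⊔ B ≤ normalizer (Q : Set G) ∧ Q ⊔ A = A ⊔ B ∧ A ⊓ Q = ⊥ ∧
      Q ⊓ centralizer (A : Set G) ≤ centralizer ((A ⊔ B : Subgroup G) : Set G) ∧
      ∀ z : G, z ∈ A ⊔ B → z ∈ centralizer ((A ⊔ B : Subgroup G) : Set G) → z ∈ Q := by
    intro A hA B hB hAB
    obtain ⟨r, Q, hr, hrp, hrd, h⟩ := key A hA B hB hAB
    obtain rfl := (hF' r hr hrd).resolve_right hrp
    exact ⟨Q, h⟩
  refine ⟨q, hq, hq2, hqp, ?_⟩
  by_cases hZ : center F = ⊥
  swap
  · refine Or.inl ⟨hp, hq, hp2, hq2, Ne.symm hqp, hDp, fun A hA g => hDinv A hA g,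
      fun A hA B hB hAB => ?_, heq⟩
    obtain ⟨Q, hQ, -, hn, hs, -, -, hc⟩ := key' A hA B hB hAB
    obtain ⟨e⟩ := hpair A hA B hB hAB
    obtain ⟨⟨z, hz⟩, hz1⟩ := Subgroup.ne_bot_iff_exists_ne_one.1 hZ
    have hz' : ((e.symm z : ↥(A ⊔ B)) : G) ∈ centralizer ((A ⊔ B : Subgroup G) : Set G) := by
      refine Subgroup.mem_centralizer_iff.2 fun w hw => ?_
      have h1 : (⟨w, hw⟩ : ↥(A ⊔ B)) * e.symm z = e.symm z * ⟨w, hw⟩ :=
        e.injective (by simp [Subgroup.mem_center_iff.1 hz (e ⟨w, hw⟩)])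
      exact congrArg Subtype.val h1
    refine ⟨Q, hQ, (le_sup_left : A ≤ A ⊔ B).trans hn, hs, _, hc _ (e.symm z).2 hz', ?_, hz'⟩
    intro h1
    apply hz1
    exact Subtype.ext (e.symm.injective (Subtype.ext (h1.trans (by simp))))
  refine Or.inr fun A hA => ?_
  have hAp : IsPGroup p A := IsPGroup.of_card (n := 1) (by rw [hDp A hA, pow_one])
  -- fixed-point-free lines
  have hfix : ∀ B ∈ D, A ≠ B → ∀ x ∈ A ⊔ B, x ∈ normalizer (A : Set G) → x ∈ A := by
    intro B hB hAB x hx hxN
    obtain ⟨Q, -, -, hn, hs, hi, hc, -⟩ := key' A hA B hB hAB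
    rw [← hs] at hx
    obtain ⟨c, hc', a, ha, rfl⟩ :=
      (CfsgLib.Solvable.mem_sup_of_le_normalizer ((le_sup_left : A ≤ A ⊔ B).trans hn)).1 hx
    have hcN : c ∈ normalizer (A : Set G) := by
      simpa using mul_mem hxN (inv_mem (Subgroup.le_normalizer ha))
    have hcA : c ∈ centralizer (A : Set G) := by
      refine Subgroup.mem_centralizer_iff.2 fun b hb => ?_
      have h1 : c * b * c⁻¹ * b⁻¹ ∈ A ⊓ Q := by
        refine ⟨A.mul_mem ((Subgroup.mem_normalizer_iff.1 hcN b).1 hb) (A.inv_mem hb), ?_⟩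
        have h2 : c * b * c⁻¹ * b⁻¹ = c * (b * c⁻¹ * b⁻¹) := by group
        rw [h2]
        exact mul_mem hc' ((Subgroup.mem_normalizer_iff.1 (hn ((le_sup_left : A ≤ A ⊔ B) hb)) _).1
          (inv_mem hc'))
      rw [hi, Subgroup.mem_bot] at h1
      exact (mul_inv_eq_iff_eq_mul.1 (mul_inv_eq_one.1 h1)).symm
    obtain ⟨e⟩ := hpair A hA B hB hAB
    have hcz := hc ⟨hc', hcA⟩
    have hcL : c ∈ A ⊔ B := hs ▸ (le_sup_left : Q ≤ Q ⊔ A) hc'
    have h1 : e ⟨c, hcL⟩ ∈ center F := Subgroup.mem_center_iff.2 fun w => by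
      obtain ⟨w, rfl⟩ := e.surjective w
      rw [← map_mul, ← map_mul]
      exact congrArg e (Subtype.ext (Subgroup.mem_centralizer_iff.1 hcz w w.2))
    rw [hZ, Subgroup.mem_bot, map_eq_one_iff e e.injective] at h1
    rw [show c = 1 from congrArg Subtype.val h1, one_mul]
    exact ha
  have hE : CfsgLib.ExtClosed.EC p A := by
    refine ⟨hAp, ?_, fun g => le_antisymm ?_ (le_inf le_sup_left Subgroup.le_normalizer)⟩
    · haveI : IsCyclic A := isCyclic_of_prime_card (hDp A hA)
      exact IsCyclic.commutative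
    · intro x hx
      by_cases hg : A = A.map (MulAut.conj g).toMonoidHom
      · have h := hx.1
        rwa [← hg, sup_idem] at h
      · exact hfix _ (hDinv A hA g) hg x hx.1 hx.2
  -- every member is conjugate to `A`
  have hconj : ∀ B ∈ D, ∃ x : G, B = MulAut.conj x • A := by
    intro B hB
    by_cases hAB : A = B
    · exact ⟨1, by simp [hAB]⟩
    obtain ⟨Q, hQ, -, hn, hs, -, -, -⟩ := key' A hA B hB hAB
    set L := A ⊔ B
    have hLd : Nat.card L ∣ Nat.card Q * p := by
      rw [← hDp A hA]; exact hcard ((le_sup_left : A ≤ L).trans hn) hs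
    have hsyl : ∀ C : Subgroup G, C ≤ L → Nat.card C = p →
        ¬ p ∣ (C.subgroupOf L).index := by
      intro C hC hCp hd
      have h1 := Subgroup.index_mul_card (C.subgroupOf L)
      rw [Nat.card_congr (subgroupOfEquivOfLe hC).toEquiv, hCp] at h1
      obtain ⟨k, hk⟩ := IsPGroup.iff_card.1 hQ
      have h2 : (C.subgroupOf L).index ∣ Nat.card Q :=
        Nat.dvd_of_mul_dvd_mul_right hp.pos (h1 ▸ hLd)
      exact hqp ((Nat.prime_dvd_prime_iff_eq hp hq).1 (hp.dvd_of_dvd_pow (hk ▸ hd.trans h2))).symm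
    have hBp : IsPGroup p B := IsPGroup.of_card (n := 1) (by rw [hDp B hB, pow_one])
    let PA : Sylow p L := IsPGroup.toSylow (hAp.comap_subtype (K := L))
      (hsyl A le_sup_left (hDp A hA))
    let PB : Sylow p L := IsPGroup.toSylow (hBp.comap_subtype (K := L))
      (hsyl B le_sup_right (hDp B hB))
    obtain ⟨x, hx⟩ := MulAction.exists_smul_eq L PA PB
    refine ⟨x, ?_⟩
    have h3 := congrArg (fun P : Sylow p L => (P : Subgroup L).map L.subtype) hx
    rw [← map_subgroupOf_eq_of_le (le_sup_right : B ≤ L)]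
    refine Eq.trans h3.symm ?_
    show ((MulAut.conj x) • (A.subgroupOf L)).map L.subtype = _
    rw [conj_smul_def, conj_smul_def, Subgroup.map_map]
    have e2 : L.subtype.comp (MulAut.conj x).toMonoidHom =
        (MulAut.conj (x : G)).toMonoidHom.comp L.subtype := by ext; rfl
    rw [e2, ← Subgroup.map_map, map_subgroupOf_eq_of_le (le_sup_left : A ≤ L)]
  -- the whole group is the core by `A`
  have hO := CfsgLib.ExtClosed.sup_core_eq_top hE hp2
  set O := Cfsg.pPrimeCore p G with hOdef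
  haveI hOn : O.Normal := CfsgLib.Solvable.pPrimeCore_normal p G
  have hOc : (Nat.card O).Coprime p := CfsgLib.Solvable.pPrimeCore_card_coprime p G
  have hAO : A ≤ normalizer (O : Set G) := le_top.trans (normalizer_eq_top O).ge
  have hcop : (Nat.card A).Coprime (Nat.card O) := by rw [hDp A hA]; exact hOc.symm
  have hAsol : Group.IsSolvable A := hE.isSolvable
  have hall : ∀ {X : Subgroup G}, A ≤ X → X.Normal → X = ⊤ := by
    intro X hAX hX
    refine top_le_iff.1 (hDgen ▸ sSup_le fun B hB => ?_)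
    obtain ⟨x, rfl⟩ := hconj B hB
    rw [conj_smul_def]
    rintro _ ⟨a, ha, rfl⟩
    exact hX.conj_mem a (hAX ha) x
  have hOA : O ⊔ A = ⊤ := by
    refine hall le_sup_right (normalizer_eq_top_iff.1 (top_le_iff.1 (hO ▸ sup_le ?_ ?_)))
    · refine Subgroup.le_normalizer_iff.2 fun n hn x hx => ?_
      obtain ⟨o, ho, a, ha, rfl⟩ := Subgroup.mem_sup_of_normal_left.1 hx
      rw [show n * (o * a) * n⁻¹ = n * o * n⁻¹ * (n * a * n⁻¹) by group]
      exact mul_mem_sup (hOn.conj_mem o ho n) ((Subgroup.mem_normalizer_iff.1 hn a).1 ha)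
    · exact le_sup_left.trans Subgroup.le_normalizer
  let C := (centralizer (A : Set G)).subgroupOf O
  have hCs : ∀ s : ℕ, s.Prime → s ≠ q → ¬ s ∣ C.index := by
    intro s hs hsq
    haveI := Fact.mk hs
    obtain ⟨P, hP⟩ := CfsgLib.Solvable.exists_invariant_sylow hAO hcop (Or.inl hAsol) s
    set S := (P : Subgroup O).map O.subtype
    have hSle : (P : Subgroup O) ≤ C := by
      intro y hy
      have hyS : (y : G) ∈ S := ⟨y, hy, rfl⟩
      have hyN : MulAut.conj (y : G) • A = A := by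
        by_contra hne
        obtain ⟨Q, hQ, hQ1, -, hQs, -, -, -⟩ := key' A hA _ (hDinv A hA y) (Ne.symm hne)
        have h1 : Q ≤ S ⊔ A := by
          refine le_trans (le_trans le_sup_left hQs.le) (sup_le le_sup_right ?_)
          exact conj_smul_mem le_sup_right ((le_sup_left : S ≤ S ⊔ A) hyS)
        obtain ⟨k, hk⟩ := IsPGroup.iff_card.1 hQ
        obtain ⟨j, hj⟩ := IsPGroup.iff_card.1 (P.isPGroup'.map O.subtype : IsPGroup s S)
        have hk0 : k ≠ 0 := fun h => hQ1 (Subgroup.card_eq_one.1 (by rw [hk, h, pow_zero]))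
        have h2 : q ∣ Nat.card S * Nat.card A :=
          (hk ▸ dvd_pow_self q hk0 : q ∣ Nat.card Q).trans
            ((Subgroup.card_dvd_of_le h1).trans (CfsgLib.Solvable.card_sup_dvd hP))
        rcases hq.dvd_mul.1 h2 with h | h
        · exact hsq ((Nat.prime_dvd_prime_iff_eq hq hs).1 (hq.dvd_of_dvd_pow (hj ▸ h))).symm
        · rw [hDp A hA] at h
          exact hqp ((Nat.prime_dvd_prime_iff_eq hq hp).1 h)
      refine Subgroup.mem_subgroupOf.2 (Subgroup.mem_centralizer_iff.2 fun a ha => ?_)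
      have h1 : (y : G) * a * (y : G)⁻¹ * a⁻¹ ∈ A ⊓ O := by
        refine ⟨A.mul_mem ?_ (A.inv_mem ha), ?_⟩
        · have h3 : (y : G) * a * (y : G)⁻¹ ∈ MulAut.conj (y : G) • A := by
            rw [conj_smul_def]; exact ⟨a, ha, rfl⟩
          rwa [hyN] at h3
        · rw [show (y : G) * a * (y : G)⁻¹ * a⁻¹ = y * (a * (y : G)⁻¹ * a⁻¹) by group]
          exact mul_mem y.2 (hOn.conj_mem _ (inv_mem y.2) a)
      rw [(Subgroup.inf_eq_bot_of_coprime hcop), Subgroup.mem_bot] at h1
      exact (mul_inv_eq_iff_eq_mul.1 (mul_inv_eq_one.1 h1)).symm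
    exact fun h => P.not_dvd_index (h.trans (Subgroup.index_dvd_of_le hSle))
  obtain ⟨P, hP⟩ := CfsgLib.Solvable.exists_invariant_sylow hAO hcop (Or.inl hAsol) q
  have hprod : ∀ o : O, ∃ r ∈ (P : Subgroup O), r⁻¹ * o ∈ C := by
    have hcopI : C.index.Coprime (P : Subgroup O).index := Nat.coprime_of_dvd fun s hs h1 h2 => by
      by_cases hsq : s = q
      · exact P.not_dvd_index (hsq ▸ h2)
      · exact hCs s hs hsq h1
    have h2 : C.index ∣ C.relIndex P := by
      refine hcopI.dvd_of_dvd_mul_right ?_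
      rw [← Subgroup.inf_relIndex_right, Subgroup.relIndex_mul_index inf_le_right]
      exact Subgroup.index_dvd_of_le inf_le_left
    let g : (P : Subgroup O) ⧸ C.subgroupOf P → O ⧸ C :=
      Quotient.map' Subtype.val fun a b hab => by
        rw [QuotientGroup.leftRel_apply] at hab ⊢
        exact Subgroup.mem_subgroupOf.1 hab
    have hginj : Function.Injective g := by
      intro a b
      induction a using QuotientGroup.induction_on
      induction b using QuotientGroup.induction_on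
      intro h
      exact QuotientGroup.eq.2 (Subgroup.mem_subgroupOf.2 (QuotientGroup.eq.1 h))
    have hgsurj : Function.Surjective g := by
      refine ((Nat.bijective_iff_injective_and_card g).2 ⟨hginj, le_antisymm
        (Nat.card_le_card_of_injective g hginj) (Nat.le_of_dvd ?_ h2)⟩).2
      exact Nat.pos_of_ne_zero Subgroup.index_ne_zero_of_finite
    intro o
    obtain ⟨r, hr⟩ := hgsurj (QuotientGroup.mk o)
    induction r using QuotientGroup.induction_on with
    | _ r => exact ⟨r, r.2, QuotientGroup.eq.1 hr⟩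
  set R := ⁅O, A⁆ with hR
  have hRP : R ≤ (P : Subgroup O).map O.subtype := by
    rw [hR, Subgroup.commutator_le]
    intro o ho a ha
    obtain ⟨r, hr, hc⟩ := hprod ⟨o, ho⟩
    have hca : a * ((r : G)⁻¹ * o) = (r : G)⁻¹ * o * a :=
      Subgroup.mem_centralizer_iff.1 (Subgroup.mem_subgroupOf.1 hc) a ha
    have hrS : (r : G) ∈ (P : Subgroup O).map O.subtype := ⟨r, hr, rfl⟩
    have e1 : ⁅o, a⁆ = (r : G) * (a * (r : G)⁻¹ * a⁻¹) := by
      have e2 : (r : G)⁻¹ * o * a * ((r : G)⁻¹ * o)⁻¹ = a := by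
        rw [← hca, mul_inv_cancel_right]
      calc ⁅o, a⁆ = (r : G) * ((r : G)⁻¹ * o * a * ((r : G)⁻¹ * o)⁻¹) * (r : G)⁻¹ * a⁻¹ := by
            rw [commutatorElement_def]; group
        _ = _ := by rw [e2]; group
    rw [e1]
    exact mul_mem hrS ((Subgroup.mem_normalizer_iff.1 (hP ha) _).1 (inv_mem hrS))
  have hRn : R.Normal := normalizer_eq_top_iff.1 (top_le_iff.1 (hOA ▸ sup_le
    (CfsgLib.Solvable.le_normalizer_commutator_left O A)
    (CfsgLib.Solvable.le_normalizer_commutator_right O A)))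
  have hRA : R ⊔ A = ⊤ := by
    refine hall le_sup_right (normalizer_eq_top_iff.1 (top_le_iff.1 (hOA ▸ sup_le ?_ ?_)))
    · refine Subgroup.le_normalizer_iff.2 fun o ho x hx => ?_
      obtain ⟨r, hr, a, ha, rfl⟩ := Subgroup.mem_sup_of_normal_left.1 hx
      rw [show o * (r * a) * o⁻¹ = o * r * o⁻¹ * ⁅o, a⁆ * a by rw [commutatorElement_def]; group]
      exact mul_mem_sup (mul_mem (hRn.conj_mem r hr o) (commutator_mem_commutator ho ha)) ha
    · exact le_sup_right.trans Subgroup.le_normalizer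
  refine ⟨R, hRn, (P.isPGroup'.map _).to_le hRP, hRA, ?_⟩
  exact CfsgLib.ExtClosed.fixStatement hp2 (Nat.card G) G A R le_rfl hE hRn
    (hOc.coprime_dvd_left (Subgroup.card_dvd_of_le (CfsgLib.Solvable.commutator_le_of_normalizes hAO)))
    hRA (CfsgLib.Solvable.commutator_commutator_eq hAO hcop (Or.inl hAsol))

/-- The final step. -/
theorem conclusion (hG : ¬ IsMulCommutative G) (hp : p.Prime) (hp2 : p ≠ 2)
    {A : Subgroup G} (hA : Nat.card A = p) {q : ℕ} (hq : q.Prime) (hq2 : q ≠ 2) (hqp : q ≠ p)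
    (R : Subgroup G) [R.Normal] (hR : IsPGroup q R) (hRA : R ⊔ A = ⊤)
    (hc : R ⊓ centralizer (A : Set G) ≤ center G) :
    Odd (Nat.card (G ⧸ Subgroup.center G)) ∧
      ∃ H : Subgroup (G ⧸ Subgroup.center G), Cfsg.IsFrobeniusComplement H := by
  haveI := Fact.mk hp
  haveI := Fact.mk hq
  obtain ⟨k, hk⟩ := IsPGroup.iff_card.1 hR
  have hAR : A ⊓ R = ⊥ := Subgroup.inf_eq_bot_of_coprime (by
    rw [hA, hk]
    exact ((Nat.coprime_primes hp hq).2 (Ne.symm hqp)).pow_right k)
  haveI : IsCyclic A := isCyclic_of_prime_card hA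
  have hAab : ∀ a ∈ A, ∀ b ∈ A, a * b = b * a := fun a ha b hb =>
    congrArg Subtype.val (IsCyclic.commutative (α := A) |>.is_comm.comm ⟨a, ha⟩ ⟨b, hb⟩)
  have hdec : ∀ g : G, ∃ r ∈ R, ∃ a ∈ A, g = r * a := fun g => by
    obtain ⟨r, hr, a, ha, e⟩ := Subgroup.mem_sup_of_normal_left.1 (hRA ▸ Subgroup.mem_top g)
    exact ⟨r, hr, a, ha, e.symm⟩
  have hnc : ¬ A ≤ center G := by
    intro h
    apply hG
    have hcen : ∀ g : G, g ∈ center G := fun g => by
      obtain ⟨r, hr, a, ha, rfl⟩ := hdec g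
      refine mul_mem (hc ⟨hr, Subgroup.mem_centralizer_iff.2 fun b hb => ?_⟩) (h ha)
      exact (Subgroup.mem_center_iff.1 (h hb) r).symm
    exact ⟨⟨fun a b => (Subgroup.mem_center_iff.1 (hcen a) b).symm⟩⟩
  have hAZ : A ⊓ center G = ⊥ := (eq_bot_or_le_of_card_prime hp hA _).resolve_right hnc
  have hZR : center G ≤ R := by
    intro z hz
    obtain ⟨r, hr, a, ha, rfl⟩ := hdec z
    have hrA : r ∈ centralizer (A : Set G) := Subgroup.mem_centralizer_iff.2 fun b hb => by
      have h1 : b * (r * a) = r * a * b := Subgroup.mem_center_iff.1 hz b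
      rw [mul_assoc r a b, ← hAab b hb a ha, ← mul_assoc b, ← mul_assoc r] at h1
      exact mul_right_cancel h1
    have haz : a ∈ center G := by simpa using mul_mem (inv_mem (hc ⟨hr, hrA⟩)) hz
    have h1 : a ∈ A ⊓ center G := ⟨ha, haz⟩
    rw [hAZ, Subgroup.mem_bot] at h1
    rw [h1, mul_one]; exact hr
  have hoddG : Odd (Nat.card G) := by
    refine Odd.of_dvd_nat (?_ : Odd (Nat.card R * Nat.card A)) ?_
    · rw [hk, hA]
      exact ((hq.odd_of_ne_two hq2).pow).mul (hp.odd_of_ne_two hp2)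
    · rw [← Subgroup.card_top (G := G), ← hRA]
      exact CfsgLib.Solvable.card_sup_dvd (le_top.trans (normalizer_eq_top R).ge)
  refine ⟨hoddG.of_dvd_nat (Subgroup.card_quotient_dvd_card _),
    A.map (QuotientGroup.mk' (center G)), ?_, ?_, ?_⟩
  · rw [ne_eq, Subgroup.map_eq_bot_iff, QuotientGroup.ker_mk']
    exact hnc
  · intro e
    apply hG
    have h1 : ∀ g : G, ∃ z ∈ center G, ∃ a ∈ A, g = z * a := fun g => by
      have h2 : QuotientGroup.mk' (center G) g ∈ A.map (QuotientGroup.mk' (center G)) :=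
        e ▸ Subgroup.mem_top _
      obtain ⟨a, ha, h3⟩ := h2
      refine ⟨g * a⁻¹, ?_, a, ha, by group⟩
      rw [← QuotientGroup.eq_one_iff, ← QuotientGroup.mk'_apply, map_mul, map_inv, h3,
        mul_inv_cancel]
    refine ⟨⟨fun g g' => ?_⟩⟩
    obtain ⟨z, hz, a, ha, rfl⟩ := h1 g
    obtain ⟨z', hz', a', ha', rfl⟩ := h1 g'
    have z1 : ∀ w, Commute z w := fun w => ((Subgroup.mem_center_iff.1 hz) w).symm
    have z2 : ∀ w, Commute z' w := fun w => ((Subgroup.mem_center_iff.1 hz') w).symm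
    exact ((z1 _).mul_left (((z2 _).symm).mul_right (hAab a ha a' ha'))).eq
  · intro g hg
    have hH : Nat.card (A.map (QuotientGroup.mk' (center G))) = p := by
      rcases (Nat.dvd_prime hp).1 (hA ▸ Subgroup.card_map_dvd A (QuotientGroup.mk' (center G))) with
        e | e
      · exact absurd ((Subgroup.map_eq_bot_iff _).1 (Subgroup.card_eq_one.1 e))
          (by rw [QuotientGroup.ker_mk']; exact hnc)
      · exact e
    rcases eq_bot_or_le_of_card_prime hp hH
      (MulAut.conj g • A.map (QuotientGroup.mk' (center G))) with e | e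
    · exact e
    exfalso
    apply hg
    obtain ⟨g, rfl⟩ := QuotientGroup.mk'_surjective _ g
    obtain ⟨r, hr, a₀, ha₀, rfl⟩ := hdec g
    suffices hrz : r ∈ center G by
      rw [map_mul, QuotientGroup.mk'_apply _ r, (QuotientGroup.eq_one_iff r).2 hrz, one_mul]
      exact ⟨a₀, ha₀, rfl⟩
    refine hc ⟨hr, Subgroup.mem_centralizer_iff.2 fun a ha => ?_⟩
    obtain ⟨h, hh, e'⟩ := e ⟨a, ha, rfl⟩
    obtain ⟨b, hb, rfl⟩ := hh
    rw [MulDistribMulAction.toMonoidEnd_apply, MulDistribMulAction.toMonoidHom_apply,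
      MulAut.smul_def, MulAut.conj_apply, ← map_inv, ← map_mul, ← map_mul] at e'
    have h1 : (r * a₀ * b * (r * a₀)⁻¹)⁻¹ * a ∈ center G := QuotientGroup.eq.1 e'
    have hab : a₀ * b * a₀⁻¹ = b := by rw [hAab a₀ ha₀ b hb, mul_inv_cancel_right]
    have e3 : r * a₀ * b * (r * a₀)⁻¹ = r * b * r⁻¹ := by
      rw [show r * a₀ * b * (r * a₀)⁻¹ = r * (a₀ * b * a₀⁻¹) * r⁻¹ by group, hab]
    rw [e3] at h1
    have hzc : (r * b * r⁻¹)⁻¹ * a ∈ R := hZR h1
    have hbr : b * r⁻¹ * b⁻¹ ∈ R := (inferInstance : R.Normal).conj_mem _ (inv_mem hr) b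
    have h4 : b⁻¹ * a ∈ A ⊓ R := ⟨A.mul_mem (A.inv_mem hb) ha, by
      have h5 : r * b * r⁻¹ * b⁻¹ ∈ R := by
        rw [show r * b * r⁻¹ * b⁻¹ = r * (b * r⁻¹ * b⁻¹) by group]
        exact mul_mem hr hbr
      have h6 : b⁻¹ * a = b⁻¹ * (r * b * r⁻¹ * b⁻¹) * b * ((r * b * r⁻¹)⁻¹ * a) := by group
      rw [h6]
      refine mul_mem ?_ hzc
      simpa using (inferInstance : R.Normal).conj_mem _ h5 b⁻¹⟩
    rw [hAR, Subgroup.mem_bot, inv_mul_eq_one] at h4
    subst h4
    have h7 : ⁅r, b⁆ ∈ center G := by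
      have h8 := inv_mem h1
      rw [_root_.mul_inv_rev, inv_inv] at h8
      have h9 : ⁅r, b⁆ = b * (b⁻¹ * (r * b * r⁻¹)) * b⁻¹ := by rw [commutatorElement_def]; group
      rw [h9]
      exact (inferInstance : (center G).Normal).conj_mem _ h8 b
    -- a central commutator with an element of order p has order dividing p
    have hbp : b ^ p = 1 := by
      have h1 : (⟨b, hb⟩ : A) ^ Nat.card A = 1 := pow_card_eq_one'
      rw [hA] at h1
      exact congrArg Subtype.val h1
    have hpow : r * b ^ p * r⁻¹ = ⁅r, b⁆ ^ p * b ^ p := by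
      rw [← (show Commute ⁅r, b⁆ b from (Subgroup.mem_center_iff.1 h7 b).symm).mul_pow, ← conj_pow,
        commutatorElement_def, inv_mul_cancel_right]
    rw [hbp, mul_one, mul_one, mul_inv_cancel] at hpow
    have hord : orderOf ⁅r, b⁆ = 1 := by
      obtain ⟨j, hj⟩ := (IsPGroup.iff_orderOf.1 hR) ⟨⁅r, b⁆, hZR h7⟩
      rw [Subgroup.orderOf_mk] at hj
      have hd : orderOf ⁅r, b⁆ ∣ p := orderOf_dvd_of_pow_eq_one hpow.symm
      rw [hj] at hd ⊢
      exact Nat.eq_one_of_dvd_coprimes (((Nat.coprime_primes hq hp).2 hqp).pow_left j) dvd_rfl hd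
    rw [orderOf_eq_one_iff, commutatorElement_eq_one_iff_mul_comm] at hord
    exact hord.symm

end CfsgLib.PairGen
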