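import Cfsg.Agent.Lib.PairGen.Setup

/-!
# The solvable case for classes of subgroups of prime order generating lines
-/

set_option autoImplicit false
set_option linter.style.haveILetI false

universe u

namespace CfsgLib.PairGen

open Subgroup
open scoped Pointwise

variable {G : Type u} [Group G] {p q : ℕ} {D : Set (Subgroup G)}

theorem pow_mul_mem_of_le_normalizer {R A : Subgroup G}
    (hAR : A ≤ normalizer (R : Set G)) {u a : G} (hu : u ∈ R) (ha : a ∈ A) (n : ℕ) :
    (u * a) ^ n * (a ^ n)⁻¹ ∈ R := by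
  induction n with
  | zero => simp
  | succ n ih =>
    have h1 : a ^ n * u * (a ^ n)⁻¹ ∈ R :=
      ((mem_normalizer_iff.mp (hAR (pow_mem ha n))) u).mp hu
    have h2 := mul_mem ih h1
    have e : (u * a) ^ (n + 1) * (a ^ (n + 1))⁻¹
        = (u * a) ^ n * (a ^ n)⁻¹ * (a ^ n * u * (a ^ n)⁻¹) := by
      rw [pow_succ, pow_succ]; group
    rw [e]; exact h2

/-- A `q`-element of `R A` is trivial, for an `r`-group `R` and `A` of prime order `p`. -/
theorem eq_one_of_mem_sup {r : ℕ} (hr : r.Prime) (hp : p.Prime) (hq : q.Prime) (hrq : r ≠ q)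
    (hpq : p ≠ q) {R A : Subgroup G} (hR : IsPGroup r R) (hA : Nat.card A = p)
    (hAR : A ≤ normalizer (R : Set G)) {k : G} (hk : k ∈ R ⊔ A) {j : ℕ} (hkq : k ^ q ^ j = 1) :
    k = 1 := by
  rw [← SetLike.mem_coe, coe_mul_of_right_le_normalizer_left R A hAR] at hk
  obtain ⟨u, hu, a, ha, rfl⟩ := Set.mem_mul.mp hk
  have hap : a ^ p = 1 := by
    have := pow_card_eq_one' (G := A) (x := ⟨a, ha⟩)
    rw [hA] at this
    simpa using congrArg Subtype.val this
  have h1 : (u * a) ^ p ∈ R := by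
    simpa [hap] using pow_mul_mem_of_le_normalizer hAR hu ha p
  obtain ⟨i, hi⟩ := hR ⟨_, h1⟩
  have hi' : ((u * a) ^ p) ^ r ^ i = 1 := by simpa using congrArg Subtype.val hi
  have h2 : orderOf ((u * a) ^ p) ∣ Nat.gcd (r ^ i) (q ^ j) := by
    refine Nat.dvd_gcd (orderOf_dvd_of_pow_eq_one hi') (orderOf_dvd_of_pow_eq_one ?_)
    rw [← pow_mul, mul_comm, pow_mul, hkq, one_pow]
  rw [((Nat.coprime_primes hr hq).mpr hrq).pow i j, Nat.dvd_one, orderOf_eq_one_iff] at h2
  have h3 : orderOf (u * a) ∣ Nat.gcd (p ^ 1) (q ^ j) :=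
    Nat.dvd_gcd (orderOf_dvd_of_pow_eq_one (by rw [pow_one]; exact h2))
      (orderOf_dvd_of_pow_eq_one hkq)
  rw [((Nat.coprime_primes hp hq).mpr hpq).pow 1 j, Nat.dvd_one, orderOf_eq_one_iff] at h3
  exact h3

variable [Finite G]

theorem exists_mem_mul_of_coprime_index {K : Type*} [Group K] [Finite K] {H P : Subgroup K}
    (hc : H.index.Coprime P.index) (o : K) : ∃ x ∈ P, x⁻¹ * o ∈ H := by
  let f : ↥P ⧸ H.subgroupOf P → K ⧸ H := fun c =>
    Quotient.liftOn' c (fun x : P => ((x : K) : K ⧸ H)) fun a b h => by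
      rw [QuotientGroup.eq]
      simpa [QuotientGroup.leftRel_apply, mem_subgroupOf] using h
  have hf : Function.Injective f := by
    intro a b
    induction a using Quotient.inductionOn' with | _ a => ?_
    induction b using Quotient.inductionOn' with | _ b => ?_
    intro h
    refine Quotient.sound' ?_
    rw [QuotientGroup.leftRel_apply, mem_subgroupOf]
    simpa using QuotientGroup.eq.mp h
  have hdvd : H.index ∣ H.relIndex P := by
    have h2 : H.relIndex P * P.index = (H ⊓ P).index := by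
      rw [← inf_relIndex_right H P]
      exact relIndex_mul_index inf_le_right
    have h1 : H.index ∣ (H ⊓ P).index := index_dvd_of_le inf_le_left
    rw [← h2] at h1
    exact hc.dvd_of_dvd_mul_right h1
  have hpos : H.relIndex P ≠ 0 := index_ne_zero_of_finite
  have hb : Function.Bijective f :=
    ((Nat.bijective_iff_injective_and_card f).mpr ⟨hf, le_antisymm
      (Nat.card_le_card_of_injective f hf)
      (Nat.le_of_dvd (Nat.pos_of_ne_zero hpos) hdvd)⟩)
  obtain ⟨c, hc'⟩ := hb.2 (o : K ⧸ H)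
  induction c using Quotient.inductionOn' with | _ x => ?_
  exact ⟨x, x.2, QuotientGroup.eq.mp hc'⟩

theorem exists_conj_eq_of_sup {O A : Subgroup G} [O.Normal] (hp : p.Prime)
    (hO : ¬ p ∣ Nat.card O) (hOA : O ⊔ A = ⊤) (hA : Nat.card A = p) {B : Subgroup G}
    (hB : Nat.card B = p) : ∃ g : G, MulAut.conj g • A = B := by
  haveI : Fact p.Prime := ⟨hp⟩
  have hdvd : Nat.card G ∣ Nat.card O * p := by
    have h1 : Nat.card G = Nat.card O * O.index := (card_mul_index O).symm
    have h2 : O.index ∣ p := by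
      have e : O.index = O.relIndex (A ⊔ O) := by
        rw [sup_comm, hOA]; exact (Subgroup.relIndex_top_right (H := O)).symm
      rw [e, Subgroup.relIndex_sup_right, ← hA]
      exact Subgroup.relIndex_dvd_card O A
    rw [h1]; exact Nat.mul_dvd_mul_left _ h2
  have hsyl : ∀ B : Subgroup G, Nat.card B = p → ∃ P : Sylow p G, (P : Subgroup G) = B := by
    intro B hB
    obtain ⟨P, hP⟩ := (IsPGroup.of_card (p := p) (n := 1) (by rw [hB, pow_one])).exists_le_sylow
    refine ⟨P, (eq_of_le_of_card_ge hP ?_).symm⟩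
    obtain ⟨n, hn⟩ := P.2.exists_card_eq
    have h3 : p ^ n ∣ Nat.card O * p := hn ▸ (card_subgroup_dvd_card _).trans hdvd
    have h4 : p ^ n ∣ p :=
      (((Nat.Prime.coprime_iff_not_dvd hp).mpr hO).pow_left n).dvd_of_dvd_mul_left h3
    rw [hB]
    exact le_of_eq_of_le hn (Nat.le_of_dvd hp.pos h4)
  obtain ⟨P, hP⟩ := hsyl A hA
  obtain ⟨P', hP'⟩ := hsyl B hB
  obtain ⟨g, hg⟩ := MulAction.exists_smul_eq G P P'
  exact ⟨g, by rw [← hP, ← hP', ← hg]; rfl⟩

/-- A complement to a `p'`-group makes the group split. -/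
theorem split_of_coprime (hP : Pair p q D) (hgen : sSup D = ⊤) {A : Subgroup G} (hA : A ∈ D)
    {O : Subgroup G} [O.Normal] (hO : ¬ p ∣ Nat.card O) (hOA : O ⊔ A = ⊤) : Split q A := by
  haveI : Fact q.Prime := ⟨hP.prime_q⟩
  have hcard := hP.card_mem A hA
  have hAO : A ≤ normalizer (O : Set G) := le_normalizer_of_normal
  have hcop : (Nat.card A).Coprime (Nat.card O) := by
    rw [hcard]; exact (Nat.Prime.coprime_iff_not_dvd hP.prime_p).mpr hO
  have hsolv : Group.IsSolvable A ∨ Group.IsSolvable O := by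
    refine Or.inl ?_
    haveI : Fact p.Prime := ⟨hP.prime_p⟩
    haveI : IsCyclic A := isCyclic_of_prime_card hcard
    exact Group.isSolvable_of_comm fun a b => (IsCyclic.isMulCommutative (α := A)).is_comm.comm a b
  have hdisj : Disjoint A O := disjoint_of_coprime_natCard hcop
  set C := O ⊓ centralizer (A : Set G) with hC
  have hkey : ∀ r : ℕ, r.Prime → r ≠ q → ¬ r ∣ C.relIndex O := by
    intro r hr hrq
    haveI : Fact r.Prime := ⟨hr⟩
    obtain ⟨P, hPn⟩ := CfsgLib.Solvable.exists_invariant_sylow hAO hcop hsolv r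
    set R := (P : Subgroup O).map O.subtype with hR
    have hRO : R ≤ O := map_subtype_le _
    have hRr : IsPGroup r R := P.2.map _
    have hRC : R ≤ C := by
      refine le_inf hRO fun x hx => ?_
      refine CfsgLib.Solvable.inf_normalizer_le_centralizer hAO hdisj ⟨hRO hx, ?_⟩
      have hxA : MulAut.conj x • A = A := by
        by_contra hne
        obtain ⟨Q, hQ, -, hQA, k, hkQ, hk1, -⟩ :=
          hP.line A hA _ (hP.conj_mem A hA x) (Ne.symm hne)
        obtain ⟨j, hj⟩ := hQ ⟨k, hkQ⟩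
        refine hk1 (eq_one_of_mem_sup hr hP.prime_p hP.prime_q hrq hP.p_ne_q hRr hcard hPn ?_
          (j := j) (by simpa using congrArg Subtype.val hj))
        have hle : A ⊔ MulAut.conj x • A ≤ R ⊔ A := by
          refine sup_le le_sup_right ?_
          exact conj_smul_le_of_le (le_sup_right : A ≤ R ⊔ A) ⟨x, mem_sup_left hx⟩
        exact hle (hQA ▸ mem_sup_left hkQ)
      show x ∈ normalizer (A : Set G)
      rw [mem_normalizer_iff]
      intro a
      have h := smul_mem_pointwise_smul_iff (a := MulAut.conj x) (S := A) (x := a)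
      rw [hxA] at h
      simpa [MulAut.smul_def, MulAut.conj_apply] using h.symm
    intro hdvd
    refine P.not_dvd_index (hdvd.trans ?_)
    have h := relIndex_dvd_of_le_left (L := O) hRC
    have e : R.subgroupOf O = (P : Subgroup O) := by
      rw [hR]; exact comap_map_eq_self_of_injective O.subtype_injective _
    show C.relIndex O ∣ (P : Subgroup O).index
    rw [← e]; exact h
  obtain ⟨P, hPn⟩ := CfsgLib.Solvable.exists_invariant_sylow hAO hcop hsolv q
  set R := (P : Subgroup O).map O.subtype with hR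
  have hcp : (C.subgroupOf O).index.Coprime (P : Subgroup O).index := by
    refine Nat.coprime_of_dvd fun r hr h1 h2 => ?_
    by_cases hrq : r = q
    · subst hrq; exact P.not_dvd_index h2
    · exact hkey r hr hrq h1
  have hconj : ∀ g : G, MulAut.conj g • A ≤ R ⊔ A := by
    intro g
    have hg : g ∈ ((O ⊔ A : Subgroup G) : Set G) := by rw [hOA]; trivial
    rw [normal_mul O A] at hg
    obtain ⟨o, ho, a, ha, rfl⟩ := Set.mem_mul.mp hg
    obtain ⟨r, hr, hrc⟩ := exists_mem_mul_of_coprime_index hcp ⟨o, ho⟩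
    rw [mem_subgroupOf] at hrc
    obtain ⟨-, hc⟩ := mem_inf.mp hrc
    intro y hy
    obtain ⟨b, hb, rfl⟩ := hy
    have hb' : a * b * a⁻¹ ∈ A := mul_mem (mul_mem ha hb) (inv_mem ha)
    have hrR : (r : G) ∈ R ⊔ A := mem_sup_left ⟨r, hr, rfl⟩
    have hcomm := mem_centralizer_iff.mp hc _ hb'
    simp only [MulDistribMulAction.toMonoidEnd_apply, MulDistribMulAction.toMonoidHom_apply,
      MulAut.smul_def, MulAut.conj_apply]
    have e : o * a * b * (o * a)⁻¹ = (r : G) * (a * b * a⁻¹) * (r : G)⁻¹ := by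
      simp only [coe_mul, coe_inv] at hcomm
      calc o * a * b * (o * a)⁻¹
          = (r : G) * (((r : G)⁻¹ * o) * (a * b * a⁻¹)) * ((r : G)⁻¹ * o)⁻¹ * (r : G)⁻¹ := by
            group
        _ = (r : G) * ((a * b * a⁻¹) * ((r : G)⁻¹ * o)) * ((r : G)⁻¹ * o)⁻¹ * (r : G)⁻¹ := by
            rw [hcomm]
        _ = (r : G) * (a * b * a⁻¹) * (r : G)⁻¹ := by group
    rw [e]
    exact mul_mem (mul_mem hrR (mem_sup_right hb')) (inv_mem hrR)
  have htop : R ⊔ A = ⊤ := by
    rw [eq_top_iff, ← hgen, sSup_le_iff]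
    intro B hB
    obtain ⟨g, rfl⟩ := exists_conj_eq_of_sup hP.prime_p hO hOA hcard (hP.card_mem B hB)
    exact hconj g
  refine ⟨R, normalizer_eq_top_iff.mp ?_, P.2.map _, htop⟩
  rw [eq_top_iff, ← htop]
  exact sup_le le_normalizer hPn

/-- A solvable group generated by such a class splits. -/
theorem split_of_solvable (hP : Pair p q D) (hgen : sSup D = ⊤) {A : Subgroup G} (hA : A ∈ D)
    (hs : Group.IsSolvable G) : Split q A := by
  haveI : Fact p.Prime := ⟨hP.prime_p⟩
  haveI : Fact q.Prime := ⟨hP.prime_q⟩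
  set O := Cfsg.pPrimeCore p G with hO
  haveI : O.Normal := CfsgLib.Solvable.pPrimeCore_normal p G
  set π := QuotientGroup.mk' O with hπ
  have hsurj : Function.Surjective π := QuotientGroup.mk'_surjective O
  haveI : Group.IsSolvable (G ⧸ O) := Group.isSolvable_of_surjective hsurj
  set P0 := Cfsg.pCore p (G ⧸ O) with hP0
  haveI : P0.Normal := CfsgLib.Solvable.pCore_normal p (G ⧸ O)
  have hcent : centralizer (P0 : Set (G ⧸ O)) ≤ P0 := by
    have hF : Cfsg.fittingSubgroup (G ⧸ O) ≤ P0 := by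
      rw [CfsgLib.Solvable.fittingSubgroup_eq_iSup_pCore]
      refine iSup_le fun r => ?_
      by_cases hr : (r : ℕ) = p
      · rw [hP0, hr]
      · haveI : Fact (r : ℕ).Prime := ⟨(Nat.mem_primeFactors.1 r.2).1⟩
        refine le_trans (le_trans ?_ (le_of_eq
          (CfsgLib.Solvable.pPrimeCore_quotient_eq_bot (p := p) O hO))) bot_le
        obtain ⟨n, hn⟩ := CfsgLib.Solvable.card_pCore (p := (r : ℕ)) (G := G ⧸ O)
        refine CfsgLib.Solvable.le_pPrimeCore (CfsgLib.Solvable.pCore_normal _ _) ?_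
        rw [hn]
        exact ((Nat.coprime_primes (Fact.out : (r : ℕ).Prime) hP.prime_p).mpr hr).pow_left n
    have hF' : Cfsg.fittingSubgroup (G ⧸ O) = P0 :=
      le_antisymm hF CfsgLib.Solvable.pCore_le_fittingSubgroup
    have h := CfsgLib.Solvable.centralizer_fittingSubgroup_le (G := G ⧸ O)
    rwa [hF'] at h
  have himg : ∀ B ∈ D, ∀ C ∈ D, C.map π ≤ P0 ⊔ B.map π →
      C.map π ≤ B.map π := by
    intro B hB C hC hle
    by_cases hBC : B = C
    · rw [hBC]
    obtain ⟨Q, hQ, -, hQB, -⟩ := hP.line B hB C hC hBC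
    have hPg : IsPGroup p (P0 ⊔ B.map π : Subgroup (G ⧸ O)) :=
      (CfsgLib.Solvable.pCore_isPGroup p _).to_sup_of_normal_left
        ((IsPGroup.of_card (p := p) (n := 1) (by rw [hP.card_mem B hB, pow_one])).map π)
    have hQ0 : Q.map π = ⊥ := by
      have hQle : Q.map π ≤ P0 ⊔ B.map π := by
        refine le_trans (map_mono (le_sup_left.trans hQB.le)) ?_
        rw [Subgroup.map_sup]
        exact sup_le le_sup_right hle
      exact (IsPGroup.disjoint_of_ne q p (Ne.symm hP.p_ne_q) _ _ (hQ.map π)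
        (hPg.to_le hQle)).eq_bot_of_self
    calc C.map π ≤ (B ⊔ C).map π := map_mono le_sup_right
      _ = (Q ⊔ B).map π := by rw [hQB]
      _ = B.map π := by rw [Subgroup.map_sup, hQ0, bot_sup_eq]
  have hin : ∀ B ∈ D, B.map π ≤ P0 := by
    intro B hB y hy
    by_contra hyP
    refine hyP (hcent (mem_centralizer_iff.mpr fun z hz => ?_))
    obtain ⟨g, rfl⟩ := hsurj z
    obtain ⟨b, hb, rfl⟩ := hy
    have hgC : π g * π b * (π g)⁻¹ ∈ B.map π := by
      refine himg B hB _ (hP.conj_mem B hB g) ?_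
        ⟨g * b * g⁻¹, ⟨b, hb, rfl⟩, by simp⟩
      rintro w ⟨c, ⟨d, hd, rfl⟩, rfl⟩
      have hzm : π g ∈ P0 ⊔ B.map π := mem_sup_left hz
      have : π g * π d * (π g)⁻¹ ∈ P0 ⊔ B.map π :=
        mul_mem (mul_mem hzm (mem_sup_right ⟨d, hd, rfl⟩)) (inv_mem hzm)
      simpa using this
    have h1 : π g * π b * (π g)⁻¹ * (π b)⁻¹ ∈ P0 := by
      rw [mul_assoc (π g), mul_assoc (π g)]
      exact mul_mem hz ((inferInstance : P0.Normal).conj_mem _ (inv_mem hz) (π b))
    have h2 : π g * π b * (π g)⁻¹ * (π b)⁻¹ ∈ B.map π := mul_mem hgC (inv_mem ⟨b, hb, rfl⟩)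
    by_contra hne
    refine hyP ?_
    have hne1 : π g * π b * (π g)⁻¹ * (π b)⁻¹ ≠ 1 := fun h => hne (by
      rw [mul_inv_eq_one, mul_inv_eq_iff_eq_mul] at h; exact h)
    have hcb : Nat.card (B.map π) = p := by
      have hd : Nat.card (B.map π) ∣ p := hP.card_mem B hB ▸ card_map_dvd B π
      refine (hP.prime_p.eq_one_or_self_of_dvd _ hd).resolve_left fun h => ?_
      rw [eq_bot_of_card_eq _ h, mem_bot] at h2
      exact hne1 h2
    have hall : P0 ⊓ B.map π = B.map π := by
      refine eq_of_le_of_card_ge inf_le_right ?_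
      have hd : Nat.card (P0 ⊓ B.map π : Subgroup (G ⧸ O)) ∣ p :=
        hcb ▸ card_dvd_of_le inf_le_right
      rw [hcb, (hP.prime_p.eq_one_or_self_of_dvd _ hd).resolve_left fun h => hne1 (by
        have := eq_bot_of_card_eq _ h
        exact (eq_bot_iff_forall _).mp this _ ⟨h1, h2⟩)]
    exact inf_eq_right.mp hall ⟨b, hb, rfl⟩
  have hOA : O ⊔ A = ⊤ := by
    rw [eq_top_iff, ← hgen, sSup_le_iff]
    intro B hB
    have hle : B.map π ≤ A.map π :=
      himg A hA B hB ((hin B hB).trans le_sup_left)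
    have h : B ≤ (A.map π).comap π := map_le_iff_le_comap.mp hle
    rw [comap_map_eq, hπ, QuotientGroup.ker_mk', sup_comm] at h
    exact h
  exact split_of_coprime hP hgen hA
    (fun h => hP.prime_p.ne_one (Nat.dvd_one.mp
      ((CfsgLib.Solvable.pPrimeCore_card_coprime p G) ▸ Nat.dvd_gcd h dvd_rfl))) hOA

end CfsgLib.PairGen
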