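import Cfsg.Agent.Lib.PairGen.Light
import Cfsg.Agent.Lib.PairGen.Exists
import Cfsg.Agent.Lib.PairGen.Induction
import Cfsg.Agent.Lib.PairGen.SolvableCase
import Cfsg.Agent.Lib.PairGen.BlockIdentity
import Cfsg.Agent.S0205

/-!
# A group generated by such a class is a `q`-group by a member
-/

set_option autoImplicit false
set_option linter.unusedSectionVars false
set_option linter.style.haveILetI false

universe u

namespace CfsgLib.PairGen

open Subgroup
open scoped Pointwise commutatorElement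

variable {G : Type u} [Group G] [Finite G] {p q : ℕ} {D : Set (Subgroup G)}

/-- All members lie in a normal subgroup containing one of them. -/
theorem Pair.eq_top_of_normal (hP : Pair p q D) (hgen : sSup D = ⊤) {A : Subgroup G} (hA : A ∈ D)
    {N : Subgroup G} (hN : N.Normal) (hAN : A ≤ N) : N = ⊤ := by
  rw [eq_top_iff, ← hgen]
  refine sSup_le fun B hB => ?_
  by_cases hAB : A = B
  · exact hAB ▸ hAN
  obtain ⟨l, -, rfl⟩ := hP.line_conjugate hA hB hAB
  intro x hx
  rw [mem_conj_smul_iff] at hx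
  have h := hN.conj_mem _ (hAN hx) l
  simpa [mul_assoc] using h

namespace MaxInv

variable {t : G}

/-- With a central fixed centre and a violator the involution is isolated. -/
theorem isolated (h : MaxInv p q D t) {T C : Subgroup G} {k : G}
    (hv : Violator q D t T C k) {R : Subgroup G}
    (hR : Flat q D (hull D (centralizer ({t} : Set G))) T R)
    (hcen : ∀ z ∈ R ⊓ centralizer (T : Set G), z ∈ center G) :
    Cfsg.IsIsolatedInvolution t := by
  have hP := h.ctx.pair
  obtain ⟨Φ, hΦn, hRΦ, hΦ⟩ := h.exists_normal_stable hv hR hcen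
  have horb : ∀ B ∈ fixedSet D t, ∃ w ∈ R, B = MulAut.conj w • T := fun B hB =>
    hR.exists_conj hP B (inside_hull (by rw [← fixedSet_eq]; exact hB))
  have hcons : ∀ g : G, (∃ B ∈ fixedSet D t, MulAut.conj g⁻¹ • B ∈ fixedSet D t) →
      ∀ B ∈ fixedSet D t, MulAut.conj g • B ∈ fixedSet D t := by
    rintro g ⟨B1, hB1, hB2⟩ B hB
    obtain ⟨w2, hw2, e2⟩ := horb _ hB2
    obtain ⟨w, hw, rfl⟩ := horb B hB
    have h1 := hΦ _ (hΦn.conj_mem _ (hRΦ (mul_mem hw (inv_mem hw2))) g) B1 hB1
    have e : MulAut.conj (g * (w * w2⁻¹) * g⁻¹) • B1 =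
        MulAut.conj g • (MulAut.conj w • T) := by
      rw [← conj_smul_conj_smul, e2, conj_smul_conj_smul, conj_smul_conj_smul]
      congr 2
      group
    rwa [e] at h1
  refine ⟨h.ord, fun g hg => ?_⟩
  by_contra hne
  set s := g * t * g⁻¹ with hs'
  have hs : orderOf s = 2 := by
    have e := (MulAut.conj g).orderOf_eq t
    simpa [hs', h.ord] using e
  have hgT : MulAut.conj g • T ∈ fixedSet D s := ⟨hP.conj_mem T hv.memT.1 g,
    le_centralizer_singleton.1 (smul_le_centralizer (le_centralizer_singleton.2 hv.memT.2))⟩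
  obtain ⟨T2, hT2, hsT2⟩ : ∃ B ∈ fixedSet D t, B ∈ fixedSet D s := by
    by_cases hmv : MulAut.conj s • T = T
    · exact ⟨T, hv.memT, hP.centralizes_of_normalized hs _ hgT T hv.memT.1 hmv⟩
    obtain ⟨T2, hT2, hle, hn⟩ := hP.exists_normalized hs T hv.memT.1 hmv
    refine ⟨T2, ⟨hT2, le_centralizer_singleton.1 (hle.trans ?_)⟩,
      hP.centralizes_of_normalized hs _ hgT T2 hT2 hn⟩
    exact sup_le (le_centralizer_singleton.2 hv.memT.2)
      (le_centralizer_singleton.2 (h.smul_fixed hP hg.symm hv.memT).2)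
  have hback : ∀ B ∈ fixedSet D t, MulAut.conj g⁻¹ • B ∈ fixedSet D t := by
    have h1 : MulAut.conj g⁻¹ • T2 ∈ fixedSet D t := by
      refine ⟨hP.conj_mem T2 hT2.1 _, le_centralizer_singleton.1 ?_⟩
      have := smul_le_centralizer (g := g⁻¹) (le_centralizer_singleton.2 hsT2.2)
      rwa [show g⁻¹ * s * g⁻¹⁻¹ = t by rw [hs']; group] at this
    refine hcons g⁻¹ ⟨_, h1, ?_⟩
    rwa [conj_smul_conj_smul, inv_inv, mul_inv_cancel, map_one, one_smul]
  have hWs : fixedSet D t ⊆ fixedSet D s := fun B hB => by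
    refine ⟨hB.1, le_centralizer_singleton.1 ?_⟩
    have := smul_le_centralizer (g := g) (le_centralizer_singleton.2 (hback B hB).2)
    rwa [conj_smul_conj_smul, mul_inv_cancel, map_one, one_smul] at this
  have hst : s * t = t * s := hg.symm.eq
  have hss : s * s = 1 := by rw [← pow_two, ← hs, pow_orderOf_eq_one]
  obtain ⟨r, hr'⟩ : ∃ r, r = s * t := ⟨_, rfl⟩
  have hr : orderOf r = 2 := by
    refine orderOf_eq_prime ?_ fun e => hne ?_
    · rw [pow_two, hr']
      calc s * t * (s * t) = s * (t * s) * t := by group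
        _ = (s * s) * (t * t) := by rw [← hst]; group
        _ = 1 := by rw [hss, h.sq, one_mul]
    · rw [hr'] at e
      have := inv_eq_of_mul_eq_one_right e
      rw [inv_eq_of_mul_eq_one_right hss] at this
      exact this
  have hWr : fixedSet D t ⊆ fixedSet D r := fun B hB =>
    ⟨hB.1, hr' ▸ mul_mem (hWs hB).2 hB.2⟩
  have hsW : fixedSet D s = fixedSet D t :=
    (Set.eq_of_subset_of_ncard_le hWs (h.max s hs) (Set.toFinite _)).symm
  have hrW : fixedSet D r = fixedSet D t :=
    (Set.eq_of_subset_of_ncard_le hWr (h.max r hr) (Set.toFinite _)).symm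
  -- the flat of the line
  have hWk := h.fixed_subset hv hR hcen
  have hC' : C ∈ inside D (centralizer ({k} : Set G)) :=
    ⟨hv.memC, le_sup_right.trans (h.line_le hv)⟩
  obtain ⟨R', hR'⟩ := h.ctx.proper _ (Ctx.centralizer_ne_top (h.noncentral hv)) T (hWk hv.memT)
  set Z := R' ⊓ centralizer (T : Set G) with hZ
  have hCl : Cls R' Z := hR'.cls hP
  have hRR := h.flat_le hR hR' hWk
  have hsX := h.stab hs hWs hWk
  have htX := h.stab h.ord le_rfl hWk
  have hsR := hR'.mem_normalizer_R hP hsX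
  have htR := hR'.mem_normalizer_R hP htX
  have htZ := hR'.mem_normalizer_zc hP htX
  have hRt : ∀ w ∈ R, t * w * t⁻¹ = w := fun w hw => by
    have := mem_centralizer_singleton_iff.1 (hull_le _ _ (hR.R_le hw))
    rw [← this]; group
  have htt : ∀ y, t * (t * y * t⁻¹) * t⁻¹ = y := fun y => by
    rw [h.inv, show t * (t * y * t) * t = (t * t) * y * (t * t) by group, h.sq, one_mul, mul_one]
  obtain ⟨x, hx, hCx⟩ := hR'.exists_conj hP C (inside_hull hC')
  set v := (t * x * t⁻¹)⁻¹ * x with hv'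
  have hvR : v ∈ R' := mul_mem (inv_mem (conj_mem_of_mem_normalizer htR hx)) hx
  have htv : t * v * t⁻¹ = v⁻¹ := by
    calc t * v * t⁻¹ = (t * (t * x * t⁻¹) * t⁻¹)⁻¹ * (t * x * t⁻¹) := by simp [hv', mul_assoc]
      _ = x⁻¹ * (t * x * t⁻¹) := by rw [htt]
      _ = _ := by rw [hv']; group
  set sv := s * v * s⁻¹ with hsv
  have hsvR : sv ∈ R' := conj_mem_of_mem_normalizer hsR hvR
  have hssv : s * sv * s⁻¹ = v := by
    rw [hsv, inv_eq_of_mul_eq_one_right hss,
      show s * (s * v * s) * s = (s * s) * v * (s * s) by group, hss, one_mul, mul_one]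
  have htsv : t * sv * t⁻¹ = sv⁻¹ := by
    calc t * sv * t⁻¹ = (t * s) * v * (t * s)⁻¹ := by rw [hsv]; group
      _ = (s * t) * v * (s * t)⁻¹ := by rw [hst]
      _ = s * (t * v * t⁻¹) * s⁻¹ := by group
      _ = _ := by rw [htv, hsv]; group
  set u := v * sv with hu'
  have huR : u ∈ R' := mul_mem hvR hsvR
  have hsu : s * u * s⁻¹ = sv * v := by
    calc s * u * s⁻¹ = (s * v * s⁻¹) * (s * sv * s⁻¹) := by rw [hu']; group
      _ = _ := by rw [hssv]
  obtain ⟨w, hw, hwu⟩ := h.fixed_class hv.memT hR hR' hRR hs hsW huR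
    (conj_mem_of_mem_normalizer hsR huR) (hsu ▸ hCl.swap hsvR hvR)
  have huZ : u ∈ Z := by
    refine mem_of_sq_mem hP.q_ne_two hP.prime_q
      (exists_order_of_isPGroup hP.prime_q hR'.pgrp huR) ?_
    set c := w⁻¹ * u with hc
    have h1 : u * (sv * v) ∈ Z := by
      have e : sv * v = (t * u * t⁻¹)⁻¹ := by
        rw [show t * u * t⁻¹ = (t * v * t⁻¹) * (t * sv * t⁻¹) by rw [hu']; group, htv, htsv]
        group
      have e' : t * u * t⁻¹ = w * (t * c * t⁻¹) := by
        calc t * u * t⁻¹ = (t * w * t⁻¹) * (t * c * t⁻¹) := by rw [hc]; group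
          _ = _ := by rw [hRt w hw]
      have hcZ : c * (t * c * t⁻¹)⁻¹ ∈ Z :=
        mul_mem hwu (inv_mem (conj_mem_of_mem_normalizer htZ hwu))
      rw [e, e', show u * (w * (t * c * t⁻¹))⁻¹ = w * (c * (t * c * t⁻¹)⁻¹) * w⁻¹ by
        rw [hc]; group, hCl.cmt hcZ (hRR hw), mul_inv_cancel_right]
      exact hcZ
    rw [show u * u = u * (sv * v) * ((sv * v)⁻¹ * (v * sv)) by rw [hu']; group]
    exact mul_mem h1 (hCl.swap hvR hsvR)
  have hsvv : sv * v ∈ Z := by
    rw [show sv * v = u * ((v * sv)⁻¹ * (sv * v)) by rw [hu']; group]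
    exact mul_mem huZ (hCl.swap hsvR hvR)
  have hrv : r * v * r⁻¹ = sv⁻¹ := by
    calc r * v * r⁻¹ = s * (t * v * t⁻¹) * s⁻¹ := by rw [hr']; group
      _ = _ := by rw [htv, hsv]; group
  obtain ⟨w', hw', hwv⟩ := h.fixed_class hv.memT hR hR' hRR hr hrW hvR
    (hrv ▸ inv_mem hsvR) (by rw [hrv, ← mul_inv_rev]; exact inv_mem hsvv)
  have hvZ : v ∈ Z := by
    refine mem_of_sq_mem hP.q_ne_two hP.prime_q
      (exists_order_of_isPGroup hP.prime_q hR'.pgrp hvR) ?_
    set c := w'⁻¹ * v with hc
    have e' : t * v * t⁻¹ = w' * (t * c * t⁻¹) := by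
      calc t * v * t⁻¹ = (t * w' * t⁻¹) * (t * c * t⁻¹) := by rw [hc]; group
        _ = _ := by rw [hRt w' hw']
    rw [show v * v = (v⁻¹)⁻¹ * v by group, ← htv, e',
      show (w' * (t * c * t⁻¹))⁻¹ * v = (t * c * t⁻¹)⁻¹ * c by rw [hc]; group]
    exact mul_mem (inv_mem (conj_mem_of_mem_normalizer htZ hwv)) hwv
  have hTt : MulAut.conj t • T = T :=
    CfsgLib.Solvable.conj_smul_eq_self_iff.2 (centralizer_le_normalizer _ hv.memT.2)
  have e1 : MulAut.conj x • T = MulAut.conj (t * x * t⁻¹) • T :=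
    (hR'.conj_eq_iff hP x hx _ (conj_mem_of_mem_normalizer htR hx)).2 (by
      rw [show x⁻¹ * (t * x * t⁻¹) = v⁻¹ by rw [hv']; group]
      exact inv_mem hvZ)
  refine hv.notC (hP.centralizes_of_normalized h.ord T hv.memT C hv.memC ?_)
  rw [hCx]
  conv_rhs => rw [e1, ← hTt, conj_smul_conj_smul]
  rw [conj_smul_conj_smul]
  congr 2
  group

/-- With a central fixed centre there is no violator. -/
theorem no_violator_light (h : MaxInv p q D t) {T C : Subgroup G} {k : G}
    (hv : Violator q D t T C k) {R : Subgroup G}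
    (hR : Flat q D (hull D (centralizer ({t} : Set G))) T R)
    (hcen : ∀ z ∈ R ⊓ centralizer (T : Set G), z ∈ center G) : False := by
  have hc := h.ctx
  have hP := hc.pair
  haveI := Fact.mk Nat.prime_two
  have hiso := h.isolated hv hR hcen
  set O := Cfsg.pPrimeCore 2 G with hO
  haveI : O.Normal := CfsgLib.Solvable.pPrimeCore_normal 2 G
  have hOodd : Odd (Nat.card O) :=
    Nat.coprime_two_right.1 (CfsgLib.Solvable.pPrimeCore_card_coprime 2 G)
  set K := Cfsg.centralizerPPrimeCore 2 t with hK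
  set Ct := centralizer ({t} : Set G) with hCt
  have hcov : ∀ g : G, g ∈ O ⊔ Ct := by
    intro g
    set s := g * t * g⁻¹ with hs
    have hst : s * t ∈ O := by
      have h1 := inv_mem (CfsgLib.Invol.zStar hiso g)
      rwa [show (t * g * t⁻¹ * g⁻¹)⁻¹ = s * t⁻¹ by rw [hs]; group, h.inv] at h1
    obtain ⟨l, e, hl, he, hte, hse, -⟩ := exists_conj_form hOodd h.sq
      (fun x hx => (inferInstance : O.Normal).conj_mem x hx t) hst
    have hss : s * s = 1 := by
      rw [hs, show g * t * g⁻¹ * (g * t * g⁻¹) = g * (t * t) * g⁻¹ by group, h.sq]; group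
    have hee : e * e = 1 := by
      have h1 : l⁻¹ * (s * s) * l = t * t * (e * e) := by
        rw [hse]
        calc l⁻¹ * (l * (t * e) * l⁻¹ * (l * (t * e) * l⁻¹)) * l = t * (e * t) * e := by group
          _ = _ := by rw [← hte.eq]; group
      rw [hss, h.sq, mul_one, inv_mul_cancel, one_mul] at h1
      exact h1.symm
    have he1 : e = 1 := by
      obtain ⟨m, hm⟩ := hOodd
      have h1 : e ^ (2 * m + 1) = 1 := by
        have := congrArg Subtype.val (pow_card_eq_one' (x := (⟨e, he⟩ : O)))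
        rw [hm] at this
        simpa using this
      rwa [pow_succ, pow_mul, pow_two, hee, one_pow, one_mul] at h1
    rw [he1, mul_one] at hse
    rw [show g = l * (l⁻¹ * g) by group]
    refine mul_mem_sup hl (mem_centralizer_singleton_iff.2 ?_)
    calc l⁻¹ * g * t = l⁻¹ * (g * t * g⁻¹) * g := by group
      _ = l⁻¹ * (l * t * l⁻¹) * g := by rw [← hs, hse]
      _ = _ := by group
  have hKn : Ct ≤ normalizer (K : Set G) := by
    have h1 := Subgroup.le_normalizer_map (H := Cfsg.pPrimeCore 2 Ct) Ct.subtype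
    haveI := CfsgLib.Solvable.pPrimeCore_normal 2 Ct
    rwa [Subgroup.normalizer_eq_top, ← MonoidHom.range_eq_map, Subgroup.range_subtype] at h1
  have hKC : K ≤ Ct := Subgroup.map_subtype_le _
  have hKodd : Odd (Nat.card K) := by
    rw [hK, Cfsg.centralizerPPrimeCore, Subgroup.card_map_of_injective Ct.subtype_injective]
    exact Nat.coprime_two_right.1 (CfsgLib.Solvable.pPrimeCore_card_coprime 2 _)
  have hn : (O ⊔ K).Normal := by
    refine normalizer_eq_top_iff.1 (eq_top_iff.2 fun g _ => ?_)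
    have hsub : O ⊔ Ct ≤ normalizer ((O ⊔ K : Subgroup G) : Set G) := by
      refine sup_le (le_sup_left.trans le_normalizer) fun c hc' => ?_
      rw [← CfsgLib.Solvable.conj_smul_eq_self_iff, smul_sup,
        CfsgLib.Solvable.conj_smul_eq_self_iff.2 (by rw [normalizer_eq_top]; exact mem_top c),
        CfsgLib.Solvable.conj_smul_eq_self_iff.2 (hKn hc')]
    exact hsub (hcov g)
  have htop := hP.eq_top_of_normal hc.gen hv.memT.1 hn
    (((le_hull (fixedSet_eq (D := D) t ▸ hv.memT)).trans h.hull_le_core).trans le_sup_right)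
  have hdvd := CfsgLib.Solvable.card_sup_dvd (N := O) (H := K)
    (by rw [normalizer_eq_top]; exact le_top)
  rw [htop, card_top] at hdvd
  exact Nat.not_even_iff_odd.2 ((hOodd.mul hKodd).of_dvd_nat hdvd) hc.even

theorem no_violator (h : MaxInv p q D t) (T C : Subgroup G) (k : G) :
    ¬ Violator q D t T C k := by
  intro hv
  obtain ⟨R, hR⟩ := h.ctx.proper _ h.cent_ne_top T (fixedSet_eq (D := D) t ▸ hv.memT)
  by_cases hz : ∃ z ∈ R ⊓ centralizer (T : Set G), z ∉ center G
  · obtain ⟨z, hz, hzc⟩ := hz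
    exact h.no_violator_heavy hv hR hz hzc
  · push Not at hz
    exact h.no_violator_light hv hR hz

end MaxInv

/-- A group with such a class is generated by a `q`-group and a member. -/
theorem Pair.split (hP : Pair p q D) (hgen : sSup D = ⊤) {A : Subgroup G} (hA : A ∈ D) :
    Split q A := by
  refine split_induction (p := p) (q := q)
    (fun G _ _ D hP hgen hs A hA => split_of_solvable hP hgen hA hs) ?_ G D hP hgen A hA
  intro G _ _ D hP hgen hprop hcen A hA
  rcases Nat.even_or_odd (Nat.card G) with heven | hodd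
  swap
  · exact split_of_solvable hP hgen hA (Cfsg.Agent.S0205.result hodd)
  exfalso
  have hc : Ctx p q D := ⟨hP, hgen, hprop, hcen, heven⟩
  obtain ⟨t0, ht0, hne0⟩ := hP.exists_centralizing_involution hgen heven hA
  obtain ⟨t, ⟨ht, hne⟩, hmax⟩ := Set.exists_max_image
    {s : G | orderOf s = 2 ∧ (fixedSet D s).Nonempty} (fun s => (fixedSet D s).ncard)
    (Set.toFinite _) ⟨t0, ht0, hne0⟩
  have h : MaxInv p q D t := by
    refine ⟨hc, ht, hne, fun s hs => ?_⟩
    by_cases hsne : (fixedSet D s).Nonempty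
    · exact hmax s ⟨hs, hsne⟩
    · rw [Set.not_nonempty_iff_eq_empty.1 hsne, Set.ncard_empty]; exact Nat.zero_le _
  obtain ⟨a, ha, ha1⟩ := hc.exists_gen hA
  refine mem_kernel_of_products a t ht ?_ fun g => ?_
  · have hAa : zpowers a = A := by
      haveI := Fact.mk hP.prime_p
      refine eq_of_le_of_card_ge (zpowers_le.2 ha) ?_
      have h1 : a ^ p = 1 := by
        have := congrArg Subtype.val (pow_card_eq_one' (x := (⟨a, ha⟩ : A)))
        rw [hP.card_mem A hA] at this
        simpa using this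
      rw [Nat.card_zpowers, orderOf_eq_prime h1 ha1, hP.card_mem A hA]
    refine hP.eq_top_of_normal hgen hA normalClosure_normal ?_
    rw [← hAa, zpowers_le]
    exact subset_normalClosure rfl
  · exact h.product_mem h.no_violator (hP.conj_mem A hA g)
      (mem_conj_smul_iff.2 (by simpa [mul_assoc] using ha))

end CfsgLib.PairGen
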