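import Cfsg.Agent.Lib.PairGen.Blocks

/-!
# An involution with a largest set of fixed members: the case of a noncentral fixed centre
-/

set_option autoImplicit false
set_option linter.unusedSectionVars false
set_option linter.style.haveILetI false

universe u

namespace CfsgLib.PairGen

open Subgroup
open scoped Pointwise commutatorElement

variable {G : Type u} [Group G] [Finite G] {p q : ℕ} {D : Set (Subgroup G)}

theorem fixedSet_eq (t : G) : fixedSet D t = inside D (centralizer ({t} : Set G)) := by
  ext B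
  exact and_congr Iff.rfl le_centralizer_singleton.symm

/-- `t` has the largest set of fixed members. -/
structure MaxInv (p q : ℕ) (D : Set (Subgroup G)) (t : G) : Prop where
  ctx : Ctx p q D
  ord : orderOf t = 2
  nonempty : (fixedSet D t).Nonempty
  max : ∀ s : G, orderOf s = 2 → (fixedSet D s).ncard ≤ (fixedSet D t).ncard

/-- A line at a fixed member with a bad `q`-element. -/
structure Violator (q : ℕ) (D : Set (Subgroup G)) (t : G) (T C : Subgroup G) (k : G) : Prop where
  memT : T ∈ fixedSet D t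
  memC : C ∈ D
  notC : C ∉ fixedSet D t
  memk : k ∈ T ⊔ C
  kq : ∃ n, orderOf k = q ^ n
  kt : Commute k t
  kT : k ∈ centralizer (T : Set G)
  bad : k ∉ Cfsg.centralizerPPrimeCore 2 t

namespace MaxInv

variable {t : G}

theorem inv (h : MaxInv p q D t) : t⁻¹ = t :=
  inv_eq_of_mul_eq_one_right (by rw [← pow_two, ← h.ord, pow_orderOf_eq_one])

theorem sq (h : MaxInv p q D t) : t * t = 1 := by rw [← pow_two, ← h.ord, pow_orderOf_eq_one]

theorem cent_ne_top (h : MaxInv p q D t) : centralizer ({t} : Set G) ≠ ⊤ :=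
  Ctx.centralizer_ne_top fun hz => h.ctx.center_inv t hz h.ord

theorem mem_cent {g : G} (hg : Commute g t) : g ∈ centralizer ({t} : Set G) :=
  mem_centralizer_singleton_iff.2 hg.eq

theorem smul_fixed (_h : MaxInv p q D t) (hP : Pair p q D) {g : G} (hg : Commute g t)
    {B : Subgroup G} (hB : B ∈ fixedSet D t) : MulAut.conj g • B ∈ fixedSet D t := by
  refine ⟨hP.conj_mem B hB.1 g, le_centralizer_singleton.1 ?_⟩
  have := smul_le_centralizer (g := g) (le_centralizer_singleton.2 hB.2)
  rwa [hg.eq, mul_inv_cancel_right] at this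

theorem mem_normalizer_hull (h : MaxInv p q D t) {g : G} (hg : Commute g t) :
    g ∈ normalizer (hull D (centralizer ({t} : Set G)) : Set G) :=
  PairGen.mem_normalizer_hull fun B hB => by
    rw [← fixedSet_eq] at hB ⊢
    exact h.smul_fixed h.ctx.pair hg hB

theorem hull_le_core (h : MaxInv p q D t) :
    hull D (centralizer ({t} : Set G)) ≤ Cfsg.centralizerPPrimeCore 2 t := by
  obtain ⟨T, hT⟩ := h.nonempty
  obtain ⟨R, hR⟩ := h.ctx.proper _ h.cent_ne_top T (fixedSet_eq (D := D) t ▸ hT)
  exact mem_core_of_normal (hull_le _ _)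
    (fun g hg => h.mem_normalizer_hull (mem_centralizer_singleton_iff.1 hg))
    (hR.odd_card h.ctx.pair)

theorem center_le_core (h : MaxInv p q D t) :
    center G ≤ Cfsg.centralizerPPrimeCore 2 t :=
  mem_core_of_normal (center_le_centralizer _)
    (fun g _ => by rw [normalizer_eq_top_iff.2 inferInstance]; exact mem_top g) h.ctx.center_odd

theorem noncentral (h : MaxInv p q D t) {T C : Subgroup G} {k : G}
    (hv : Violator q D t T C k) : k ∉ center G := fun hk => hv.bad (h.center_le_core hk)

/-- Both ends of the line of a violator commute with it. -/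
theorem line_le (h : MaxInv p q D t) {T C : Subgroup G} {k : G}
    (hv : Violator q D t T C k) : T ⊔ C ≤ centralizer ({k} : Set G) := by
  have hne : T ≠ C := fun e => hv.notC (e ▸ hv.memT)
  have hT : T ∈ inside D (T ⊔ C) := ⟨hv.memT.1, le_sup_left⟩
  have hC : C ∈ inside D (T ⊔ C) := ⟨hv.memC, le_sup_right⟩
  have hk : k ∈ hull D (T ⊔ C) := sup_le (le_hull hT) (le_hull hC) hv.memk
  have := h.ctx.le_blk (h.ctx.line_ne_top hv.memT.1 hv.memC hne) hT hk hv.kq hv.kT
  exact sup_le (this hT).2 (this hC).2

/-- `t` normalises every hull of a centraliser of an element commuting with it. -/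
theorem t_normalizes (h : MaxInv p q D t) {k g : G} (hg : Commute g t) (hgk : Commute g k) :
    g ∈ normalizer (hull D (centralizer ({k} : Set G)) : Set G) :=
  PairGen.mem_normalizer_hull fun B hB => ⟨h.ctx.pair.conj_mem B hB.1 g, by
    have := smul_le_centralizer (g := g) hB.2
    rwa [hgk.eq, mul_inv_cancel_right] at this⟩

theorem centralizer_odd_sub {X A R : Subgroup G} (hP : Pair p q D) (hX : Flat q D X A R) :
    Odd (Nat.card ↥(R ⊓ centralizer ({t} : Set G))) :=
  (hX.odd_card hP).of_dvd_nat (card_dvd_of_le (inf_le_left.trans hX.R_le))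

/-- With a noncentral central element in the fixed flat there is no violator. -/
theorem no_violator_heavy (h : MaxInv p q D t) {T C : Subgroup G} {k : G}
    (hv : Violator q D t T C k) {R : Subgroup G}
    (hR : Flat q D (hull D (centralizer ({t} : Set G))) T R)
    {z0 : G} (hz0 : z0 ∈ R ⊓ centralizer (T : Set G)) (hz0c : z0 ∉ center G) : False := by
  have hc := h.ctx
  have hP := hc.pair
  haveI := Fact.mk hP.prime_q
  set Ct := centralizer ({t} : Set G) with hCt
  set Zt := R ⊓ centralizer (T : Set G) with hZt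
  have hTt : T ∈ inside D Ct := fixedSet_eq (D := D) t ▸ hv.memT
  have hTk : T ∈ inside D (centralizer ({k} : Set G)) :=
    ⟨hv.memT.1, le_sup_left.trans (h.line_le hv)⟩
  have hCk : C ∈ inside D (centralizer ({k} : Set G)) :=
    ⟨hv.memC, le_sup_right.trans (h.line_le hv)⟩
  have hXt : hull D Ct ≤ Ct := hull_le _ _
  -- the maximal flat through the fixed members
  have hindep : ∀ z ∈ Zt, z ∉ center G → ∀ z' ∈ Zt, z' ∉ center G →
      inside D (centralizer ({z} : Set G)) ⊆ inside D (centralizer ({z'} : Set G)) := by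
    intro z hz hzc z' hz' hz'c
    have hW : inside D Ct ⊆ inside D (centralizer ({z} : Set G)) := fun B hB =>
      ⟨hB.1, le_centralizer_singleton.2
        (centralizer_le (fun _ h => le_hull hB h) (hR.zc_le hP hz))⟩
    refine hc.le_blk (Ctx.centralizer_ne_top hzc) (hW hTt) ?_
      (exists_order_of_isPGroup hP.prime_q hR.pgrp hz'.1) hz'.2
    refine (sSup_le fun B hB => le_hull (hW hB) : hull D Ct ≤ _) (hR.R_le hz'.1)
  set B0 := inside D (centralizer ({z0} : Set G)) with hB0
  have hW0 : inside D Ct ⊆ B0 := fun B hB =>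
      ⟨hB.1, le_centralizer_singleton.2
        (centralizer_le (fun _ h => le_hull hB h) (hR.zc_le hP hz0))⟩
  -- the flat of the line is different
  have hne : ¬ inside D (centralizer ({k} : Set G)) = B0 := by
    intro he
    obtain ⟨R0, hR0⟩ := hc.proper _ (Ctx.centralizer_ne_top hz0c) T (hW0 hTt)
    have hkH : k ∈ hull D (centralizer ({z0} : Set G)) :=
      sup_le (le_hull (hW0 hTt)) (le_hull (show C ∈ B0 from he ▸ hCk)) hv.memk
    refine hv.bad (mem_core_of_normal inf_le_right (fun g hg => ?_)
      (centralizer_odd_sub hP hR0)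
      (⟨hR0.le_R hP k hkH hv.kq, mem_cent hv.kt⟩ : k ∈ R0 ⊓ Ct))
    have hgt : Commute g t := mem_centralizer_singleton_iff.1 hg
    have hgX : g ∈ normalizer (hull D Ct : Set G) := h.mem_normalizer_hull hgt
    have hgz : g * z0 * g⁻¹ ∈ Zt :=
      conj_mem_of_mem_normalizer (hR.mem_normalizer_zc hP hgX) hz0
    have hgzc : g * z0 * g⁻¹ ∉ center G := fun hh => hz0c (by
      have := (inferInstance : (center G).Normal).conj_mem _ hh g⁻¹
      simpa [mul_assoc] using this)
    have hgH : g ∈ normalizer (hull D (centralizer ({z0} : Set G)) : Set G) :=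
      PairGen.mem_normalizer_hull fun B hB =>
        hindep _ hgz hgzc z0 hz0 hz0c ⟨hP.conj_mem B hB.1 g, smul_le_centralizer hB.2⟩
    exact inf_normalizer_le_normalizer_inf
      ⟨hR0.mem_normalizer_R hP hgH, le_normalizer hg⟩
  -- `k` acts on the centre of the fixed flat
  have hkXt : k ∈ normalizer (hull D Ct : Set G) := h.mem_normalizer_hull hv.kt
  have hkZ : k ∈ normalizer (Zt : Set G) := hR.mem_normalizer_zc hP hkXt
  obtain ⟨z, hz, hzc, hzk⟩ : ∃ z ∈ Zt, z ∉ center G ∧ z⁻¹ * (k * z * k⁻¹) ∈ center G := by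
    set δ : G → G := fun y => y⁻¹ * (k * y * k⁻¹) with hδ
    obtain ⟨n, hn⟩ := exists_iterate_eq_one hP.prime_q
      (hR.pgrp.to_le (inf_le_left : Zt ≤ R)) hv.kq hkZ hz0
    by_contra hne'
    push Not at hne'
    have hall : ∀ m, δ^[m] z0 ∈ Zt ∧ δ^[m] z0 ∉ center G := by
      intro m
      induction m with
      | zero => exact ⟨hz0, hz0c⟩
      | succ m ih =>
        rw [Function.iterate_succ_apply']
        exact ⟨mul_mem (inv_mem ih.1) (conj_mem_of_mem_normalizer hkZ ih.1), hne' _ ih.1 ih.2⟩
    have h1 := (hall n).2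
    rw [hδ, hn] at h1
    exact h1 (one_mem _)
  set H := centralizer ({k} : Set G) with hH
  have hHt : H ≠ ⊤ := Ctx.centralizer_ne_top (h.noncentral hv)
  obtain ⟨RB, hRB⟩ := hc.proper H hHt T hTk
  set ZB := RB ⊓ centralizer (T : Set G) with hZB
  -- `z` normalises the flat of the line
  have hzH : z ∈ normalizer (hull D H : Set G) := by
    refine PairGen.mem_normalizer_hull fun B hB => ⟨hP.conj_mem B hB.1 z, fun x hx => ?_⟩
    set c := z⁻¹ * (k * z * k⁻¹) with hcdef
    have hb : Commute (z⁻¹ * x * z) k :=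
      mem_centralizer_singleton_iff.1 (hB.2 (mem_conj_smul_iff.1 hx))
    refine mem_centralizer_singleton_iff.2 ?_
    set b := z⁻¹ * x * z with hbdef
    have hcc : b * c = c * b := mem_center_iff.1 hzk b
    have hx' : x = z * b * z⁻¹ := by rw [hbdef]; group
    have hkz : k * z = z * c * k := by rw [hcdef]; group
    symm
    calc k * x = (k * z) * b * z⁻¹ := by rw [hx']; group
      _ = z * c * (k * b) * z⁻¹ := by rw [hkz]; group
      _ = z * c * (b * k) * z⁻¹ := by rw [hb.eq]
      _ = z * (b * c) * (k * z⁻¹) := by rw [hcc]; group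
      _ = (z * b * z⁻¹) * ((z * c * k) * z⁻¹) := by group
      _ = (z * b * z⁻¹) * ((k * z) * z⁻¹) := by rw [hkz]
      _ = x * k := by rw [hx']; group
  have hzq := exists_order_of_isPGroup hP.prime_q hR.pgrp hz.1
  have hzt : Commute z t := mem_centralizer_singleton_iff.1 (hXt (hR.R_le hz.1))
  have htH : t ∈ normalizer (hull D H : Set G) := h.t_normalizes (Commute.refl t) hv.kt.symm
  obtain ⟨a, ha, ha1⟩ := hc.exists_gen hv.memT.1
  have hfixall := fix_all hP.prime_q hP.q_ne_two (hRB.cls hP) hRB.pgrp (hRB.A_norm ha)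
    (hRB.anis hP a ha ha1) hzq (hRB.mem_normalizer_R hP hzH) (hRB.mem_normalizer_zc hP hzH)
    ((mem_centralizer_iff.1 hz.2 a ha).symm) h.sq (hRB.mem_normalizer_R hP htH)
    (hRB.mem_normalizer_zc hP htH) ((mem_centralizer_iff.1 hv.memT.2 a ha).symm) hzt.symm
    (by
      intro y hy hty
      have hyt : Commute y t := by
        show y * t = t * y
        conv_lhs => rw [← hty]
        group
      set e := z * y * z⁻¹ * y⁻¹ with he
      have he1 : e ∈ ZB :=
        mul_mem (conj_mem_of_mem_normalizer (hRB.mem_normalizer_zc hP hzH) hy) (inv_mem hy)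
      have he2 : e ∈ Zt := by
        rw [he, show z * y * z⁻¹ * y⁻¹ = z * (y * z⁻¹ * y⁻¹) by group]
        exact mul_mem hz (conj_mem_of_mem_normalizer
          (hR.mem_normalizer_zc hP (h.mem_normalizer_hull hyt)) (inv_mem hz))
      have hec : e ∈ center G := by
        by_contra hec
        have h1 : inside D H ⊆ inside D (centralizer ({e} : Set G)) := fun B hB =>
          ⟨hB.1, le_centralizer_singleton.2
            (centralizer_le (fun _ h => le_hull hB h) (hRB.zc_le hP he1))⟩
        have h2 : inside D (centralizer ({e} : Set G)) ⊆ inside D H :=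
          hc.le_blk (Ctx.centralizer_ne_top hec) (h1 hTk)
            (sup_le (le_hull (h1 hTk)) (le_hull (h1 hCk)) hv.memk) hv.kq hv.kT
        exact hne ((Set.Subset.antisymm h1 h2).trans (Set.Subset.antisymm
          (hindep e he2 hec z0 hz0 hz0c) (hindep z0 hz0 hz0c e he2 hec)))
      rw [mem_center_iff.1 hec z, mul_inv_cancel_right])
  -- `z` centralises the flat of the line
  have hzall : inside D H ⊆ inside D (centralizer ({z} : Set G)) := fun B hB =>
    ⟨hB.1, le_centralizer_singleton.2
      (hRB.centralizes_members hP hz.2 hfixall B (inside_hull hB))⟩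
  have hzall' : inside D (centralizer ({z} : Set G)) ⊆ inside D H :=
    hc.le_blk (Ctx.centralizer_ne_top hzc) (hzall hTk)
      (sup_le (le_hull (hzall hTk)) (le_hull (hzall hCk)) hv.memk) hv.kq hv.kT
  exact hne ((Set.Subset.antisymm hzall hzall').trans (Set.Subset.antisymm
    (hindep z hz hzc z0 hz0 hz0c) (hindep z0 hz0 hz0c z hz hzc)))

/-- Without violators the product of a member with `t` lies over the core. -/
theorem product_mem (h : MaxInv p q D t) (hno : ∀ T C k, ¬ Violator q D t T C k)
    {A : Subgroup G} (hA : A ∈ D) {x : G} (hx : x ∈ A) :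
    ∃ l e : G, e ∈ Cfsg.centralizerPPrimeCore 2 t ∧ x * t = l * (t * e) * l⁻¹ := by
  have hc := h.ctx
  have hP := hc.pair
  haveI := Fact.mk hP.prime_q
  obtain ⟨T0, hT0⟩ := h.nonempty
  have hcore : ∀ B ∈ fixedSet D t, B ≤ Cfsg.centralizerPPrimeCore 2 t := fun B hB =>
    (le_hull (fixedSet_eq (D := D) t ▸ hB)).trans h.hull_le_core
  by_cases hmv : MulAut.conj t • A = A
  · have hAf := hP.centralizes_of_normalized h.ord T0 hT0 A hA hmv
    refine ⟨1, x, hcore A hAf hx, ?_⟩
    simp [(mem_centralizer_iff.1 hAf.2 x hx)]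
  obtain ⟨T, hT, hTle, hTn⟩ := hP.exists_normalized h.ord A hA hmv
  have hTf := hP.centralizes_of_normalized h.ord T0 hT0 T hT hTn
  obtain ⟨l, e, he, het, -, heq⟩ := hP.product_form h.ord A hA x hx hmv
  refine ⟨l, e, ?_, heq⟩
  set A' := MulAut.conj t • A with hA'
  have hA'D := hP.conj_mem A hA t
  have hAf : A ∉ fixedSet D t := fun hh => hmv (by
    apply CfsgLib.Solvable.conj_smul_eq_self_iff.2
    exact centralizer_le_normalizer _ hh.2)
  have hTA : T ≠ A := fun hh => hAf (hh ▸ hTf)
  have hline : A ⊔ T = A ⊔ A' := hP.line_eq A hA A' hA'D T hT hTle hTA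
  set L := A ⊔ A' with hL
  have hLt : L ≠ ⊤ := hc.line_ne_top hA hA'D (fun hh => hmv hh.symm)
  have hTL : T ∈ inside D L := ⟨hT, hTle⟩
  have hAL : A ∈ inside D L := ⟨hA, le_sup_left⟩
  obtain ⟨RL, hRL⟩ := hc.proper L hLt T hTL
  have hLhull : hull D L = L :=
    le_antisymm (hull_le _ _) (sup_le (le_hull hAL) (le_hull ⟨hA'D, le_sup_right⟩))
  rw [hLhull] at hRL
  have hsup : e ∈ RL ⊔ T := by rw [hRL.sup]; exact he
  obtain ⟨r, hr, b, hb, rfl⟩ :=
    (CfsgLib.Solvable.mem_sup_of_le_normalizer hRL.A_norm).1 hsup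
  have hbt : b * t = t * b := mem_centralizer_iff.1 hTf.2 b hb
  have hrt : Commute r t := by
    show r * t = t * r
    have h1 : t * (r * b) = (r * b) * t := het.eq
    refine mul_right_cancel (b := b) ?_
    calc r * t * b = r * (b * t) := by rw [mul_assoc, hbt]
      _ = r * b * t := (mul_assoc r b t).symm
      _ = t * (r * b) := h1.symm
      _ = t * r * b := (mul_assoc t r b).symm
  refine mul_mem ?_ (hcore T hTf hb)
  by_contra hbad
  have hrT : MulAut.conj r • T = T := by
    by_contra hne
    apply hAf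
    have hrf := h.smul_fixed hP hrt hTf
    have hle : MulAut.conj r • T ≤ T ⊔ A := by
      rw [sup_comm, hline]
      intro y hy
      have h1 := hTle (mem_conj_smul_iff.1 hy)
      have h2 := hRL.R_le hr
      simpa [mul_assoc] using mul_mem (mul_mem h2 h1) (inv_mem h2)
    have h3 := hP.line_eq T hT A hA _ hrf.1 hle hne
    refine hP.centralizes_of_normalized h.ord T0 hT0 A hA ?_
    apply CfsgLib.Solvable.conj_smul_eq_self_iff.2
    refine centralizer_le_normalizer _ (le_centralizer_singleton.1 ?_)
    exact le_sup_right.trans (h3 ▸ sup_le (le_centralizer_singleton.2 hTf.2)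
      (le_centralizer_singleton.2 hrf.2))
  have hrc := (hRL.mem_zc hP r hr (CfsgLib.Solvable.conj_smul_eq_self_iff.1 hrT)).2
  exact hno T A r ⟨hTf, hA, hAf, by rw [sup_comm, hline]; exact hRL.R_le hr,
    exists_order_of_isPGroup hP.prime_q hRL.pgrp hr, hrt, hrc, hbad⟩

end MaxInv

end CfsgLib.PairGen
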