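import Cfsg.Agent.Lib.PairGen.Setup
import Cfsg.Agent.Lib.Solvable.CoprimeAbelian
import Mathlib.GroupTheory.Abelianization.Finite
import Mathlib.GroupTheory.Nilpotent

/-!
# A flat: a `q`-group by a member of the class

In a flat `R ⊔ A` the centralizer of `A` in `R` is central, contains the derived group of `R` and
the group `A` acts without fixed points on `R` modulo it.
-/

set_option autoImplicit false
set_option linter.style.haveILetI false

universe u

namespace CfsgLib.PairGen

open Subgroup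
open scoped Pointwise commutatorElement

variable {G : Type u} [Group G] [Finite G] {p q : ℕ} {D : Set (Subgroup G)} {X A R : Subgroup G}

namespace Flat

omit [Finite G] in
theorem A_le (hX : Flat q D X A R) : A ≤ X := hX.sup ▸ le_sup_right

omit [Finite G] in
theorem R_le (hX : Flat q D X A R) : R ≤ X := hX.sup ▸ le_sup_left

omit [Finite G] in
theorem A_norm (hX : Flat q D X A R) : A ≤ normalizer (R : Set G) := hX.A_le.trans hX.norm

theorem coprime_of_pgroup (hP : Pair p q D) (hX : Flat q D X A R) {W : Subgroup G}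
    (hW : IsPGroup q W) : (Nat.card A).Coprime (Nat.card W) := by
  haveI : Fact q.Prime := ⟨hP.prime_q⟩
  obtain ⟨n, hn⟩ := hW.exists_card_eq
  rw [hP.card_mem A hX.mem, hn]
  exact Nat.Coprime.pow_right n ((Nat.coprime_primes hP.prime_p hP.prime_q).2 hP.p_ne_q)

theorem solv_A (hP : Pair p q D) (hX : Flat q D X A R) : Group.IsSolvable A := by
  haveI : Fact p.Prime := ⟨hP.prime_p⟩
  haveI : IsCyclic A := isCyclic_of_prime_card (hP.card_mem A hX.mem)
  haveI := (IsPGroup.of_card (p := p) (n := 1)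
    (show Nat.card A = p ^ 1 by rw [hP.card_mem A hX.mem, pow_one])).isNilpotent
  infer_instance

/-- A `q`-element of the product of an invariant `q`-group by `A` lies in the `q`-group. -/
theorem mem_of_sup (hP : Pair p q D) (hX : Flat q D X A R) {W : Subgroup G} (hWR : W ≤ R)
    (hAW : A ≤ normalizer (W : Set G)) {g : G} (hg : g ∈ W ⊔ A) (hq : g ∈ R) : g ∈ W := by
  obtain ⟨w, hw, a, ha, rfl⟩ := (CfsgLib.Solvable.mem_sup_of_le_normalizer hAW).1 hg
  have haR : a ∈ R := by simpa using mul_mem (inv_mem (hWR hw)) hq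
  have : a = 1 := disjoint_def.1 (disjoint_of_coprime_natCard (coprime_of_pgroup hP hX hX.pgrp)) ha haR
  simpa [this] using hw

theorem le_R (hP : Pair p q D) (hX : Flat q D X A R) :
    ∀ g ∈ X, (∃ k, orderOf g = q ^ k) → g ∈ R := by
  intro g hg ⟨k, hk⟩
  rw [← hX.sup] at hg
  obtain ⟨r, hr, a, ha, rfl⟩ := (CfsgLib.Solvable.mem_sup_of_le_normalizer hX.A_norm).1 hg
  have key : ∀ n : ℕ, (r * a) ^ n * (a ^ n)⁻¹ ∈ R := by
    intro n
    induction n with
    | zero => simpa using R.one_mem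
    | succ n ih =>
      have h1 : a ^ n * r * (a ^ n)⁻¹ ∈ R :=
        (mem_normalizer_iff.1 (hX.A_norm (A.pow_mem ha n)) r).1 hr
      have e : (r * a) ^ (n + 1) * (a ^ (n + 1))⁻¹ =
          ((r * a) ^ n * (a ^ n)⁻¹) * (a ^ n * r * (a ^ n)⁻¹) := by
        rw [pow_succ, pow_succ]; group
      rw [e]; exact mul_mem ih h1
  have h := key (q ^ k)
  rw [← hk, pow_orderOf_eq_one, one_mul, inv_mem_iff] at h
  have h1 : a ^ orderOf (r * a) = 1 := disjoint_def.1
    (disjoint_of_coprime_natCard (coprime_of_pgroup hP hX hX.pgrp)) (A.pow_mem ha _) h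
  have h2 : a ^ p = 1 := by
    have := congrArg Subtype.val (pow_card_eq_one' (x := (⟨a, ha⟩ : A)))
    rw [hP.card_mem A hX.mem] at this
    simpa using this
  rw [hk] at h1
  have hcop : (q ^ k).Coprime p :=
    Nat.Coprime.pow_left k ((Nat.coprime_primes hP.prime_q hP.prime_p).2 hP.p_ne_q.symm)
  have ha1 : a = 1 := orderOf_eq_one_iff.1
    (Nat.eq_one_of_dvd_coprimes hcop (orderOf_dvd_of_pow_eq_one h1) (orderOf_dvd_of_pow_eq_one h2))
  simpa [ha1] using hr

theorem exists_conj (hP : Pair p q D) (hX : Flat q D X A R) :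
    ∀ B ∈ inside D X, ∃ x ∈ R, B = MulAut.conj x • A := by
  intro B hB
  obtain ⟨n, hn, h⟩ := CfsgLib.Solvable.exists_conj_eq_of_coprime hX.A_norm
    (B' := B) (by rw [hX.sup]; exact hB.2) (by rw [hP.card_mem A hX.mem, hP.card_mem B hB.1])
    (coprime_of_pgroup hP hX hX.pgrp).symm (Or.inr (solv_A hP hX))
  exact ⟨n, hn, h.symm⟩

theorem mem_zc (hP : Pair p q D) (hX : Flat q D X A R) :
    ∀ g ∈ R, g ∈ normalizer (A : Set G) → g ∈ R ⊓ centralizer (A : Set G) := fun g hg hn =>
  ⟨hg, CfsgLib.Solvable.inf_normalizer_le_centralizer hX.A_norm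
    (disjoint_of_coprime_natCard (coprime_of_pgroup hP hX hX.pgrp)) ⟨hg, hn⟩⟩

theorem conj_eq_iff (hP : Pair p q D) (hX : Flat q D X A R) :
    ∀ x ∈ R, ∀ y ∈ R, (MulAut.conj x • A = MulAut.conj y • A ↔
      x⁻¹ * y ∈ R ⊓ centralizer (A : Set G)) := by
  intro x hx y hy
  have e : MulAut.conj x • A = MulAut.conj y • A ↔ MulAut.conj (x⁻¹ * y) • A = A := by
    rw [map_mul, map_inv, mul_smul, inv_smul_eq_iff, eq_comm]
  rw [e, CfsgLib.Solvable.conj_smul_eq_self_iff]
  exact ⟨mem_zc hP hX _ (mul_mem (inv_mem hx) hy), fun h => centralizer_le_normalizer _ h.2⟩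

/-- An element whose conjugates under `A` commute pairwise is centralized by `A`. -/
theorem zc_of_comm (hP : Pair p q D) (hX : Flat q D X A R) {x : G} (hx : x ∈ R)
    (hc : ∀ a ∈ A, ∀ b ∈ A, Commute (a * x * a⁻¹) (b * x * b⁻¹)) :
    x ∈ R ⊓ centralizer (A : Set G) := by
  haveI : Fact q.Prime := ⟨hP.prime_q⟩
  by_contra hxz
  set B := MulAut.conj x • A with hBdef
  have hne : A ≠ B := fun h =>
    hxz (mem_zc hP hX x hx (CfsgLib.Solvable.conj_smul_eq_self_iff.1 h.symm))
  obtain ⟨Q, hQ, -, hQAB, k, hkQ, hk1, hkc⟩ := hP.line A hX.mem B (hP.conj_mem A hX.mem x) hne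
  set S : Set G := {z | ∃ a ∈ A, z = a * x * a⁻¹} with hS
  set Y := closure S with hY
  have hxY : x ∈ Y := subset_closure ⟨1, A.one_mem, by simp⟩
  have hYR : Y ≤ R := (closure_le _).2 (by
    rintro _ ⟨a, ha, rfl⟩
    exact (mem_normalizer_iff.1 (hX.A_norm ha) x).1 hx)
  have hAY : A ≤ normalizer (Y : Set G) := by
    rw [hY, le_normalizer_closure_iff]
    rintro a ha _ ⟨b, hb, rfl⟩
    exact subset_closure ⟨a * b, mul_mem ha hb, by group⟩
  haveI : IsMulCommutative Y := Subgroup.isMulCommutative_closure (by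
    rintro _ ⟨a, ha, rfl⟩ _ ⟨b, hb, rfl⟩
    exact (hc a ha b hb).eq)
  set W := ⁅Y, A⁆ with hW
  have hWY : W ≤ Y := CfsgLib.Solvable.commutator_le_of_normalizes hAY
  have hAW : A ≤ normalizer (W : Set G) := CfsgLib.Solvable.le_normalizer_commutator_right Y A
  have hBW : B ≤ W ⊔ A := by
    rw [hBdef, CfsgLib.Solvable.conj_smul_le_iff]
    intro a ha
    have e : x * a * x⁻¹ = ⁅x, a⁆ * a := by simp [commutatorElement_def, mul_assoc]
    rw [e]
    exact mul_mem (mem_sup_left (commutator_mem_commutator hxY ha)) (mem_sup_right ha)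
  have hkA : k ∈ centralizer (A : Set G) := centralizer_le (fun a ha => mem_sup_left ha) hkc
  have hkWA : k ∈ W ⊔ A := sup_le le_sup_right hBW (hQAB ▸ mem_sup_left hkQ)
  have hkX : k ∈ X := by
    rw [← hX.sup]
    exact sup_le_sup_right (hWY.trans hYR) A hkWA
  have hkR : k ∈ R := le_R hP hX k hkX (by
    obtain ⟨n, hn⟩ := hQ ⟨k, hkQ⟩
    have h' : k ^ q ^ n = 1 := congrArg Subtype.val hn
    obtain ⟨m, -, hm⟩ := (Nat.dvd_prime_pow hP.prime_q).1 (orderOf_dvd_of_pow_eq_one h')
    exact ⟨m, hm⟩)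
  have hkW : k ∈ W := mem_of_sup hP hX (hWY.trans hYR) hAW hkWA hkR
  have hbot := CfsgLib.Solvable.centralizer_inf_commutator_eq_bot hAY
    (coprime_of_pgroup hP hX (hX.pgrp.to_le hYR))
  exact hk1 (mem_bot.1 (hbot ▸ ⟨⟨hWY hkW, hkA⟩, hkW⟩ : k ∈ (⊥ : Subgroup G)))

/-- An element of `R` commuting with all members inside `X` centralizes `X`. -/
theorem cent_of_members (hP : Pair p q D) (hX : Flat q D X A R) {U : Subgroup G}
    (hUR : R ≤ normalizer (U : Set G)) (hU : U ≤ centralizer (A : Set G)) :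
    U ≤ centralizer (X : Set G) := by
  rw [le_centralizer_iff]
  calc X = sSup (inside D X) := hX.gen.symm
    _ ≤ centralizer (U : Set G) := sSup_le fun B hB => by
        obtain ⟨x, hx, rfl⟩ := exists_conj hP hX B hB
        rw [CfsgLib.Solvable.conj_smul_le_iff]
        intro a ha u hu
        have h1 : x⁻¹ * u * x ∈ U := by
          simpa using (mem_normalizer_iff.1 (hUR (inv_mem hx)) u).1 hu
        have h2 := hU h1 a ha
        calc u * (x * a * x⁻¹) = x * ((x⁻¹ * u * x) * a) * x⁻¹ := by group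
          _ = x * (a * (x⁻¹ * u * x)) * x⁻¹ := by rw [h2]
          _ = (x * a * x⁻¹) * u := by group

/-- An abelian subgroup of `R` normalized by `R` and `A` centralizes `X`. -/
theorem cent_of_abelian (hP : Pair p q D) (hX : Flat q D X A R) {U : Subgroup G} (hU : U ≤ R)
    (hUR : R ≤ normalizer (U : Set G)) (hUA : A ≤ normalizer (U : Set G))
    (hab : U ≤ centralizer (U : Set G)) : U ≤ centralizer (X : Set G) :=
  cent_of_members hP hX hUR fun x hx => (zc_of_comm hP hX (hU hx) fun a ha b hb =>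
    (hab ((mem_normalizer_iff.1 (hUA hb) x).1 hx) _ ((mem_normalizer_iff.1 (hUA ha) x).1 hx))).2

theorem commutator_le_centralizer (hP : Pair p q D) (hX : Flat q D X A R) :
    ⁅R, R⁆ ≤ centralizer (X : Set G) := by
  haveI : Fact q.Prime := ⟨hP.prime_q⟩
  let L : ℕ → Subgroup G := fun n => ((fun H : Subgroup G => ⁅H, R⁆)^[n]) R
  have hL0 : L 0 = R := rfl
  have hLs : ∀ n, L (n + 1) = ⁅L n, R⁆ := fun n => Function.iterate_succ_apply' _ n R
  have hLR : ∀ n, L n ≤ R := by
    intro n
    induction n with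
    | zero => exact le_rfl
    | succ n ih =>
      rw [hLs]
      exact (commutator_mono ih le_rfl).trans (commutator_le_self R)
  have hL1 : ∀ n, L (n + 1) ≤ ⁅R, R⁆ := fun n => by
    rw [hLs]; exact commutator_mono (hLR n) le_rfl
  have hLA : ∀ n, A ≤ normalizer (L n : Set G) := by
    intro n
    induction n with
    | zero => exact hX.A_norm
    | succ n ih =>
      rw [hLs, Subgroup.commutator_def, le_normalizer_closure_iff]
      rintro a ha _ ⟨u, hu, v, hv, rfl⟩
      refine subset_closure ⟨a * u * a⁻¹, (mem_normalizer_iff.1 (ih ha) u).1 hu,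
        a * v * a⁻¹, (mem_normalizer_iff.1 (hX.A_norm ha) v).1 hv, ?_⟩
      simp [commutatorElement_def, mul_assoc]
  have hLN : ∀ n, R ≤ normalizer (L (n + 1) : Set G) := fun n => by
    rw [hLs]; exact CfsgLib.Solvable.le_normalizer_commutator_right _ _
  have hnil : ∃ N, L N = ⊥ := by
    have key : ∀ n, L n = R.lowerCentralSeries n := by
      intro n
      induction n with
      | zero => rfl
      | succ n ih => rw [hLs, ih, Subgroup.lowerCentralSeries_succ]
    obtain ⟨N, hN⟩ := (Subgroup.isNilpotent_iff_lowerCentralSeries (S := R)).1 hX.pgrp.isNilpotent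
    exact ⟨N, (key N).trans hN⟩
  have hstep : ∀ n, L (n + 2) ≤ centralizer (X : Set G) → L (n + 1) ≤ centralizer (X : Set G) := by
    intro n hn
    have h2 : ⁅⁅L (n + 1), R⁆, R⁆ = ⊥ := by
      rw [← hLs, commutator_eq_bot_iff_le_centralizer]
      exact hn.trans (centralizer_le hX.R_le)
    have h1 : ⁅⁅R, L (n + 1)⁆, R⁆ = ⊥ := by rwa [commutator_comm R]
    have h3 : ⁅⁅R, R⁆, L (n + 1)⁆ = ⊥ := commutator_commutator_eq_bot_of_rotate h1 h2
    rw [commutator_eq_bot_iff_le_centralizer, le_centralizer_iff] at h3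
    exact cent_of_abelian hP hX (hLR _) (hLN n) (hLA _) (h3.trans (centralizer_le (hL1 n)))
  obtain ⟨N, hN⟩ := hnil
  have hall : ∀ d n, N ≤ n + d → L (n + 1) ≤ centralizer (X : Set G) := by
    intro d
    induction d with
    | zero =>
      intro n hn
      have hb : ∀ i, L (N + i) = ⊥ := by
        intro i
        induction i with
        | zero => exact hN
        | succ i ih => rw [← Nat.add_assoc, hLs, ih, commutator_bot_left]
      rw [show n + 1 = N + (n + 1 - N) by omega, hb]
      exact bot_le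
    | succ d ih => exact fun n hn => hstep n (ih (n + 1) (by omega))
  have := hall N 0 (by omega)
  rwa [hLs, hL0] at this

theorem zc_le (hP : Pair p q D) (hX : Flat q D X A R) :
    R ⊓ centralizer (A : Set G) ≤ centralizer (X : Set G) := by
  intro x hx
  obtain ⟨hxR, hxA⟩ := mem_inf.1 hx
  suffices h : X ≤ centralizer ({x} : Set G) from fun g hg => mem_centralizer_singleton_iff.1 (h hg)
  rw [← hX.gen]
  refine sSup_le fun B hB => ?_
  obtain ⟨y, hy, rfl⟩ := exists_conj hP hX B hB
  rw [CfsgLib.Solvable.conj_smul_le_iff]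
  intro a ha
  rw [mem_centralizer_singleton_iff]
  have hc : Commute (x⁻¹ * y⁻¹ * x * y) a := by
    have h := commutator_le_centralizer hP hX
      (commutator_mem_commutator (inv_mem hxR) (inv_mem hy))
    have h' := h a (hX.A_le ha)
    simp only [commutatorElement_def, inv_inv] at h'
    exact h'.symm
  have hxa : Commute x a := (hxA a ha).symm
  have h' : Commute (y⁻¹ * x * y) a := by
    simpa [mul_assoc] using hxa.mul_left hc
  have := h'.map (MulAut.conj y).toMonoidHom
  simpa [mul_assoc] using this.symm.eq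

theorem commutator_le (hP : Pair p q D) (hX : Flat q D X A R) :
    ⁅R, R⁆ ≤ R ⊓ centralizer (A : Set G) :=
  le_inf (commutator_le_self R) ((commutator_le_centralizer hP hX).trans (centralizer_le hX.A_le))

theorem commutator_eq_R (hP : Pair p q D) (hX : Flat q D X A R) : R ≤ ⁅R, A⁆ := by
  intro r hr
  have hAW : A ≤ normalizer ((⁅R, A⁆ : Subgroup G) : Set G) :=
    CfsgLib.Solvable.le_normalizer_commutator_right R A
  have hXW : X ≤ ⁅R, A⁆ ⊔ A := by
    rw [← hX.gen]
    refine sSup_le fun B hB => ?_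
    obtain ⟨x, hx, rfl⟩ := exists_conj hP hX B hB
    rw [CfsgLib.Solvable.conj_smul_le_iff]
    intro a ha
    have e : x * a * x⁻¹ = ⁅x, a⁆ * a := by simp [commutatorElement_def, mul_assoc]
    rw [e]
    exact mul_mem (mem_sup_left (commutator_mem_commutator hx ha)) (mem_sup_right ha)
  exact mem_of_sup hP hX (CfsgLib.Solvable.commutator_le_of_normalizes hX.A_norm) hAW
    (hXW (hX.R_le hr)) hr

theorem zc_le_commutator (hP : Pair p q D) (hX : Flat q D X A R) :
    R ⊓ centralizer (A : Set G) ≤ ⁅R, R⁆ := by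
  classical
  haveI : Fintype A := Fintype.ofFinite A
  let φ : A → (R →* R) := fun a =>
    { toFun := fun w => ⟨a * w * (a : G)⁻¹, (mem_normalizer_iff.1 (hX.A_norm a.2) w).1 w.2⟩
      map_one' := Subtype.ext (by simp)
      map_mul' := fun w w' => Subtype.ext (by simp [mul_assoc]) }
  let μ : R →* Abelianization R :=
    { toFun := fun w => ∏ a, Abelianization.of (φ a w)
      map_one' := by simp
      map_mul' := fun w w' => by simp [Finset.prod_mul_distrib] }
  have hinv : ∀ (b : A) (w : R), μ (φ b w) = μ w := by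
    intro b w
    show ∏ a, Abelianization.of (φ a (φ b w)) = ∏ a, Abelianization.of (φ a w)
    refine Fintype.prod_equiv (Equiv.mulRight b) _ _ fun a => ?_
    refine congrArg _ (Subtype.ext ?_)
    show (a : G) * ((b : G) * w * (b : G)⁻¹) * (a : G)⁻¹ =
      ((a * b : A) : G) * w * ((a * b : A) : G)⁻¹
    simp [mul_assoc]
  have hker : ⁅R, A⁆ ≤ μ.ker.map R.subtype := by
    rw [Subgroup.commutator_le]
    intro v hv a ha
    refine Subgroup.mem_map.2 ⟨⟨v, hv⟩ * φ ⟨a, ha⟩ (⟨v, hv⟩⁻¹), ?_, ?_⟩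
    · rw [MonoidHom.mem_ker, map_mul, hinv, map_inv, mul_inv_cancel]
    · show v * (a * v⁻¹ * a⁻¹) = ⁅v, a⁆
      simp [commutatorElement_def, mul_assoc]
  intro c hc
  obtain ⟨hcR, hcA⟩ := mem_inf.1 hc
  obtain ⟨w, hw, hwc⟩ := Subgroup.mem_map.1 (hker (commutator_eq_R hP hX hcR))
  have hwc' : (w : G) = c := hwc
  have h1 : μ w = Abelianization.of w ^ Nat.card A := by
    show ∏ a, Abelianization.of (φ a w) = _
    rw [Nat.card_eq_fintype_card, ← Finset.card_univ, ← Finset.prod_const]
    refine Finset.prod_congr rfl fun a _ => congrArg _ (Subtype.ext ?_)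
    show (a : G) * w * (a : G)⁻¹ = w
    rw [hwc', hcA a a.2, mul_inv_cancel_right]
  rw [MonoidHom.mem_ker, h1] at hw
  have h2 : orderOf (Abelianization.of w) = 1 :=
    Nat.eq_one_of_dvd_coprimes (coprime_of_pgroup hP hX hX.pgrp) (orderOf_dvd_of_pow_eq_one hw)
      ((orderOf_map_dvd _ w).trans (orderOf_dvd_natCard w))
  have h3 : w ∈ commutator R := (QuotientGroup.eq_one_iff w).1 (orderOf_eq_one_iff.1 h2)
  rw [← hwc', ← map_subtype_commutator]
  exact Subgroup.mem_map.2 ⟨w, h3, rfl⟩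

theorem eq_of_sup (hP : Pair p q D) (hX : Flat q D X A R) :
    ∀ U ≤ R, U ⊔ (R ⊓ centralizer (A : Set G)) = R → U = R := by
  intro U hU hsup
  set Z := R ⊓ centralizer (A : Set G) with hZ
  have hcent : ∀ z ∈ Z, ∀ r ∈ R, Commute z r := fun z hz r hr =>
    (zc_le hP hX hz r (hX.R_le hr)).symm
  have hUn : Z ≤ normalizer (U : Set G) := fun z hz => centralizer_le_normalizer _
    fun u hu => (hcent z hz u (hU hu)).symm.eq
  have hRR : ⁅R, R⁆ ≤ U := by
    rw [Subgroup.commutator_le]
    intro r hr s hs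
    rw [← hsup] at hr hs
    obtain ⟨u, hu, z, hz, rfl⟩ := (CfsgLib.Solvable.mem_sup_of_le_normalizer hUn).1 hr
    obtain ⟨v, hv, z', hz', rfl⟩ := (CfsgLib.Solvable.mem_sup_of_le_normalizer hUn).1 hs
    have e : ⁅u * z, v * z'⁆ = ⁅u, v⁆ := by
      have a1 := hcent z hz v (hU hv)
      have a2 := hcent z' hz' u (hU hu)
      have a3 := hcent z hz z' hz'.1
      simp only [commutatorElement_def, mul_inv_rev]
      calc u * z * (v * z') * (z⁻¹ * u⁻¹) * (z'⁻¹ * v⁻¹)
          = u * (z * v) * z' * z⁻¹ * (u⁻¹ * z'⁻¹) * v⁻¹ := by group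
        _ = u * v * (z * z') * z⁻¹ * (z'⁻¹ * u⁻¹) * v⁻¹ := by
          rw [a1.eq, (a2.inv_inv.symm).eq]; group
        _ = u * v * u⁻¹ * v⁻¹ := by rw [a3.eq]; group
    rw [e]
    simp only [commutatorElement_def]
    exact mul_mem (mul_mem (mul_mem hu hv) (inv_mem hu)) (inv_mem hv)
  refine le_antisymm hU (hsup.ge.trans (sup_le le_rfl ?_))
  exact (zc_le_commutator hP hX).trans hRR

theorem zpowers_eq (hP : Pair p q D) (hX : Flat q D X A R) {a : G} (ha : a ∈ A) (ha1 : a ≠ 1) :
    zpowers a = A := by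
  haveI : Fact p.Prime := ⟨hP.prime_p⟩
  refine eq_of_le_of_card_ge (zpowers_le.2 ha) ?_
  have h : a ^ p = 1 := by
    have := congrArg Subtype.val (pow_card_eq_one' (x := (⟨a, ha⟩ : A)))
    rw [hP.card_mem A hX.mem] at this
    simpa using this
  rw [Nat.card_zpowers, orderOf_eq_prime h ha1, hP.card_mem A hX.mem]

theorem anis (hP : Pair p q D) (hX : Flat q D X A R) :
    ∀ a ∈ A, a ≠ 1 → ∀ x ∈ R, x ∉ R ⊓ centralizer (A : Set G) →
      ∃ i : ℕ, ⁅x, a ^ i * x * (a ^ i)⁻¹⁆ ≠ 1 := by
  intro a ha ha1 x hx hxz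
  by_contra hno
  push Not at hno
  refine hxz (zc_of_comm hP hX hx fun b hb c hc => ?_)
  have hbc : b⁻¹ * c ∈ zpowers a := by
    rw [zpowers_eq hP hX ha ha1]; exact mul_mem (inv_mem hb) hc
  rw [← mem_powers_iff_mem_zpowers] at hbc
  obtain ⟨i, hi : a ^ i = b⁻¹ * c⟩ := hbc
  have h := (commutatorElement_eq_one_iff_commute.1 (hno i)).map (MulAut.conj b).toMonoidHom
  rw [hi] at h
  simpa [mul_assoc] using h

theorem exists_commutator (hP : Pair p q D) (hX : Flat q D X A R) :
    ∀ a ∈ A, a ≠ 1 → ∀ x ∈ R, ∃ y ∈ R,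
      x⁻¹ * (y⁻¹ * (a * y * a⁻¹)) ∈ R ⊓ centralizer (A : Set G) := by
  intro a ha ha1 x hx
  set Z := R ⊓ centralizer (A : Set G) with hZ
  haveI hZn : (Z.subgroupOf R).Normal := ⟨fun z hz r => by
    have h : Commute (z : G) (r : G) := (zc_le hP hX (mem_subgroupOf.1 hz) r (hX.R_le r.2)).symm
    rw [mem_subgroupOf, Subgroup.coe_mul, Subgroup.coe_mul, Subgroup.coe_inv, ← h.eq,
      mul_inv_cancel_right]
    exact mem_subgroupOf.1 hz⟩
  have hcomm : ∀ u v : R, (QuotientGroup.mk u : R ⧸ Z.subgroupOf R) * QuotientGroup.mk v =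
      QuotientGroup.mk v * QuotientGroup.mk u := by
    intro u v
    rw [← QuotientGroup.mk_mul, ← QuotientGroup.mk_mul, QuotientGroup.eq, mem_subgroupOf]
    have := commutator_le hP hX (commutator_mem_commutator (inv_mem v.2) (inv_mem u.2))
    exact by
      rw [hZ]
      simpa [commutatorElement_def, mul_assoc] using this
  let c : R → R := fun y => ⟨a * y * a⁻¹, (mem_normalizer_iff.1 (hX.A_norm ha) y).1 y.2⟩
  let ψ : R →* R ⧸ Z.subgroupOf R :=
    { toFun := fun y => QuotientGroup.mk (y⁻¹ * c y)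
      map_one' := by
        have : c 1 = 1 := Subtype.ext (by simp [c])
        simp [this]
      map_mul' := fun y w => by
        have hcm : c (y * w) = c y * c w := Subtype.ext (by simp [c, mul_assoc])
        rw [hcm, mul_inv_rev]
        simp only [QuotientGroup.mk_mul, QuotientGroup.mk_inv]
        rw [mul_assoc, ← mul_assoc (QuotientGroup.mk y)⁻¹, ← QuotientGroup.mk_inv,
          ← QuotientGroup.mk_inv, ← QuotientGroup.mk_mul, ← mul_assoc,
          hcomm w⁻¹ (y⁻¹ * c y), mul_assoc] }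
  have hker : ψ.ker = Z.subgroupOf R := by
    ext y
    rw [MonoidHom.mem_ker]
    show (QuotientGroup.mk (y⁻¹ * c y) : R ⧸ Z.subgroupOf R) = 1 ↔ _
    rw [QuotientGroup.eq_one_iff, mem_subgroupOf, mem_subgroupOf]
    show (y : G)⁻¹ * (a * y * a⁻¹) ∈ Z ↔ (y : G) ∈ Z
    constructor
    · intro hz
      set z := (y : G)⁻¹ * (a * y * a⁻¹) with hzdef
      have hza : Commute a z := hz.2 a ha
      have hiter : ∀ i : ℕ, a ^ i * y * (a ^ i)⁻¹ = y * z ^ i := by
        intro i
        induction i with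
        | zero => simp
        | succ i ih =>
          calc a ^ (i + 1) * (y : G) * (a ^ (i + 1))⁻¹ = a * (a ^ i * y * (a ^ i)⁻¹) * a⁻¹ := by
                rw [pow_succ']; group
            _ = (a * y * a⁻¹) * (a * z ^ i * a⁻¹) := by rw [ih]; group
            _ = y * z * z ^ i := by
              rw [(hza.pow_right i).eq, mul_inv_cancel_right, hzdef]; group
            _ = y * z ^ (i + 1) := by rw [pow_succ', mul_assoc]
      have hap : a ^ Nat.card A = 1 := by
        exact congrArg Subtype.val (pow_card_eq_one' (x := (⟨a, ha⟩ : A)))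
      have h := hiter (Nat.card A)
      rw [hap, inv_one, one_mul, mul_one, left_eq_mul] at h
      have h2 : orderOf z = 1 := Nat.eq_one_of_dvd_coprimes (coprime_of_pgroup hP hX hX.pgrp)
        (orderOf_dvd_of_pow_eq_one h)
        (by rw [← Subgroup.orderOf_mk z hz.1]; exact orderOf_dvd_natCard _)
      have hz1 : a * y * a⁻¹ = y := by
        have := orderOf_eq_one_iff.1 h2
        rw [hzdef, inv_mul_eq_one] at this
        exact this.symm
      refine ⟨y.2, fun b hb => ?_⟩
      rw [← zpowers_eq hP hX ha ha1] at hb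
      obtain ⟨i, rfl⟩ := mem_zpowers_iff.1 hb
      exact ((show Commute a (y : G) from mul_inv_eq_iff_eq_mul.1 hz1).zpow_left i).eq
    · intro hy
      have e : a * (y : G) * a⁻¹ = y := by rw [hy.2 a ha, mul_inv_cancel_right]
      rw [e, inv_mul_cancel]
      exact Z.one_mem
  have hsurj : Function.Surjective (QuotientGroup.kerLift ψ) := by
    refine (Nat.bijective_iff_injective_and_card _).2 ⟨QuotientGroup.kerLift_injective ψ, ?_⟩ |>.2
    rw [← Subgroup.index, ← Subgroup.index, hker]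
  obtain ⟨y', hy'⟩ := hsurj (QuotientGroup.mk ⟨x, hx⟩)
  induction y' using QuotientGroup.induction_on with
  | H y =>
    refine ⟨y, y.2, ?_⟩
    have h : (QuotientGroup.mk (y⁻¹ * c y) : R ⧸ Z.subgroupOf R) = QuotientGroup.mk ⟨x, hx⟩ := hy'
    exact mem_subgroupOf.1 (QuotientGroup.eq.1 h.symm)

end Flat

end CfsgLib.PairGen
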