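import Cfsg.Agent.Lib.Solvable.CoprimeAction
import Cfsg.Agent.Lib.Solvable.Core
import Cfsg.Prelude.Def_Local

/-!
# Classes of subgroups of prime order generating nonabelian lines

`Pair p q D`: any two members of `D` generate the product of a `q`-group by a member, with a
nontrivial central `q`-element, and this line is generated by any two of its members.
-/

set_option autoImplicit false

universe u

namespace CfsgLib.PairGen

open Subgroup
open scoped Pointwise

variable {G : Type u} [Group G]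

/-- The hypothesis on the class `D`. -/
structure Pair (p q : ℕ) (D : Set (Subgroup G)) : Prop where
  prime_p : p.Prime
  prime_q : q.Prime
  p_ne_two : p ≠ 2
  q_ne_two : q ≠ 2
  p_ne_q : p ≠ q
  card_mem : ∀ A ∈ D, Nat.card A = p
  conj_mem : ∀ A ∈ D, ∀ g : G, MulAut.conj g • A ∈ D
  line : ∀ A ∈ D, ∀ B ∈ D, A ≠ B → ∃ Q : Subgroup G, IsPGroup q Q ∧
    A ≤ normalizer (Q : Set G) ∧ Q ⊔ A = A ⊔ B ∧
    ∃ k ∈ Q, k ≠ 1 ∧ k ∈ centralizer ((A ⊔ B : Subgroup G) : Set G)
  line_eq : ∀ A ∈ D, ∀ B ∈ D, ∀ C ∈ D, C ≤ A ⊔ B → C ≠ A → A ⊔ C = A ⊔ B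

/-- The members of `D` inside a subgroup. -/
def inside (D : Set (Subgroup G)) (H : Subgroup G) : Set (Subgroup G) := {B | B ∈ D ∧ B ≤ H}

/-- `X` is generated by its members of `D` and is `R` by `A` for a `q`-group `R`. -/
structure Flat (q : ℕ) (D : Set (Subgroup G)) (X A R : Subgroup G) : Prop where
  mem : A ∈ D
  pgrp : IsPGroup q R
  norm : X ≤ normalizer (R : Set G)
  sup : R ⊔ A = X
  gen : sSup (inside D X) = X

/-- The whole group is a `q`-group by a member of `D`. -/
def Split (q : ℕ) (A : Subgroup G) : Prop :=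
  ∃ R : Subgroup G, R.Normal ∧ IsPGroup q R ∧ R ⊔ A = ⊤

end CfsgLib.PairGen
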